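/-
Properties of a subspace relative to the subgroups stabilizing it, and their behaviour under
changes of the acting group.
-/
import Cfsg.Agent.Lib.S3Free.Main

set_option autoImplicit false
set_option linter.unusedSectionVars false
set_option linter.style.haveILetI false

namespace Cfsg.Agent.SFW

open Module Cfsg.Agent.S3Free

universe u

section Defs

variable {X : Type u} [Group X] {V : Type u} [AddCommGroup V] [Module (ZMod 2) V]
variable (ρ : X →* (V ≃ₗ[ZMod 2] V))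

/-- No subgroup of the stabilizer of `W` induces an offender on `W`. -/
def PW (W : Submodule (ZMod 2) V) : Prop :=
  ∀ D : Subgroup X, D ≤ stab ρ W → (∀ d ∈ D, ∀ u ∈ W, ρ (d * d) u = u) → ¬ D ≤ fixer ρ W →
    Nat.card D * Nat.card ↥(W ⊓ fx ρ D) < Nat.card ↥(D ⊓ fixer ρ W) * Nat.card W

/-- A subgroup acting cubically on `W` through a hyperplane, at most one step away from being an
offender. -/
structure GoodOn (W : Submodule (ZMod 2) V) (D : Subgroup X) (U₁ : Submodule (ZMod 2) V) : Prop where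
  sq : ∀ d ∈ D, ∀ u ∈ W, ρ (d * d) u = u
  moves : ¬ D ≤ fixer ρ W
  le_W : U₁ ≤ W
  hyper : Nat.card W = 2 * Nat.card U₁
  into : ∀ d ∈ D, ∀ v ∈ W, ρ d v + v ∈ U₁
  low : ∀ d ∈ D, ∀ v ∈ U₁, ρ d v + v ∈ fx ρ D
  inj : ∀ v ∈ W, v ∉ U₁ → ∀ d ∈ D, ρ d v + v ∈ fx ρ D → d ∈ fixer ρ W
  le : Nat.card ↥(D ⊓ fixer ρ W) * Nat.card W ≤ 2 * Nat.card D * Nat.card ↥(W ⊓ fx ρ D)

/-- No subgroup of the stabilizer of `W` inducing a group of order at least `k` is good on `W`. -/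
def PP (k : ℕ) (W : Submodule (ZMod 2) V) : Prop :=
  ∀ D : Subgroup X, D ≤ stab ρ W → k * Nat.card ↥(D ⊓ fixer ρ W) ≤ Nat.card D →
    ∀ U₁, ¬ GoodOn ρ W D U₁

/-- A good subgroup for a faithful action on the whole module. -/
def GoodTop (k : ℕ) (A : Subgroup X) : Prop :=
  El A ∧ k ≤ Nat.card A ∧ ∃ U₁, GoodOn ρ ⊤ A U₁

end Defs

variable {X : Type u} [Group X] [Finite X] {V : Type u} [AddCommGroup V] [Module (ZMod 2) V]
variable [Finite V] {ρ : X →* (V ≃ₗ[ZMod 2] V)}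

/-! ### Cardinalities -/

theorem card_sub (U : Submodule (ZMod 2) V) : Nat.card U = 2 ^ finrank (ZMod 2) U := by
  rw [Module.natCard_eq_pow_finrank (K := ZMod 2), Nat.card_zmod]

theorem card_sup_inf (U W : Submodule (ZMod 2) V) :
    Nat.card ↥(U ⊔ W) * Nat.card ↥(U ⊓ W) = Nat.card U * Nat.card W := by
  rw [card_sub, card_sub, card_sub, card_sub, ← pow_add, ← pow_add,
    Submodule.finrank_sup_add_finrank_inf_eq]

theorem card_mono {U W : Submodule (ZMod 2) V} (h : U ≤ W) : Nat.card U ≤ Nat.card W := by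
  rw [card_sub, card_sub]
  exact Nat.pow_le_pow_right (by norm_num) (Submodule.finrank_mono h)

theorem eq_of_card_le {U W : Submodule (ZMod 2) V} (h : U ≤ W) (hc : Nat.card W ≤ Nat.card U) :
    U = W := by
  refine Submodule.eq_of_le_of_finrank_le h ?_
  rw [card_sub, card_sub] at hc
  exact (Nat.pow_le_pow_iff_right (by norm_num)).1 hc

theorem card_top_sub : Nat.card (⊤ : Submodule (ZMod 2) V) = Nat.card V :=
  Nat.card_congr (Submodule.topEquiv (R := ZMod 2) (M := V)).toEquiv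

theorem fixer_top_eq_bot (inj : Function.Injective ρ) : fixer ρ (⊤ : Submodule (ZMod 2) V) = ⊥ :=
  (Subgroup.eq_bot_iff_forall _).2 fun g hg => inj (by
    rw [map_one]
    exact LinearEquiv.ext fun v => hg v Submodule.mem_top)

theorem mem_stab_top (g : X) : g ∈ stab ρ (⊤ : Submodule (ZMod 2) V) :=
  mem_stab_of_mem ρ fun _ _ => Submodule.mem_top

/-- Offenders in terms of orders. -/
theorem off_iff {A : Subgroup X} :
    Off ρ A ↔ El A ∧ A ≠ ⊥ ∧ Nat.card V ≤ Nat.card A * Nat.card (fx ρ A) := by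
  unfold Off
  refine and_congr_right fun hEl => and_congr_right fun _ => ?_
  rw [hEl.card, card_sub, ← pow_add, Module.natCard_eq_pow_finrank (K := ZMod 2) (V := V),
    Nat.card_zmod, Nat.pow_le_pow_iff_right (by norm_num)]

/-! ### Conjugation -/

theorem fixer_map (W : Submodule (ZMod 2) V) (g : X) :
    fixer ρ (W.map (ρ g).toLinearMap) = cjS g (fixer ρ W) := by
  ext x
  rw [mem_cjS]
  constructor
  · intro h w hw
    have h1 := congrArg (ρ g⁻¹) (h _ ⟨w, hw, rfl⟩)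
    change ρ g⁻¹ (ρ x (ρ g w)) = ρ g⁻¹ (ρ g w) at h1
    rw [apply_inv_apply] at h1
    rw [apply_mul, apply_mul]
    exact h1
  · rintro h _ ⟨w, hw, rfl⟩
    change ρ x (ρ g w) = ρ g w
    have h1 := congrArg (ρ g) (h w hw)
    rwa [apply_mul, apply_mul, apply_apply_inv] at h1

theorem cjS_inf (g : X) (A B : Subgroup X) : cjS g (A ⊓ B) = cjS g A ⊓ cjS g B :=
  Subgroup.map_inf A B _ (MulAut.conj g).injective

theorem card_cjS (g : X) (A : Subgroup X) : Nat.card (cjS g A) = Nat.card A :=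
  Subgroup.card_map_of_injective (MulAut.conj g).injective

theorem PW.map {W : Submodule (ZMod 2) V} (h : PW ρ W) (g : X) :
    PW ρ (W.map (ρ g).toLinearMap) := by
  intro D hD hsq hne
  have hD' : cjS g⁻¹ D ≤ stab ρ W := by
    rw [cjS_le_iff, inv_inv, ← stab_map]; exact hD
  have hne' : ¬ cjS g⁻¹ D ≤ fixer ρ W := by
    rw [cjS_le_iff, inv_inv, ← fixer_map]; exact hne
  have h1 := h _ hD' (by
    intro d hd u hu
    rw [mem_cjS, inv_inv] at hd
    have h2 := congrArg (ρ g⁻¹) (hsq _ hd _ ⟨u, hu, rfl⟩)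
    change ρ g⁻¹ (ρ (g * d * g⁻¹ * (g * d * g⁻¹)) (ρ g u)) = ρ g⁻¹ (ρ g u) at h2
    rw [apply_inv_apply, ← apply_mul, ← apply_mul] at h2
    simpa [mul_assoc] using h2) hne'
  rw [card_cjS] at h1
  have h3 : W ⊓ fx ρ (cjS g⁻¹ D) = (W.map (ρ g).toLinearMap ⊓ fx ρ D).map (ρ g⁻¹).toLinearMap := by
    rw [Submodule.map_inf _ (ρ g⁻¹).injective, map_inv_map, ← fx_cjS]
  have h4 : cjS g⁻¹ D ⊓ fixer ρ W = cjS g⁻¹ (D ⊓ fixer ρ (W.map (ρ g).toLinearMap)) := by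
    rw [cjS_inf, fixer_map, ← cjS_mul, inv_mul_cancel, cjS_one]
  have h5 : Nat.card (W.map (ρ g).toLinearMap) = Nat.card W := by
    rw [card_sub, card_sub]; exact congrArg _ (LinearEquiv.finrank_map_eq (ρ g) W)
  rw [h4, card_cjS, card_sub (W ⊓ _), h3,
    show finrank (ZMod 2) ((W.map (ρ g).toLinearMap ⊓ fx ρ D).map (ρ g⁻¹).toLinearMap) =
      finrank (ZMod 2) ↥(W.map (ρ g).toLinearMap ⊓ fx ρ D) from LinearEquiv.finrank_map_eq _ _,
    ← card_sub, ← h5] at h1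
  exact h1

theorem GoodOn.map {W U₁ : Submodule (ZMod 2) V} {D : Subgroup X} (h : GoodOn ρ W D U₁) (g : X) :
    GoodOn ρ (W.map (ρ g).toLinearMap) (cjS g D) (U₁.map (ρ g).toLinearMap) := by
  have hco : ∀ d ∈ cjS g D, ∀ w : V, ρ d (ρ g w) = ρ g (ρ (g⁻¹ * d * g) w) := fun d _ w => by
    rw [← apply_mul, ← apply_mul]; simp [mul_assoc]
  have hfx : ∀ w : V, ρ g w ∈ fx ρ (cjS g D) ↔ w ∈ fx ρ D := fun w => by
    rw [fx_cjS]
    exact ⟨fun ⟨w', hw', he⟩ => (ρ g).injective he ▸ hw', fun hw => ⟨w, hw, rfl⟩⟩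
  have hc : ∀ U : Submodule (ZMod 2) V, Nat.card (U.map (ρ g).toLinearMap) = Nat.card U := fun U => by
    rw [card_sub, card_sub]; exact congrArg _ (LinearEquiv.finrank_map_eq (ρ g) U)
  refine ⟨?_, ?_, Submodule.map_mono h.le_W, by rw [hc, hc, h.hyper], ?_, ?_, ?_, ?_⟩
  · rintro d hd _ ⟨u, hu, rfl⟩
    change ρ (d * d) (ρ g u) = ρ g u
    rw [hco _ ((cjS g D).mul_mem hd hd), show g⁻¹ * (d * d) * g = g⁻¹ * d * g * (g⁻¹ * d * g) by group,
      h.sq _ (mem_cjS.1 hd) u hu]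
  · rw [fixer_map]
    exact fun hle => h.moves ((Subgroup.map_le_map_iff_of_injective (MulAut.conj g).injective).1 hle)
  · rintro d hd _ ⟨v, hv, rfl⟩
    exact ⟨_, h.into _ (mem_cjS.1 hd) v hv, by
      change ρ g (ρ (g⁻¹ * d * g) v + v) = ρ d (ρ g v) + ρ g v
      rw [map_add, hco d hd]⟩
  · rintro d hd _ ⟨v, hv, rfl⟩
    change ρ d (ρ g v) + ρ g v ∈ _
    rw [hco d hd, ← map_add, hfx]
    exact h.low _ (mem_cjS.1 hd) v hv
  · rintro _ ⟨v, hv, rfl⟩ hnot d hd hm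
    change ρ d (ρ g v) + ρ g v ∈ _ at hm
    rw [hco d hd, ← map_add, hfx] at hm
    rw [fixer_map, mem_cjS]
    exact h.inj v hv (fun hv1 => hnot ⟨v, hv1, rfl⟩) _ (mem_cjS.1 hd) hm
  · rw [fixer_map, ← cjS_inf, card_cjS, card_cjS, fx_cjS, ← Submodule.map_inf _ (ρ g).injective,
      hc, hc]
    exact h.le

theorem GoodTop.cjS {k : ℕ} {A : Subgroup X} (h : GoodTop ρ k A) (g : X) :
    GoodTop ρ k (S3Free.cjS g A) := by
  obtain ⟨hEl, hk, U₁, hG⟩ := h
  refine ⟨hEl.cjS g, by rwa [card_cjS], U₁.map (ρ g).toLinearMap, ?_⟩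
  have h1 := hG.map g
  rwa [show (⊤ : Submodule (ZMod 2) V).map (ρ g).toLinearMap = ⊤ from
    (mem_stab ρ).1 (mem_stab_top g)] at h1

theorem PP.map {k : ℕ} {W : Submodule (ZMod 2) V} (h : PP ρ k W) (g : X) :
    PP ρ k (W.map (ρ g).toLinearMap) := by
  intro D hD hk U₁ hG
  have h1 := hG.map g⁻¹
  rw [map_inv_map] at h1
  refine h _ (by rw [cjS_le_iff, inv_inv, ← stab_map]; exact hD) ?_ _ h1
  rw [card_cjS, ← map_inv_map ρ W g, fixer_map, ← cjS_inf, card_cjS]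
  exact hk

/-! ### Reduction to a Sylow subgroup -/

theorem fixer_normal_in_stab {W : Submodule (ZMod 2) V} {x y : X} (hx : x ∈ stab ρ W)
    (hy : y ∈ fixer ρ W) : x * y * x⁻¹ ∈ fixer ρ W := fun v hv => by
  rw [apply_mul, apply_mul, hy _ (apply_mem_of_stab ρ ((stab ρ W).inv_mem hx) hv), apply_apply_inv]

/-- A subgroup with elementary image on `W` has a `2`-subgroup with the same image. -/
theorem exists_two_image {W : Submodule (ZMod 2) V} {D : Subgroup X} (hD : D ≤ stab ρ W)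
    (hsq : ∀ d ∈ D, ∀ u ∈ W, ρ (d * d) u = u) :
    ∃ Q ≤ D, IsPGroup 2 Q ∧ Nat.card D * Nat.card ↥(Q ⊓ fixer ρ W) =
      Nat.card Q * Nat.card ↥(D ⊓ fixer ρ W) ∧ W ⊓ fx ρ Q = W ⊓ fx ρ D ∧
      ∀ d ∈ D, ∃ q ∈ Q, ∀ u ∈ W, ρ d u = ρ q u := by
  classical
  set r := res ρ D W hD with hr
  haveI : Finite (W ≃ₗ[ZMod 2] W) := Finite.of_injective (fun e => (e : W → W)) DFunLike.coe_injective
  have h2 : IsPGroup 2 r.range := by
    rintro ⟨_, d, rfl⟩
    refine ⟨1, Subtype.ext (LinearEquiv.ext fun u => Subtype.ext ?_)⟩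
    rw [pow_one, pow_two]
    change ρ (d : X) (ρ (d : X) (u : V)) = u
    rw [← apply_mul]
    exact hsq d d.2 u u.2
  obtain ⟨P⟩ : Nonempty (Sylow 2 D) := inferInstance
  have hPs : (P : Subgroup D).map r.rangeRestrict = ⊤ := by
    rw [← Sylow.coe_mapSurjective r.rangeRestrict_surjective P]
    exact (P.mapSurjective r.rangeRestrict_surjective).is_maximal'
      (h2.of_equiv Subgroup.topEquiv.symm) le_top |>.symm
  set Q := (P : Subgroup D).map D.subtype with hQ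
  have hQD : Q ≤ D := Subgroup.map_subtype_le _
  have hsurj : ∀ d ∈ D, ∃ q ∈ Q, ∀ u ∈ W, ρ d u = ρ q u := by
    intro d hd
    have h1 : r.rangeRestrict ⟨d, hd⟩ ∈ (P : Subgroup D).map r.rangeRestrict := hPs ▸ Subgroup.mem_top _
    obtain ⟨q, hq, hqe⟩ := h1
    refine ⟨q, ⟨q, hq, rfl⟩, fun u hu => ?_⟩
    have h3 := congrArg Subtype.val (LinearEquiv.congr_fun (congrArg Subtype.val hqe) ⟨u, hu⟩)
    exact h3.symm
  refine ⟨Q, hQD, P.2.map _, ?_, ?_, hsurj⟩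
  · -- both quotients have the same image
    have key : ∀ H : Subgroup X, H ≤ D → (∀ d ∈ D, ∃ q ∈ H, ∀ u ∈ W, ρ d u = ρ q u) →
        Nat.card H = Nat.card ↥(H ⊓ fixer ρ W) * Nat.card r.range := by
      intro H hH hs
      set f := r.comp (Subgroup.inclusion hH) with hf
      have hk : Nat.card f.ker = Nat.card ↥(H ⊓ fixer ρ W) := by
        refine Nat.card_congr ⟨fun x => ⟨(x : X), x.1.2, fun u hu => ?_⟩, fun x => ⟨⟨x, x.2.1⟩, ?_⟩,
          fun x => rfl, fun x => rfl⟩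
        · exact congrArg Subtype.val (LinearEquiv.congr_fun (MonoidHom.mem_ker.1 x.2) ⟨u, hu⟩)
        · exact LinearEquiv.ext fun u => Subtype.ext (x.2.2 u u.2)
      have hrg : f.range = r.range := by
        refine le_antisymm (by rintro _ ⟨x, rfl⟩; exact ⟨_, rfl⟩) ?_
        rintro _ ⟨d, rfl⟩
        obtain ⟨q, hq, he⟩ := hs d d.2
        exact ⟨⟨q, hq⟩, LinearEquiv.ext fun u => Subtype.ext (he u u.2).symm⟩
      rw [← f.ker.card_mul_index, Subgroup.index_ker, hk, hrg]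
    rw [key D le_rfl (fun d hd => ⟨d, hd, fun _ _ => rfl⟩), key Q hQD hsurj]
    ring
  · refine le_antisymm (fun v hv => ⟨hv.1, fun d hd => ?_⟩) (inf_le_inf_left _ (fx_anti ρ hQD))
    obtain ⟨q, hq, he⟩ := hsurj d hd
    rw [he v hv.1]
    exact hv.2 q hq

/-- A `2`-subgroup of the stabilizer can be moved into a given Sylow subgroup. -/
theorem exists_conj_sylow {W : Submodule (ZMod 2) V} {S : Sylow 2 X}
    (hS : (S : Subgroup X) ≤ stab ρ W) {Q : Subgroup X} (hQ : IsPGroup 2 Q) (hQW : Q ≤ stab ρ W) :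
    ∃ m ∈ stab ρ W, cjS m Q ≤ (S : Subgroup X) := by
  have hp : IsPGroup 2 (Q.subgroupOf (stab ρ W)) :=
    hQ.comap_of_injective _ (stab ρ W).subtype_injective
  obtain ⟨P, hP⟩ := hp.exists_le_sylow
  obtain ⟨m, hm⟩ := MulAction.exists_smul_eq (stab ρ W) P (S.subtype hS)
  refine ⟨m, m.2, ?_⟩
  rw [cjS_le_iff]
  intro x hx
  rw [mem_cjS, inv_inv]
  have h1 : m * ⟨x, hQW hx⟩ * m⁻¹ ∈ ((m • P : Sylow 2 (stab ρ W)) : Subgroup (stab ρ W)) := by
    rw [Sylow.coe_subgroup_smul]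
    exact Subgroup.smul_mem_pointwise_smul _ (MulAut.conj m) _
      (hP (show (⟨x, hQW hx⟩ : stab ρ W) ∈ Q.subgroupOf (stab ρ W) from hx))
  rw [hm, Sylow.coe_subtype, Subgroup.mem_subgroupOf] at h1
  exact h1

theorem PW.of_sylow {W : Submodule (ZMod 2) V} {S : Sylow 2 X} (hS : (S : Subgroup X) ≤ stab ρ W)
    (h : ∀ D : Subgroup X, D ≤ (S : Subgroup X) → (∀ d ∈ D, ∀ u ∈ W, ρ (d * d) u = u) →
      ¬ D ≤ fixer ρ W →
      Nat.card D * Nat.card ↥(W ⊓ fx ρ D) < Nat.card ↥(D ⊓ fixer ρ W) * Nat.card W) :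
    PW ρ W := by
  intro D hD hsq hne
  obtain ⟨Q, hQD, hQ2, hcard, hfx, hsurj⟩ := exists_two_image hD hsq
  obtain ⟨m, hm, hmS⟩ := exists_conj_sylow hS hQ2 (hQD.trans hD)
  have hWm : W.map (ρ m).toLinearMap = W := (mem_stab ρ).1 hm
  have hfm : cjS m (fixer ρ W) = fixer ρ W := by rw [← fixer_map, hWm]
  have h1 := h (cjS m Q) hmS ?_ ?_
  · have hsub : W ⊓ fx ρ (cjS m Q) = (W ⊓ fx ρ Q).map (ρ m).toLinearMap := by
      rw [Submodule.map_inf _ (ρ m).injective, hWm, fx_cjS]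
    rw [card_cjS, show cjS m Q ⊓ fixer ρ W = cjS m (Q ⊓ fixer ρ W) by rw [cjS_inf, hfm], card_cjS,
      card_sub (W ⊓ _), hsub,
      show finrank (ZMod 2) ((W ⊓ fx ρ Q).map (ρ m).toLinearMap) = finrank (ZMod 2) ↥(W ⊓ fx ρ Q) from
        LinearEquiv.finrank_map_eq _ _, ← card_sub, hfx] at h1
    have hpos : 0 < Nat.card ↥(Q ⊓ fixer ρ W) := Nat.card_pos
    refine Nat.lt_of_mul_lt_mul_right (a := Nat.card ↥(Q ⊓ fixer ρ W)) ?_
    calc Nat.card D * Nat.card ↥(W ⊓ fx ρ D) * Nat.card ↥(Q ⊓ fixer ρ W)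
        = Nat.card Q * Nat.card ↥(W ⊓ fx ρ D) * Nat.card ↥(D ⊓ fixer ρ W) := by
          rw [mul_right_comm, hcard]; ring
      _ < Nat.card ↥(Q ⊓ fixer ρ W) * Nat.card W * Nat.card ↥(D ⊓ fixer ρ W) :=
          Nat.mul_lt_mul_of_pos_right h1 Nat.card_pos
      _ = _ := by ring
  · intro d hd u hu
    rw [mem_cjS] at hd
    have h2 := congrArg (ρ m) (hsq _ (hQD hd) _ (apply_mem_of_stab ρ ((stab ρ W).inv_mem hm) hu))
    rw [← apply_mul, ← apply_mul, apply_apply_inv] at h2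
    simpa [mul_assoc] using h2
  · intro hle
    rw [← hfm] at hle
    have hle' : Q ≤ fixer ρ W :=
      (Subgroup.map_le_map_iff_of_injective (MulAut.conj m).injective).1 hle
    refine hne fun d hd v hv => ?_
    obtain ⟨q, hq, he⟩ := hsurj d hd
    rw [he v hv]
    exact hle' hq v hv

/-! ### Change of the acting group -/

section Transfer

variable {Y : Type u} [Group Y] [Finite Y] {V' : Type u} [AddCommGroup V'] [Module (ZMod 2) V']
variable [Finite V'] {τ : Y →* (V' ≃ₗ[ZMod 2] V')} {K : Subgroup X} (f : K →* Y)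
variable (ι : V' →ₗ[ZMod 2] V)

/-- The action of `Y` on `V'` is induced by that of `K` on `V`. -/
structure Compat (ρ : X →* (V ≃ₗ[ZMod 2] V)) (τ : Y →* (V' ≃ₗ[ZMod 2] V')) : Prop where
  surj : Function.Surjective f
  inj : Function.Injective ι
  act : ∀ (k : K) (v : V'), ι (τ (f k) v) = ρ (k : X) (ι v)

variable {f ι}

theorem Compat.mem_fixer (hc : Compat f ι ρ τ) (W : Submodule (ZMod 2) V') (k : K) :
    f k ∈ fixer τ W ↔ (k : X) ∈ fixer ρ (W.map ι) := by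
  constructor
  · rintro h _ ⟨v, hv, rfl⟩
    rw [← hc.act, h v hv]
  · exact fun h v hv => hc.inj (by rw [hc.act, h _ ⟨v, hv, rfl⟩])

theorem Compat.mem_stab (hc : Compat f ι ρ τ) (W : Submodule (ZMod 2) V') (k : K) :
    f k ∈ stab τ W ↔ (k : X) ∈ stab ρ (W.map ι) := by
  constructor
  · intro h
    refine mem_stab_of_mem ρ ?_
    rintro _ ⟨v, hv, rfl⟩
    exact ⟨_, apply_mem_of_stab τ h hv, hc.act k v⟩
  · intro h
    refine mem_stab_of_mem τ fun v hv => ?_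
    obtain ⟨w, hw, he⟩ := apply_mem_of_stab ρ h ⟨v, hv, rfl⟩
    rw [← hc.act] at he
    exact hc.inj he ▸ hw

/-- The image in `Y` of a subgroup of `K`. -/
def imY (f : K →* Y) (D : Subgroup X) : Subgroup Y := (D.subgroupOf K).map f

theorem Compat.mem_fx (hc : Compat f ι ρ τ) {D : Subgroup X} (hDK : D ≤ K) (v : V') :
    v ∈ fx τ (imY f D) ↔ ι v ∈ fx ρ D := by
  constructor
  · intro h d hd
    rw [← hc.act ⟨d, hDK hd⟩, h _ ⟨⟨d, hDK hd⟩, hd, rfl⟩]
  · rintro h _ ⟨d, hd, rfl⟩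
    exact hc.inj ((hc.act d v).trans (h (d : X) hd))

theorem Compat.card_inf_fx (hc : Compat f ι ρ τ) {D : Subgroup X} (hDK : D ≤ K)
    (W : Submodule (ZMod 2) V') :
    Nat.card ↥(W ⊓ fx τ (imY f D)) = Nat.card ↥(W.map ι ⊓ fx ρ D) := by
  have h : W.map ι ⊓ fx ρ D = (W ⊓ fx τ (imY f D)).map ι := by
    refine le_antisymm ?_ ?_
    · rintro _ ⟨⟨v, hv, rfl⟩, hf⟩
      exact ⟨v, ⟨hv, (hc.mem_fx hDK v).2 hf⟩, rfl⟩
    · rintro _ ⟨v, ⟨hv, hf⟩, rfl⟩
      exact ⟨⟨v, hv, rfl⟩, (hc.mem_fx hDK v).1 hf⟩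
  rw [h]
  exact Nat.card_congr (Submodule.equivMapOfInjective ι hc.inj _).toEquiv

theorem Compat.card_map (hc : Compat f ι ρ τ) (W : Submodule (ZMod 2) V') :
    Nat.card (W.map ι) = Nat.card W :=
  (Nat.card_congr (Submodule.equivMapOfInjective ι hc.inj W).toEquiv).symm

/-- The order of the kernel part of a subgroup. -/
noncomputable def kerCard (f : K →* Y) (D : Subgroup X) : ℕ :=
  Nat.card ↥(D.subgroupOf K ⊓ f.ker)

theorem kerCard_pos (D : Subgroup X) : 0 < kerCard f D := Nat.card_pos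

theorem card_imY {D : Subgroup X} (hDK : D ≤ K) :
    Nat.card (imY f D) * kerCard f D = Nat.card D := by
  set g := f.comp (D.subgroupOf K).subtype with hg
  have hk : Nat.card g.ker = kerCard f D := by
    refine Nat.card_congr ⟨fun x => ⟨(x : K), x.1.2, x.2⟩, fun x => ⟨⟨x, x.2.1⟩, x.2.2⟩,
      fun x => rfl, fun x => rfl⟩
  have hr : g.range = imY f D := by rw [hg, MonoidHom.range_comp, Subgroup.range_subtype]; rfl
  rw [← hk, ← hr, ← Subgroup.index_ker, mul_comm, g.ker.card_mul_index,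
    Nat.card_congr (Subgroup.subgroupOfEquivOfLe hDK).toEquiv]

theorem Compat.imY_inf_fixer (hc : Compat f ι ρ τ) {D : Subgroup X} (hDK : D ≤ K)
    (W : Submodule (ZMod 2) V') :
    Nat.card ↥(imY f D ⊓ fixer τ W) * kerCard f D = Nat.card ↥(D ⊓ fixer ρ (W.map ι)) := by
  have h1 : imY f (D ⊓ fixer ρ (W.map ι)) = imY f D ⊓ fixer τ W := by
    refine le_antisymm ?_ ?_
    · rintro _ ⟨k, hk, rfl⟩
      exact ⟨⟨k, hk.1, rfl⟩, (hc.mem_fixer W k).2 hk.2⟩
    · rintro _ ⟨⟨k, hk, rfl⟩, hf⟩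
      exact ⟨k, ⟨hk, (hc.mem_fixer W k).1 hf⟩, rfl⟩
  have h2 : kerCard f (D ⊓ fixer ρ (W.map ι)) = kerCard f D := by
    refine Nat.card_congr (Equiv.setCongr (Set.ext fun k => ⟨fun h => ⟨h.1.1, h.2⟩, fun h => ⟨⟨h.1, ?_⟩, h.2⟩⟩))
    refine (hc.mem_fixer W k).1 ?_
    rw [MonoidHom.mem_ker.1 h.2]
    exact one_mem _
  rw [← h1, ← h2]
  exact card_imY (inf_le_left.trans hDK)

theorem Compat.imY_le_fixer (hc : Compat f ι ρ τ) {D : Subgroup X} (hDK : D ≤ K)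
    (W : Submodule (ZMod 2) V') : imY f D ≤ fixer τ W ↔ D ≤ fixer ρ (W.map ι) :=
  ⟨fun h d hd => (hc.mem_fixer W ⟨d, hDK hd⟩).1 (h ⟨⟨d, hDK hd⟩, hd, rfl⟩),
    fun h => by rintro _ ⟨k, hk, rfl⟩; exact (hc.mem_fixer W k).2 (h hk)⟩

theorem Compat.goodOn_iff (hc : Compat f ι ρ τ) {D : Subgroup X} (hDK : D ≤ K)
    (W U : Submodule (ZMod 2) V') :
    GoodOn τ W (imY f D) U ↔ GoodOn ρ (W.map ι) D (U.map ι) := by
  have hmem : ∀ {S : Submodule (ZMod 2) V'} {v : V'}, ι v ∈ S.map ι ↔ v ∈ S := fun {S v} =>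
    ⟨fun ⟨w, hw, he⟩ => hc.inj he ▸ hw, fun h => ⟨v, h, rfl⟩⟩
  have hcast : Nat.card ↥(D ⊓ fixer ρ (W.map ι)) * Nat.card W ≤
      2 * Nat.card D * Nat.card ↥(W.map ι ⊓ fx ρ D) ↔
      Nat.card ↥(imY f D ⊓ fixer τ W) * Nat.card W ≤
      2 * Nat.card (imY f D) * Nat.card ↥(W ⊓ fx τ (imY f D)) := by
    rw [← hc.imY_inf_fixer hDK W, ← card_imY (f := f) hDK, hc.card_inf_fx hDK]
    constructor
    · intro h
      refine Nat.le_of_mul_le_mul_right ?_ (kerCard_pos (f := f) D)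
      linarith
    · intro h
      have := Nat.mul_le_mul_right (kerCard f D) h
      linarith
  constructor
  · intro h
    refine ⟨?_, fun hle => h.moves ((hc.imY_le_fixer hDK W).2 hle), Submodule.map_mono h.le_W,
      by rw [hc.card_map, hc.card_map, h.hyper], ?_, ?_, ?_, by rw [hc.card_map]; exact hcast.2 h.le⟩
    · rintro d hd _ ⟨u, hu, rfl⟩
      rw [← hc.act ⟨d * d, K.mul_mem (hDK hd) (hDK hd)⟩]
      congr 1
      have := h.sq _ ⟨⟨d, hDK hd⟩, hd, rfl⟩ u hu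
      rwa [← map_mul] at this
    · rintro d hd _ ⟨v, hv, rfl⟩
      rw [← hc.act ⟨d, hDK hd⟩, ← map_add]
      exact hmem.2 (h.into _ ⟨⟨d, hDK hd⟩, hd, rfl⟩ v hv)
    · rintro d hd _ ⟨v, hv, rfl⟩
      rw [← hc.act ⟨d, hDK hd⟩, ← map_add, ← hc.mem_fx hDK]
      exact h.low _ ⟨⟨d, hDK hd⟩, hd, rfl⟩ v hv
    · rintro _ ⟨v, hv, rfl⟩ hnot d hd hm
      rw [← hc.act ⟨d, hDK hd⟩, ← map_add, ← hc.mem_fx hDK] at hm
      exact (hc.mem_fixer W ⟨d, hDK hd⟩).1
        (h.inj v hv (fun h1 => hnot (hmem.2 h1)) _ ⟨⟨d, hDK hd⟩, hd, rfl⟩ hm)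
  · intro h
    refine ⟨?_, fun hle => h.moves ((hc.imY_le_fixer hDK W).1 hle), fun v hv => hmem.1 (h.le_W (hmem.2 hv)),
      by rw [← hc.card_map W, ← hc.card_map U, h.hyper], ?_, ?_, ?_, hcast.1 (by
        have := h.le; rwa [hc.card_map] at this)⟩
    · rintro _ ⟨d, hd, rfl⟩ u hu
      refine hc.inj ?_
      rw [← map_mul, hc.act]
      exact h.sq _ hd _ ⟨u, hu, rfl⟩
    · rintro _ ⟨d, hd, rfl⟩ v hv
      refine hmem.1 ?_
      rw [map_add, hc.act]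
      exact h.into _ hd _ ⟨v, hv, rfl⟩
    · rintro _ ⟨d, hd, rfl⟩ v hv
      rw [hc.mem_fx hDK, map_add, hc.act]
      exact h.low _ hd _ ⟨v, hv, rfl⟩
    · rintro v hv hnot _ ⟨d, hd, rfl⟩ hm
      rw [hc.mem_fx hDK, map_add, hc.act] at hm
      exact (hc.mem_fixer W d).2 (h.inj _ ⟨v, hv, rfl⟩ (fun h1 => hnot (hmem.1 h1)) _ hd hm)

theorem imY_comap (hs : Function.Surjective f) (D' : Subgroup Y) :
    (D'.comap f).map K.subtype ≤ K ∧ imY f ((D'.comap f).map K.subtype) = D' := by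
  refine ⟨Subgroup.map_subtype_le _, ?_⟩
  rw [imY, Subgroup.subgroupOf, Subgroup.comap_map_eq_self_of_injective K.subtype_injective,
    Subgroup.map_comap_eq_self_of_surjective hs]

theorem Compat.pw (hc : Compat f ι ρ τ) {W : Submodule (ZMod 2) V'} (h : PW ρ (W.map ι)) :
    PW τ W := by
  intro D' hD hsq hne
  obtain ⟨hDK, hD'⟩ := imY_comap hc.surj D'
  set D := (D'.comap f).map K.subtype
  rw [← hD'] at hne ⊢
  have h1 := h D ?_ ?_ (fun hle => hne ((hc.imY_le_fixer hDK W).2 hle))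
  · rw [← hc.imY_inf_fixer hDK W, ← card_imY (f := f) hDK, ← hc.card_inf_fx hDK, hc.card_map] at h1
    refine Nat.lt_of_mul_lt_mul_right (a := kerCard f D) ?_
    linarith
  · rintro d hd
    exact (hc.mem_stab W ⟨d, hDK hd⟩).1 (hD (hD'.le (Subgroup.mem_map_of_mem f (show (⟨d, hDK hd⟩ : K) ∈ D.subgroupOf K from hd))))
  · rintro d hd _ ⟨u, hu, rfl⟩
    rw [← hc.act ⟨d * d, K.mul_mem (hDK hd) (hDK hd)⟩]
    congr 1
    have := hsq (f ⟨d, hDK hd⟩) (hD'.le (Subgroup.mem_map_of_mem f (show (⟨d, hDK hd⟩ : K) ∈ D.subgroupOf K from hd))) u hu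
    rwa [← map_mul] at this

theorem Compat.pp (hc : Compat f ι ρ τ) {k : ℕ} {W : Submodule (ZMod 2) V'}
    (h : PP ρ k (W.map ι)) : PP τ k W := by
  intro D' hD hk U hG
  obtain ⟨hDK, hD'⟩ := imY_comap hc.surj D'
  set D := (D'.comap f).map K.subtype
  rw [← hD'] at hG hk
  refine h D (fun d hd => (hc.mem_stab W ⟨d, hDK hd⟩).1 (hD (hD'.le (Subgroup.mem_map_of_mem f (show (⟨d, hDK hd⟩ : K) ∈ D.subgroupOf K from hd))))) ?_ _
    ((hc.goodOn_iff hDK W U).1 hG)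
  rw [← hc.imY_inf_fixer hDK W, ← card_imY (f := f) hDK, ← mul_assoc]
  exact Nat.mul_le_mul_right _ hk

theorem Compat.el (hc : Compat f ι ρ τ) (inj' : Function.Injective τ) {D : Subgroup X} (hDK : D ≤ K)
    (hsq : ∀ d ∈ D, ∀ u ∈ LinearMap.range ι, ρ (d * d) u = u) : El (imY f D) := by
  rintro _ ⟨d, hd, rfl⟩
  refine inj' (LinearEquiv.ext fun v => hc.inj ?_)
  rw [← map_mul, hc.act, map_one]
  exact hsq _ hd _ ⟨v, rfl⟩

/-- A subgroup inducing an offender gives an offender of the induced group. -/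
theorem Compat.pw_of_no_off (hc : Compat f ι ρ τ) (inj' : Function.Injective τ)
    (hno : ∀ A, ¬ Off τ A) {D : Subgroup X} (hDK : D ≤ K)
    (hsq : ∀ d ∈ D, ∀ u ∈ LinearMap.range ι, ρ (d * d) u = u)
    (hne : ¬ D ≤ fixer ρ (LinearMap.range ι)) :
    Nat.card D * Nat.card ↥(LinearMap.range ι ⊓ fx ρ D) <
      Nat.card ↥(D ⊓ fixer ρ (LinearMap.range ι)) * Nat.card ↥(LinearMap.range ι) := by
  rw [← Submodule.map_top] at hne ⊢
  by_contra hle
  refine hno (imY f D) (off_iff.2 ⟨hc.el inj' hDK hsq, fun hb => hne ?_, ?_⟩)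
  · exact (hc.imY_le_fixer hDK ⊤).1 (hb ▸ bot_le)
  · rw [← hc.imY_inf_fixer hDK, ← card_imY (f := f) hDK, ← hc.card_inf_fx hDK, hc.card_map,
      fixer_top_eq_bot inj', inf_bot_eq, Subgroup.card_bot, one_mul, card_top_sub, not_lt,
      top_inf_eq] at hle
    refine Nat.le_of_mul_le_mul_left ?_ (kerCard_pos (f := f) D)
    linarith

theorem Compat.pp_of_no_good (hc : Compat f ι ρ τ) (inj' : Function.Injective τ) {k : ℕ}
    (hno : ∀ A, ¬ GoodTop τ k A) {D : Subgroup X} (hDK : D ≤ K)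
    (hk : k * Nat.card ↥(D ⊓ fixer ρ (LinearMap.range ι)) ≤ Nat.card D)
    (U : Submodule (ZMod 2) V) : ¬ GoodOn ρ (LinearMap.range ι) D U := by
  intro hG
  have hU : U = (U.comap ι).map ι := (Submodule.map_comap_eq_self hG.le_W).symm
  refine hno (imY f D) ⟨hc.el inj' hDK fun d hd u hu => hG.sq d hd u hu, ?_, U.comap ι,
    (hc.goodOn_iff hDK ⊤ _).2 (by rwa [Submodule.map_top, ← hU])⟩
  rw [← Submodule.map_top, ← hc.imY_inf_fixer hDK, fixer_top_eq_bot inj', inf_bot_eq,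
    Subgroup.card_bot, one_mul, ← card_imY (f := f) hDK] at hk
  exact Nat.le_of_mul_le_mul_right hk (kerCard_pos D)

end Transfer

end Cfsg.Agent.SFW
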