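/-
Configurations: a subgroup acting cubically on a subspace and bijectively between the layers.
-/
import Cfsg.Agent.Lib.S3Free.Closure.Props

set_option autoImplicit false
set_option linter.unusedSectionVars false
set_option linter.style.haveILetI false
set_option maxHeartbeats 1000000

namespace Cfsg.Agent.SFW

open Module Cfsg.Agent.S3Free

universe u

section Defs

variable {X : Type u} [Group X] {V : Type u} [AddCommGroup V] [Module (ZMod 2) V]
variable (ρ : X →* (V ≃ₗ[ZMod 2] V))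

/-- A subgroup of the stabilizer of `W` acting with displacements in `U`, then in `T`, bijectively
onto the middle layer. -/
structure CfgOn (W : Submodule (ZMod 2) V) (A : Subgroup X) (U T : Submodule (ZMod 2) V) : Prop where
  stab : A ≤ S3Free.stab ρ W
  sq : ∀ d ∈ A, ∀ u ∈ W, ρ (d * d) u = u
  moves : ¬ A ≤ fixer ρ W
  le_W : U ≤ W
  ne : U ≠ W
  T_le : T ≤ U
  T_fx : T ≤ fx ρ A
  into : ∀ d ∈ A, ∀ v ∈ W, ρ d v + v ∈ U
  low : ∀ d ∈ A, ∀ v ∈ U, ρ d v + v ∈ T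
  inj : ∀ v ∈ W, v ∉ U → ∀ d ∈ A, ρ d v + v ∈ T → d ∈ fixer ρ W
  card : Nat.card A * Nat.card T = Nat.card ↥(A ⊓ fixer ρ W) * Nat.card U

/-- No configuration on `W`. -/
def NoCfg (W : Submodule (ZMod 2) V) : Prop :=
  ∀ (A : Subgroup X) (U T : Submodule (ZMod 2) V), ¬ CfgOn ρ W A U T

end Defs

variable {X : Type u} [Group X] [Finite X] {V : Type u} [AddCommGroup V] [Module (ZMod 2) V]
variable [Finite V] {ρ : X →* (V ≃ₗ[ZMod 2] V)}

theorem card_map_sub (U : Submodule (ZMod 2) V) (g : X) :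
    Nat.card (U.map (ρ g).toLinearMap) = Nat.card U := by
  rw [card_sub, card_sub]; exact congrArg _ (LinearEquiv.finrank_map_eq (ρ g) U)

theorem map_stab_top (g : X) : (⊤ : Submodule (ZMod 2) V).map (ρ g).toLinearMap = ⊤ :=
  (mem_stab ρ).1 (mem_stab_top g)

theorem CfgOn.map {W U T : Submodule (ZMod 2) V} {A : Subgroup X} (h : CfgOn ρ W A U T) (g : X) :
    CfgOn ρ (W.map (ρ g).toLinearMap) (cjS g A) (U.map (ρ g).toLinearMap)
      (T.map (ρ g).toLinearMap) := by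
  have hco : ∀ (d : X) (w : V), ρ d (ρ g w) = ρ g (ρ (g⁻¹ * d * g) w) := fun d w => by
    rw [← apply_mul, ← apply_mul]; simp [mul_assoc]
  refine ⟨?_, ?_, ?_, Submodule.map_mono h.le_W, ?_, Submodule.map_mono h.T_le, ?_, ?_, ?_, ?_, ?_⟩
  · rw [stab_map]; exact cjS_mono g h.stab
  · rintro d hd _ ⟨u, hu, rfl⟩
    change ρ (d * d) (ρ g u) = ρ g u
    rw [hco, show g⁻¹ * (d * d) * g = g⁻¹ * d * g * (g⁻¹ * d * g) by group,
      h.sq _ (mem_cjS.1 hd) u hu]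
  · rw [fixer_map]
    exact fun hle => h.moves ((Subgroup.map_le_map_iff_of_injective (MulAut.conj g).injective).1 hle)
  · exact fun he => h.ne (Submodule.map_injective_of_injective (ρ g).injective he)
  · rw [fx_cjS]; exact Submodule.map_mono h.T_fx
  · rintro d hd _ ⟨v, hv, rfl⟩
    change ρ d (ρ g v) + ρ g v ∈ _
    rw [hco, ← map_add]
    exact ⟨_, h.into _ (mem_cjS.1 hd) v hv, rfl⟩
  · rintro d hd _ ⟨v, hv, rfl⟩
    change ρ d (ρ g v) + ρ g v ∈ _
    rw [hco, ← map_add]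
    exact ⟨_, h.low _ (mem_cjS.1 hd) v hv, rfl⟩
  · rintro _ ⟨v, hv, rfl⟩ hnot d hd hm
    change ρ d (ρ g v) + ρ g v ∈ _ at hm
    rw [hco, ← map_add] at hm
    obtain ⟨w, hw, he⟩ := hm
    rw [fixer_map, mem_cjS]
    exact h.inj v hv (fun hv1 => hnot ⟨v, hv1, rfl⟩) _ (mem_cjS.1 hd) ((ρ g).injective he ▸ hw)
  · rw [fixer_map, ← cjS_inf, card_cjS, card_cjS, card_map_sub, card_map_sub]
    exact h.card

theorem NoCfg.map {W : Submodule (ZMod 2) V} (h : NoCfg ρ W) (g : X) :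
    NoCfg ρ (W.map (ρ g).toLinearMap) := by
  intro A U T hA
  have h1 := hA.map g⁻¹
  rw [map_inv_map] at h1
  exact h _ _ _ h1

theorem NoCfg.of_sylow {W : Submodule (ZMod 2) V} {S : Sylow 2 X}
    (hS : (S : Subgroup X) ≤ stab ρ W)
    (h : ∀ A U T, A ≤ (S : Subgroup X) → ¬ CfgOn ρ W A U T) : NoCfg ρ W := by
  intro D U T hD
  obtain ⟨Q, hQD, hQ2, hcard, -, hsurj⟩ := exists_two_image hD.stab hD.sq
  have hQ : CfgOn ρ W Q U T := by
    refine ⟨hQD.trans hD.stab, fun d hd => hD.sq d (hQD hd), fun hle => hD.moves fun d hd v hv => ?_,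
      hD.le_W, hD.ne, hD.T_le, hD.T_fx.trans (fx_anti ρ hQD), fun d hd => hD.into d (hQD hd),
      fun d hd => hD.low d (hQD hd), fun v hv hnot d hd => hD.inj v hv hnot d (hQD hd), ?_⟩
    · obtain ⟨q, hq, he⟩ := hsurj d hd
      rw [he v hv]
      exact hle hq v hv
    · refine Nat.eq_of_mul_eq_mul_right (Nat.card_pos (α := ↥(D ⊓ fixer ρ W))) ?_
      calc Nat.card Q * Nat.card T * Nat.card ↥(D ⊓ fixer ρ W)
          = (Nat.card Q * Nat.card ↥(D ⊓ fixer ρ W)) * Nat.card T := by ring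
        _ = Nat.card D * Nat.card ↥(Q ⊓ fixer ρ W) * Nat.card T := by rw [hcard]
        _ = Nat.card ↥(Q ⊓ fixer ρ W) * (Nat.card D * Nat.card T) := by ring
        _ = _ := by rw [hD.card]; ring
  obtain ⟨m, hm, hmS⟩ := exists_conj_sylow hS hQ2 hQ.stab
  have h1 := hQ.map m
  rw [(mem_stab ρ).1 hm] at h1
  exact h _ _ _ hmS h1

section Transfer

variable {Y : Type u} [Group Y] [Finite Y] {V' : Type u} [AddCommGroup V'] [Module (ZMod 2) V']
variable [Finite V'] {τ : Y →* (V' ≃ₗ[ZMod 2] V')} {K : Subgroup X} {f : K →* Y}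
variable {ι : V' →ₗ[ZMod 2] V}

theorem Compat.cfgOn_iff (hc : Compat f ι ρ τ) {D : Subgroup X} (hDK : D ≤ K)
    (W U T : Submodule (ZMod 2) V') :
    CfgOn τ W (imY f D) U T ↔ CfgOn ρ (W.map ι) D (U.map ι) (T.map ι) := by
  have hmem : ∀ {S : Submodule (ZMod 2) V'} {v : V'}, ι v ∈ S.map ι ↔ v ∈ S := fun {S v} =>
    ⟨fun ⟨w, hw, he⟩ => hc.inj he ▸ hw, fun h => ⟨v, h, rfl⟩⟩
  have hmap : ∀ {S S' : Submodule (ZMod 2) V'}, S.map ι ≤ S'.map ι ↔ S ≤ S' := fun {S S'} =>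
    Submodule.map_le_map_iff_of_injective hc.inj S S'
  have him : ∀ {d : X} (hd : d ∈ D), f ⟨d, hDK hd⟩ ∈ imY f D := fun {d} hd =>
    ⟨⟨d, hDK hd⟩, hd, rfl⟩
  have hcast : Nat.card D * Nat.card (T.map ι) = Nat.card ↥(D ⊓ fixer ρ (W.map ι)) * Nat.card (U.map ι)
      ↔ Nat.card (imY f D) * Nat.card T = Nat.card ↥(imY f D ⊓ fixer τ W) * Nat.card U := by
    rw [hc.card_map, hc.card_map, ← hc.imY_inf_fixer hDK W, ← card_imY (f := f) hDK]
    constructor
    · intro h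
      refine Nat.eq_of_mul_eq_mul_right (kerCard_pos (f := f) D) ?_
      linarith
    · intro h
      calc Nat.card (imY f D) * kerCard f D * Nat.card T
          = Nat.card (imY f D) * Nat.card T * kerCard f D := by ring
        _ = _ := by rw [h]; ring
  constructor
  · intro h
    refine ⟨fun d hd => (hc.mem_stab W ⟨d, hDK hd⟩).1 (h.stab (him hd)), ?_,
      fun hle => h.moves ((hc.imY_le_fixer hDK W).2 hle), hmap.2 h.le_W,
      fun he => h.ne (Submodule.map_injective_of_injective hc.inj he), hmap.2 h.T_le, ?_, ?_, ?_, ?_,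
      hcast.2 h.card⟩
    · rintro d hd _ ⟨u, hu, rfl⟩
      rw [← hc.act ⟨d * d, K.mul_mem (hDK hd) (hDK hd)⟩]
      congr 1
      have := h.sq _ (him hd) u hu
      rwa [← map_mul] at this
    · rintro _ ⟨v, hv, rfl⟩
      exact (hc.mem_fx hDK v).1 (h.T_fx hv)
    · rintro d hd _ ⟨v, hv, rfl⟩
      rw [← hc.act ⟨d, hDK hd⟩, ← map_add]
      exact hmem.2 (h.into _ (him hd) v hv)
    · rintro d hd _ ⟨v, hv, rfl⟩
      rw [← hc.act ⟨d, hDK hd⟩, ← map_add]
      exact hmem.2 (h.low _ (him hd) v hv)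
    · rintro _ ⟨v, hv, rfl⟩ hnot d hd hm
      rw [← hc.act ⟨d, hDK hd⟩, ← map_add, hmem] at hm
      exact (hc.mem_fixer W ⟨d, hDK hd⟩).1 (h.inj v hv (fun h1 => hnot (hmem.2 h1)) _ (him hd) hm)
  · intro h
    refine ⟨?_, ?_, fun hle => h.moves ((hc.imY_le_fixer hDK W).1 hle), hmap.1 h.le_W,
      fun he => h.ne (by rw [he]), hmap.1 h.T_le, fun v hv => (hc.mem_fx hDK v).2 (h.T_fx ⟨v, hv, rfl⟩),
      ?_, ?_, ?_, hcast.1 h.card⟩
    · rintro _ ⟨d, hd, rfl⟩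
      exact (hc.mem_stab W d).2 (h.stab hd)
    · rintro _ ⟨d, hd, rfl⟩ u hu
      refine hc.inj ?_
      rw [← map_mul, hc.act]
      exact h.sq _ hd _ ⟨u, hu, rfl⟩
    · rintro _ ⟨d, hd, rfl⟩ v hv
      refine hmem.1 ?_
      rw [map_add, hc.act]
      exact h.into _ hd _ ⟨v, hv, rfl⟩
    · rintro _ ⟨d, hd, rfl⟩ v hv
      refine hmem.1 ?_
      rw [map_add, hc.act]
      exact h.low _ hd _ ⟨v, hv, rfl⟩
    · rintro v hv hnot _ ⟨d, hd, rfl⟩ hm
      refine (hc.mem_fixer W d).2 (h.inj _ ⟨v, hv, rfl⟩ (fun h1 => hnot (hmem.1 h1)) _ hd ?_)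
      rw [← hc.act, ← map_add]
      exact hmem.2 hm

theorem Compat.noCfg (hc : Compat f ι ρ τ) {W : Submodule (ZMod 2) V'}
    (h : NoCfg ρ (W.map ι)) : NoCfg τ W := by
  intro D' U T hD
  obtain ⟨hDK, hD'⟩ := imY_comap hc.surj D'
  rw [← hD'] at hD
  exact h _ _ _ ((hc.cfgOn_iff hDK W U T).1 hD)

theorem Compat.noCfg_of_top (hc : Compat f ι ρ τ) (hno : NoCfg τ (⊤ : Submodule (ZMod 2) V'))
    {D : Subgroup X} (hDK : D ≤ K) (U T : Submodule (ZMod 2) V) :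
    ¬ CfgOn ρ (LinearMap.range ι) D U T := by
  intro h
  have hU : (U.comap ι).map ι = U := Submodule.map_comap_eq_self h.le_W
  have hT : (T.comap ι).map ι = T := Submodule.map_comap_eq_self (h.T_le.trans h.le_W)
  rw [← Submodule.map_top ι, ← hU, ← hT] at h
  exact hno _ _ _ ((hc.cfgOn_iff hDK _ _ _).2 h)

end Transfer

/-! ### A configuration on a faithful module -/

variable {A : Subgroup X} {U T : Submodule (ZMod 2) V}

theorem CfgOn.el (inj : Function.Injective ρ) (h : CfgOn ρ ⊤ A U T) : El A := fun d hd =>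
  inj (LinearEquiv.ext fun v => by rw [h.sq d hd v Submodule.mem_top, map_one]; rfl)

theorem CfgOn.ne_bot (h : CfgOn ρ ⊤ A U T) : A ≠ ⊥ := fun hb => h.moves (hb ▸ bot_le)

theorem CfgOn.U_ne_top (h : CfgOn ρ ⊤ A U T) : U ≠ ⊤ := h.ne

theorem CfgOn.card_eq (inj : Function.Injective ρ) (h : CfgOn ρ ⊤ A U T) :
    Nat.card A * Nat.card T = Nat.card U := by
  rw [h.card, fixer_top_eq_bot inj, inf_bot_eq, Subgroup.card_bot, one_mul]

theorem CfgOn.eq_one (inj : Function.Injective ρ) (h : CfgOn ρ ⊤ A U T) {x : V} (hx : x ∉ U)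
    {d : X} (hd : d ∈ A) (hm : ρ d x + x ∈ T) : d = 1 := by
  have h1 := h.inj x Submodule.mem_top hx d hd hm
  rwa [fixer_top_eq_bot inj, Subgroup.mem_bot] at h1

theorem dsp_mul (d e : X) (x : V) :
    ρ (d * e) x + x =
      (ρ d x + x) + (ρ e x + x) + (ρ d (ρ e x + x) + (ρ e x + x)) := by
  rw [apply_mul, map_add]
  calc ρ d (ρ e x) + x
      = ρ d (ρ e x) + x + (ρ d x + ρ d x) + ((ρ e x + ρ e x) + (x + x)) := by
        simp only [add_self, add_zero]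
    _ = _ := by abel

theorem CfgOn.dsp_mem (h : CfgOn ρ ⊤ A U T) {d e : X} (hd : d ∈ A) (he : e ∈ A) (x : V) :
    ρ (d * e) x + x + ((ρ d x + x) + (ρ e x + x)) ∈ T := by
  rw [dsp_mul, add_comm _ (ρ d x + x + (ρ e x + x)), ← add_assoc, add_self, zero_add]
  exact h.low d hd _ (h.into e he x Submodule.mem_top)

/-- A moved vector identifies the middle layer with the group. -/
theorem CfgOn.bij (inj : Function.Injective ρ) (h : CfgOn ρ ⊤ A U T) {x : V} (hx : x ∉ U) :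
    Function.Bijective (fun p : A × T => (⟨ρ (p.1 : X) x + x + (p.2 : V),
      U.add_mem (h.into _ p.1.2 x Submodule.mem_top) (h.T_le p.2.2)⟩ : U)) := by
  refine (Nat.bijective_iff_injective_and_card _).2 ⟨?_, by rw [Nat.card_prod]; exact h.card_eq inj⟩
  rintro ⟨⟨d, hd⟩, τ, hτ⟩ ⟨⟨e, he⟩, σ, hσ⟩ hpq
  have h1 : ρ d x + x + τ = ρ e x + x + σ := congrArg Subtype.val hpq
  have h2 : ρ d x + x + (ρ e x + x) = τ + σ := by
    calc ρ d x + x + (ρ e x + x) = ρ d x + x + τ + (ρ e x + x) + τ := by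
          rw [show ρ d x + x + τ + (ρ e x + x) + τ = ρ d x + x + (ρ e x + x) + (τ + τ) by abel,
            add_self, add_zero]
      _ = (ρ e x + x + σ) + (ρ e x + x) + τ := by rw [h1]
      _ = (ρ e x + x + (ρ e x + x)) + (τ + σ) := by abel
      _ = τ + σ := by rw [add_self, zero_add]
  have h3 := T.add_mem (h.dsp_mem hd he x) (h2.symm ▸ T.add_mem hτ hσ)
  rw [h2, add_assoc, add_self, add_zero] at h3
  have h4 := h.eq_one inj hx (A.mul_mem hd he) h3
  have hde : d = e := by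
    calc d = d * (e * e) := by rw [h.el inj e he, mul_one]
      _ = e := by rw [← mul_assoc, h4, one_mul]
  subst hde
  exact Prod.ext rfl (Subtype.ext (add_left_cancel h1))

theorem CfgOn.cover (inj : Function.Injective ρ) (h : CfgOn ρ ⊤ A U T) {x : V} (hx : x ∉ U) {u : V}
    (hu : u ∈ U) : ∃ d ∈ A, ρ d x + x + u ∈ T := by
  obtain ⟨⟨d, τ⟩, hp⟩ := (h.bij inj hx).2 ⟨u, hu⟩
  have h1 : ρ (d : X) x + x + (τ : V) = u := congrArg Subtype.val hp
  refine ⟨d, d.2, ?_⟩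
  rw [← h1, ← add_assoc, add_self, zero_add]
  exact τ.2

/-- A configuration restricts to an invariant subspace outside the middle layer. -/
theorem CfgOn.restrict (inj : Function.Injective ρ) (h : CfgOn ρ ⊤ A U T) {W : Submodule (ZMod 2) V}
    (hW : A ≤ S3Free.stab ρ W) (hnot : ¬ W ≤ U) :
    CfgOn ρ W A (W ⊓ U) (W ⊓ T) ∧ A ⊓ fixer ρ W = ⊥ := by
  obtain ⟨x, hxW, hxU⟩ := SetLike.not_le_iff_exists.1 hnot
  have hdsp : ∀ d ∈ A, ∀ v ∈ W, ρ d v + v ∈ W := fun d hd v hv =>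
    W.add_mem (apply_mem_of_stab ρ (hW hd) hv) hv
  have hA0 : A ⊓ fixer ρ W = ⊥ := (Subgroup.eq_bot_iff_forall _).2 fun d hd =>
    h.eq_one inj hxU hd.1 (by rw [hd.2 x hxW, add_self]; exact T.zero_mem)
  refine ⟨⟨hW, fun d hd u _ => h.sq d hd u Submodule.mem_top, fun hle => h.ne_bot ?_, inf_le_left,
    fun he => hnot (he ▸ inf_le_right), inf_le_inf_left _ h.T_le, inf_le_right.trans h.T_fx,
    fun d hd v hv => ⟨hdsp d hd v hv, h.into d hd v Submodule.mem_top⟩,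
    fun d hd v hv => ⟨hdsp d hd v hv.1, h.low d hd v hv.2⟩,
    fun v hv hnv d hd hm => ?_, ?_⟩, hA0⟩
  · rw [← hA0]; exact (inf_eq_left.2 hle).symm
  · rw [h.eq_one inj (fun h1 => hnv ⟨hv, h1⟩) hd hm.2]
    exact one_mem _
  · rw [hA0, Subgroup.card_bot, one_mul, ← Nat.card_prod]
    refine Nat.card_eq_of_bijective (fun p : A × ↥(W ⊓ T) => (⟨ρ (p.1 : X) x + x + (p.2 : V),
      W.add_mem (hdsp _ p.1.2 x hxW) p.2.2.1,
      U.add_mem (h.into _ p.1.2 x Submodule.mem_top) (h.T_le p.2.2.2)⟩ : ↥(W ⊓ U))) ⟨?_, ?_⟩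
    · intro p q hpq
      have h1 : ((p.1, (⟨(p.2 : V), p.2.2.2⟩ : T)) : A × T) = (q.1, ⟨q.2, q.2.2.2⟩) :=
        (h.bij inj hxU).1 (Subtype.ext (congrArg Subtype.val hpq :))
      obtain ⟨h2, h3⟩ := Prod.ext_iff.1 h1
      exact Prod.ext h2 (Subtype.ext (congrArg Subtype.val h3 :))
    · rintro ⟨u, huW, huU⟩
      obtain ⟨d, hd, hdu⟩ := h.cover inj hxU huU
      exact ⟨⟨⟨d, hd⟩, ⟨ρ d x + x + u, W.add_mem (hdsp d hd x hxW) huW, hdu⟩⟩, Subtype.ext (by
        change ρ d x + x + (ρ d x + x + u) = u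
        rw [← add_assoc, add_self, zero_add])⟩

end Cfsg.Agent.SFW
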