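/-
A linear family of invertible maps and a pencil of symmetric forms: no subspace is large relative
to its orthogonal.
-/
import Mathlib.LinearAlgebra.Dual.Lemmas
import Mathlib.LinearAlgebra.FiniteDimensional.Lemmas
import Mathlib.LinearAlgebra.Determinant
import Mathlib.LinearAlgebra.Matrix.Determinant.Basic
import Mathlib.FieldTheory.Finiteness
import Mathlib.FieldTheory.ChevalleyWarning
import Mathlib.RingTheory.Polynomial.UniqueFactorization
import Mathlib.Algebra.MvPolynomial.NoZeroDivisors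

set_option autoImplicit false
set_option linter.unusedSectionVars false
set_option linter.style.haveILetI false
set_option maxHeartbeats 1000000

namespace Cfsg.Agent.SFW

open Module

universe u

local notation "𝔽" => ZMod 2

theorem card_f2 (E : Type*) [AddCommGroup E] [Module 𝔽 E] [Finite E] :
    Nat.card E = 2 ^ finrank 𝔽 E := by
  rw [Module.natCard_eq_pow_finrank (K := ZMod 2), Nat.card_zmod]

section Img

variable {M P : Type*} [AddCommGroup M] [Module 𝔽 M] [AddCommGroup P] [Module 𝔽 P]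

/-- The span of the images of a subspace under a space of maps. -/
def img (H : Submodule 𝔽 (M →ₗ[𝔽] P)) (K : Submodule 𝔽 M) : Submodule 𝔽 P :=
  ⨆ h : H, K.map (h : M →ₗ[𝔽] P)

theorem mem_img {H : Submodule 𝔽 (M →ₗ[𝔽] P)} {K : Submodule 𝔽 M} {h : M →ₗ[𝔽] P} {k : M}
    (hh : h ∈ H) (hk : k ∈ K) : h k ∈ img H K :=
  le_iSup (fun h : H => K.map (h : M →ₗ[𝔽] P)) ⟨h, hh⟩ ⟨k, hk, rfl⟩

theorem img_le {H : Submodule 𝔽 (M →ₗ[𝔽] P)} {K : Submodule 𝔽 M} {Q : Submodule 𝔽 P}
    (h : ∀ f ∈ H, ∀ k ∈ K, f k ∈ Q) : img H K ≤ Q :=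
  iSup_le fun f => by rintro _ ⟨k, hk, rfl⟩; exact h _ f.2 k hk

end Img

section BlowUp

variable {M P : Type*} [AddCommGroup M] [Module 𝔽 M] [AddCommGroup P] [Module 𝔽 P]
variable [Finite M] [Finite P]

/-- The map of `d`-tuples given by a matrix of maps. -/
def blow {d : ℕ} (h : Fin d → Fin d → (M →ₗ[𝔽] P)) : (Fin d → M) →ₗ[𝔽] (Fin d → P) :=
  LinearMap.pi fun i => ∑ j, (h i j).comp (LinearMap.proj j)

theorem blow_apply {d : ℕ} (h : Fin d → Fin d → (M →ₗ[𝔽] P)) (v : Fin d → M) (i : Fin d) :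
    blow h v i = ∑ j, h i j (v j) := by
  simp [blow]

/-- A space of maps which is of maximal deficiency only on the whole space gives a surjection
between powers. -/
theorem exists_surj_blow (H : Submodule 𝔽 (M →ₗ[𝔽] P)) {δ : ℕ}
    (hδ : finrank 𝔽 M = finrank 𝔽 P + δ) (hspan : img H ⊤ = ⊤)
    (hlt : ∀ K : Submodule 𝔽 M, K ≠ ⊤ → finrank 𝔽 K + 1 ≤ finrank 𝔽 (img H K) + δ) :
    ∃ d, ∃ h : Fin d → Fin d → (M →ₗ[𝔽] P),
      0 < d ∧ (∀ i j, h i j ∈ H) ∧ Function.Surjective (blow h) := by
  classical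
  haveI : Finite (M →ₗ[𝔽] P) :=
    Finite.of_injective (fun f => (f : M → P)) DFunLike.coe_injective
  haveI : Finite (Submodule 𝔽 M) :=
    Finite.of_injective (fun K => (K : Set M)) SetLike.coe_injective
  set d := Nat.card (Submodule 𝔽 M) with hd
  have hd0 : 0 < d := Nat.card_pos
  haveI : Fintype M := Fintype.ofFinite _
  haveI : Fintype H := Fintype.ofFinite _
  haveI : Fintype (Submodule 𝔽 M) := Fintype.ofFinite _
  set C := Nat.card (Fin d → H) * 2 ^ δ with hC
  let R : (Fin d → M) → ((Fin d → H) →ₗ[𝔽] P) := fun v =>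
    ∑ j, ((LinearMap.applyₗ (v j)).comp H.subtype).comp (LinearMap.proj j)
  have hR : ∀ v g, R v g = ∑ j, (g j : M →ₗ[𝔽] P) (v j) := fun v g => by simp [R]
  let sp : (Fin d → M) → Submodule 𝔽 M := fun v => Submodule.span 𝔽 (Set.range v)
  have hrng : ∀ v, img H (sp v) ≤ LinearMap.range (R v) := by
    intro v
    refine img_le fun f hf k hk => ?_
    refine (Submodule.span_le.2 ?_ : sp v ≤ (LinearMap.range (R v)).comap f) hk
    rintro _ ⟨j, rfl⟩
    refine ⟨Pi.single j ⟨f, hf⟩, ?_⟩
    rw [hR, Finset.sum_eq_single j]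
    · rw [Pi.single_eq_same]
    · intro b _ hb
      rw [Pi.single_eq_of_ne hb]
      rfl
    · exact fun h => absurd (Finset.mem_univ j) h
  let kc : (Fin d → M) → ℕ := fun v => Nat.card (LinearMap.ker (R v))
  have hkc : ∀ v, kc v * 2 ^ finrank 𝔽 (img H (sp v)) ≤ Nat.card (Fin d → H) := by
    intro v
    have h1 := (LinearMap.ker (R v)).card_eq_card_quotient_mul_card
    rw [Nat.card_congr (R v).quotKerEquivRange.toEquiv] at h1
    rw [h1, card_f2 (LinearMap.range (R v))]
    exact Nat.mul_le_mul_left _ (Nat.pow_le_pow_right (by norm_num) (Submodule.finrank_mono (hrng v)))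
  have hterm : ∀ v, sp v ≠ ⊤ → kc v * (2 * Nat.card (sp v)) ≤ C := by
    intro v hv
    refine le_trans ?_ (Nat.mul_le_mul_right (2 ^ δ) (hkc v))
    rw [mul_assoc, ← pow_add, card_f2 (sp v), ← pow_succ']
    exact Nat.mul_le_mul_left _ (Nat.pow_le_pow_right (by norm_num) (hlt _ hv))
  have htop : ∀ v, sp v = ⊤ → kc v * Nat.card M ≤ C := by
    intro v hv
    refine le_trans ?_ (Nat.mul_le_mul_right (2 ^ δ) (hkc v))
    rw [mul_assoc, ← pow_add, hv, hspan, finrank_top, card_f2 M, hδ]
  -- the pairs in the kernels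
  have hsum : ∑ v : Fin d → M, kc v ^ d < 2 * C ^ d := by
    have hfib : ∀ K : Submodule 𝔽 M, ∀ c : ℕ,
        (∀ v, sp v = K → kc v * c ≤ C) →
        (∑ v ∈ Finset.univ.filter (fun v => sp v = K), kc v ^ d) * c ^ d ≤ Nat.card K ^ d * C ^ d := by
      intro K c hc
      rw [Finset.sum_mul]
      refine le_trans (Finset.sum_le_card_nsmul _ _ (C ^ d) fun v hv => ?_) ?_
      · rw [← mul_pow]
        exact Nat.pow_le_pow_left (hc v (Finset.mem_filter.1 hv).2) d
      · rw [smul_eq_mul]
        refine Nat.mul_le_mul_right _ ?_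
        have h1 : (Finset.univ.filter (fun v => sp v = K)).card ≤ Nat.card (Fin d → K) := by
          rw [← Nat.card_eq_finsetCard]
          refine Nat.card_le_card_of_injective
            (fun v j => (⟨v.1 j, (Finset.mem_filter.1 v.2).2.le (Submodule.subset_span ⟨j, rfl⟩)⟩ : K))
            fun a b h => Subtype.ext (funext fun j => congrArg Subtype.val (congrFun h j))
        rwa [Nat.card_fun, Nat.card_fin] at h1
    rw [← Finset.sum_fiberwise_of_maps_to (t := Finset.univ) (fun v _ => Finset.mem_univ (sp v))]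
    set S : Submodule 𝔽 M → ℕ := fun K =>
      ∑ v ∈ Finset.univ.filter (fun v => sp v = K), kc v ^ d with hS
    have h1 : ∀ K, K ≠ ⊤ → S K * 2 ^ d ≤ C ^ d := by
      intro K hK
      have h2 := hfib K (2 * Nat.card K) fun v hv => hv ▸ hterm v (hv ▸ hK)
      refine Nat.le_of_mul_le_mul_left ?_ (pow_pos (Nat.card_pos (α := K)) d)
      calc Nat.card K ^ d * (S K * 2 ^ d) = S K * (2 * Nat.card K) ^ d := by rw [mul_pow]; ring
        _ ≤ _ := h2
    have h2 : S ⊤ ≤ C ^ d := by
      have h3 := hfib ⊤ (Nat.card M) htop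
      rw [Nat.card_congr (Submodule.topEquiv (R := 𝔽) (M := M)).toEquiv, mul_comm (Nat.card M ^ d)]
        at h3
      exact Nat.le_of_mul_le_mul_right h3 (pow_pos Nat.card_pos d)
    change ∑ K, S K < _
    rw [← Finset.add_sum_erase _ _ (Finset.mem_univ (⊤ : Submodule 𝔽 M))]
    have h4 : (∑ K ∈ Finset.univ.erase (⊤ : Submodule 𝔽 M), S K) * 2 ^ d ≤ d * C ^ d := by
      rw [Finset.sum_mul]
      refine le_trans (Finset.sum_le_card_nsmul _ _ (C ^ d) fun K hK => h1 K (Finset.ne_of_mem_erase hK)) ?_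
      rw [smul_eq_mul]
      refine Nat.mul_le_mul_right _ ?_
      rw [hd, Nat.card_eq_fintype_card]
      exact Finset.card_le_univ _
    have hd2 : d < 2 ^ d := Nat.lt_two_pow_self
    have hC0 : 0 < C ^ d := pow_pos (Nat.mul_pos Nat.card_pos (by positivity)) d
    by_contra hlt
    push Not at hlt
    have h5 : C ^ d ≤ ∑ K ∈ Finset.univ.erase (⊤ : Submodule 𝔽 M), S K := by omega
    have h6 := Nat.mul_le_mul_right (2 ^ d) h5
    have h7 : C ^ d * 2 ^ d ≤ d * C ^ d := h6.trans h4
    rw [mul_comm d] at h7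
    exact absurd (Nat.le_of_mul_le_mul_left h7 hC0) (by omega)
  -- some matrix has a small kernel
  let up : (Fin d → Fin d → H) → (Fin d → Fin d → (M →ₗ[𝔽] P)) := fun g i j => g i j
  suffices hex : ∃ g, Nat.card (LinearMap.ker (blow (up g))) < 2 ^ (d * δ + 1) by
    obtain ⟨g, hg⟩ := hex
    refine ⟨d, up g, hd0, fun i j => (g i j).2, ?_⟩
    rw [card_f2 (LinearMap.ker (blow (up g))), Nat.pow_lt_pow_iff_right (by norm_num)] at hg
    have h1 := (blow (up g)).finrank_range_add_finrank_ker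
    have h2 := (LinearMap.range (blow (up g))).finrank_le
    rw [← LinearMap.range_eq_top]
    refine Submodule.eq_top_of_finrank_eq ?_
    rw [Module.finrank_pi_fintype, Finset.sum_const, Finset.card_univ, Fintype.card_fin, smul_eq_mul]
      at h1 h2 ⊢
    rw [hδ, mul_add] at h1
    omega
  by_contra hno
  push Not at hno
  have h1 : (Nat.card (Fin d → H)) ^ d * 2 ^ (d * δ + 1) ≤
      ∑ g : Fin d → Fin d → H, Nat.card (LinearMap.ker (blow (up g))) := by
    refine le_trans ?_ (Finset.card_nsmul_le_sum _ _ _ fun g _ => hno g)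
    rw [smul_eq_mul, Finset.card_univ, Fintype.card_fun, Fintype.card_fin, Nat.card_eq_fintype_card]
  have h2 : ∑ g : Fin d → Fin d → H, Nat.card (LinearMap.ker (blow (up g))) =
      ∑ v : Fin d → M, kc v ^ d := by
    rw [← Nat.card_sigma]
    have h3 : ∀ v : Fin d → M, kc v ^ d = Nat.card (Fin d → LinearMap.ker (R v)) := fun v => by
      rw [Nat.card_fun, Nat.card_fin]
    simp_rw [h3]
    rw [← Nat.card_sigma]
    have hmem : ∀ g v, blow (up g) v = 0 ↔ ∀ i, R v (g i) = 0 := fun g v => by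
      rw [funext_iff]
      refine forall_congr' fun i => ?_
      rw [blow_apply, hR]
      rfl
    exact Nat.card_congr
      { toFun := fun x => ⟨x.2.1, fun i => ⟨x.1 i, (hmem x.1 x.2.1).1 x.2.2 i⟩⟩
        invFun := fun x => ⟨fun i => (x.2 i).1, x.1, (hmem _ _).2 fun i => (x.2 i).2⟩
        left_inv := fun x => rfl
        right_inv := fun x => rfl }
  rw [h2] at h1
  have h4 := lt_of_le_of_lt h1 hsum
  rw [hC, mul_pow, ← pow_mul, mul_comm δ d, pow_succ] at h4
  linarith

end BlowUp

section Generic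

open MvPolynomial

variable {n : ℕ}

/-- The generic matrix of a family. -/
noncomputable def gen {ι : Type*} (L : Fin n → Matrix ι ι 𝔽) :
    Matrix ι ι (MvPolynomial (Fin n) 𝔽) :=
  Matrix.of fun a b => ∑ i, X i * C (L i a b)

theorem totalDegree_det_gen {ι : Type*} [Fintype ι] [DecidableEq ι] (L : Fin n → Matrix ι ι 𝔽) :
    (gen L).det.totalDegree ≤ Fintype.card ι := by
  rw [Matrix.det_apply]
  refine (totalDegree_finsetSum _ _).trans (Finset.sup_le fun σ _ => ?_)
  refine (totalDegree_smul_le _ _).trans ((totalDegree_finsetProd _ _).trans ?_)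
  refine (Finset.sum_le_card_nsmul _ _ 1 fun i _ => ?_).trans (by simp)
  rw [gen, Matrix.of_apply]
  refine (totalDegree_finsetSum _ _).trans (Finset.sup_le fun j _ => ?_)
  refine (totalDegree_mul _ _).trans ?_
  rw [totalDegree_X, totalDegree_C]

theorem eval_det_gen {ι : Type*} [Fintype ι] [DecidableEq ι] (L : Fin n → Matrix ι ι 𝔽)
    (x : Fin n → 𝔽) : eval x (gen L).det = (∑ i, x i • L i).det := by
  rw [RingHom.map_det]
  congr 1
  ext a b
  simp [gen, Matrix.sum_apply]

theorem det_gen_conj {ι : Type*} [Fintype ι] [DecidableEq ι] (L L' : Fin n → Matrix ι ι 𝔽)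
    (p q : Matrix ι ι 𝔽) (hpq : q * p = 1) (h : ∀ i, L' i = p * L i * q) :
    (gen L').det = (gen L).det := by
  let f : Matrix ι ι 𝔽 →+* Matrix ι ι (MvPolynomial (Fin n) 𝔽) := (C).mapMatrix
  have hg : ∀ L : Fin n → Matrix ι ι 𝔽, gen L = ∑ i, (X i : MvPolynomial (Fin n) 𝔽) • f (L i) := by
    intro L
    ext a b
    simp [gen, Matrix.sum_apply, f]
  have h1 : gen L' = f p * gen L * f q := by
    rw [hg, hg, Finset.mul_sum, Finset.sum_mul]
    refine Finset.sum_congr rfl fun i _ => ?_
    rw [h, map_mul, map_mul, Matrix.mul_smul, Matrix.smul_mul]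
  have h2 : (f q).det * (f p).det = 1 := by rw [← Matrix.det_mul, ← map_mul, hpq, map_one, Matrix.det_one]
  rw [h1, Matrix.det_mul, Matrix.det_mul, mul_comm (f p).det, mul_assoc, mul_comm (f p).det, h2, mul_one]

theorem det_gen_reindex {ι κ : Type*} [Fintype ι] [DecidableEq ι] [Fintype κ] [DecidableEq κ]
    (e : ι ≃ κ) (L : Fin n → Matrix ι ι 𝔽) :
    (gen fun i => (L i).submatrix e.symm e.symm).det = (gen L).det := by
  rw [show (gen fun i => (L i).submatrix e.symm e.symm) = (gen L).submatrix e.symm e.symm from rfl,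
    Matrix.det_submatrix_equiv_self]

variable {W : Type*} [AddCommGroup W] [Module 𝔽 W]

/-- The determinant polynomial of a family of endomorphisms. -/
theorem det_gen_basis {ι κ : Type*} [Fintype ι] [DecidableEq ι] [Fintype κ] [DecidableEq κ]
    (b : Basis ι 𝔽 W) (c : Basis κ 𝔽 W) (L : Fin n → W →ₗ[𝔽] W) :
    (gen fun i => LinearMap.toMatrix b b (L i)).det =
      (gen fun i => LinearMap.toMatrix c c (L i)).det := by
  let e := b.indexEquiv c
  let b' := b.reindex e
  have h1 : (gen fun i => LinearMap.toMatrix b' b' (L i)).det =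
      (gen fun i => LinearMap.toMatrix b b (L i)).det := by
    rw [← det_gen_reindex e fun i => LinearMap.toMatrix b b (L i)]
    congr
    funext i
    ext x y
    simp [b', LinearMap.toMatrix_apply]
  rw [← h1]
  refine (det_gen_conj _ _ (c.toMatrix b') (b'.toMatrix c) (b'.toMatrix_mul_toMatrix_flip c) fun i => ?_).symm
  rw [basis_toMatrix_mul_linearMap_toMatrix_mul_basis_toMatrix]

/-- The determinant polynomial of the diagonal family on tuples. -/
theorem det_gen_pi {ι κ : Type*} [Fintype ι] [DecidableEq ι] [Fintype κ] [DecidableEq κ] {d : ℕ}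
    (b : Basis ι 𝔽 W) (c : Basis κ 𝔽 (Fin d → W)) (L : Fin n → W →ₗ[𝔽] W) :
    (gen fun i => LinearMap.toMatrix c c (LinearMap.pi fun j => (L i).comp (LinearMap.proj j))).det =
      (gen fun i => LinearMap.toMatrix b b (L i)).det ^ d := by
  let e : (Σ _ : Fin d, ι) ≃ ι × Fin d :=
    (Equiv.sigmaEquivProd (Fin d) ι).trans (Equiv.prodComm _ _)
  let p := (Pi.basis fun _ : Fin d => b).reindex e
  rw [det_gen_basis c p]
  have h1 : (gen fun i => LinearMap.toMatrix p p (LinearMap.pi fun j => (L i).comp (LinearMap.proj j))) =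
      Matrix.blockDiagonal fun _ : Fin d => gen fun i => LinearMap.toMatrix b b (L i) := by
    refine Matrix.ext ?_
    rintro ⟨a, j⟩ ⟨a', j'⟩
    have h2 : ∀ i, LinearMap.toMatrix p p (LinearMap.pi fun j => (L i).comp (LinearMap.proj j))
        (a, j) (a', j') = if j = j' then LinearMap.toMatrix b b (L i) a a' else 0 := fun i => by
      rw [LinearMap.toMatrix_apply]
      simp only [p, Basis.repr_reindex_apply, Basis.reindex_apply]
      change (b.repr (L i ((Pi.basis fun _ : Fin d => b) ⟨j', a'⟩ j))) a = _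
      rw [Pi.basis_apply]
      by_cases hj : j = j'
      · subst hj
        rw [Pi.single_eq_same, if_pos rfl, LinearMap.toMatrix_apply]
      · rw [Pi.single_eq_of_ne hj, if_neg hj, map_zero, map_zero]
        rfl
    rw [Matrix.blockDiagonal_apply, gen, Matrix.of_apply]
    split_ifs with hj
    · rw [gen, Matrix.of_apply]
      exact Finset.sum_congr rfl fun i _ => by rw [h2, if_pos hj]
    · exact Finset.sum_eq_zero fun i _ => by rw [h2, if_neg hj, C_0, mul_zero]
  rw [h1, Matrix.det_blockDiagonal, Finset.prod_const, Finset.card_univ, Fintype.card_fin]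

end Generic

section Pair

open MvPolynomial

variable {Xs M P : Type*} [AddCommGroup Xs] [Module 𝔽 Xs] [AddCommGroup M] [Module 𝔽 M]
variable [AddCommGroup P] [Module 𝔽 P] [Finite Xs] [Finite M] [Finite P]

/-- The deficiency of a minimal pair is at least the dimension of the family. -/
theorem le_of_pair (Θ : Xs →ₗ[𝔽] (M →ₗ[𝔽] M)) (Θ' : Xs →ₗ[𝔽] (P →ₗ[𝔽] P))
    (H : Submodule 𝔽 (M →ₗ[𝔽] P)) (hcomm : ∀ h ∈ H, ∀ x m, h (Θ x m) = Θ' x (h m))
    (hinv : ∀ x, x ≠ 0 → Function.Injective (Θ x)) (hspan : img H ⊤ = ⊤)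
    {δ : ℕ} (hδ0 : 0 < δ) (hδ : finrank 𝔽 M = finrank 𝔽 P + δ)
    (hlt : ∀ K : Submodule 𝔽 M, K ≠ ⊤ → finrank 𝔽 K + 1 ≤ finrank 𝔽 (img H K) + δ) :
    finrank 𝔽 Xs ≤ δ := by
  classical
  obtain ⟨d, h, hd, hhH, hsur⟩ := exists_surj_blow H hδ hspan hlt
  by_contra hn
  push Not at hn
  let bX := Module.finBasis 𝔽 Xs
  let bM := Module.finBasis 𝔽 M
  let bP := Module.finBasis 𝔽 P
  let f := blow h
  let bK := Module.finBasis 𝔽 (LinearMap.ker f)
  let bQ := Module.finBasis 𝔽 (Fin d → P)
  obtain ⟨s, hs⟩ := f.exists_rightInverse_of_surjective (LinearMap.range_eq_top.2 hsur)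
  have hfs : ∀ q, f (s q) = q := fun q => LinearMap.congr_fun hs q
  let eqv : (LinearMap.ker f × (Fin d → P)) ≃ₗ[𝔽] (Fin d → M) :=
    { toFun := fun x => (x.1 : Fin d → M) + s x.2
      map_add' := fun x y => by
        simp only [Prod.fst_add, Prod.snd_add, Submodule.coe_add, map_add]; abel
      map_smul' := fun c x => by simp [smul_add]
      invFun := fun v => (⟨v - s (f v), by rw [LinearMap.mem_ker, map_sub, hfs, sub_self]⟩, f v)
      left_inv := fun x => by
        obtain ⟨⟨k, hk⟩, q⟩ := x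
        have hk' : f k = 0 := hk
        have h1 : f (k + s q) = q := by rw [map_add, hk', zero_add, hfs]
        refine Prod.ext (Subtype.ext ?_) h1
        change k + s q - s (f (k + s q)) = k
        rw [h1, add_sub_cancel_right]
      right_inv := fun v => sub_add_cancel v _ }
  let c := (bK.prod bQ).map eqv
  let LW : Fin (finrank 𝔽 Xs) → (Fin d → M) →ₗ[𝔽] (Fin d → M) :=
    fun i => LinearMap.pi fun j => (Θ (bX i)).comp (LinearMap.proj j)
  let LQ : Fin (finrank 𝔽 Xs) → (Fin d → P) →ₗ[𝔽] (Fin d → P) :=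
    fun i => LinearMap.pi fun j => (Θ' (bX i)).comp (LinearMap.proj j)
  have hf : ∀ i v, f (LW i v) = LQ i (f v) := by
    intro i v
    funext j
    change blow h (LW i v) j = Θ' (bX i) (blow h v j)
    rw [blow_apply, blow_apply, map_sum]
    exact Finset.sum_congr rfl fun k _ => hcomm _ (hhH j k) _ _
  let LA : Fin (finrank 𝔽 Xs) → Matrix (Fin (finrank 𝔽 (LinearMap.ker f)))
      (Fin (finrank 𝔽 (LinearMap.ker f))) 𝔽 :=
    fun i => (LinearMap.toMatrix c c (LW i)).toBlocks₁₁
  have hblocks : ∀ i, LinearMap.toMatrix c c (LW i) = Matrix.fromBlocks (LA i)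
      (LinearMap.toMatrix c c (LW i)).toBlocks₁₂ 0 (LinearMap.toMatrix bQ bQ (LQ i)) := by
    intro i
    conv_lhs => rw [← Matrix.fromBlocks_toBlocks (LinearMap.toMatrix c c (LW i))]
    have hrep : ∀ v a, c.repr v (Sum.inr a) = bQ.repr (f v) a := fun v a => by
      simp only [c, Basis.map_repr, LinearEquiv.trans_apply]
      exact Basis.prod_repr_inr _ _ _ _
    have hl : ∀ a, f (c (Sum.inl a)) = 0 := fun a => by
      simp only [c, Basis.map_apply, Basis.prod_apply]
      simp [eqv]
    have hr : ∀ a, f (c (Sum.inr a)) = bQ a := fun a => by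
      simp only [c, Basis.map_apply, Basis.prod_apply]
      simp [eqv, hfs]
    congr 1
    · ext a b
      simp [Matrix.toBlocks₂₁, LinearMap.toMatrix_apply, hrep, hf, hl]
    · ext a b
      simp [Matrix.toBlocks₂₂, LinearMap.toMatrix_apply, hrep, hf, hr]
  set GM := (gen fun i => LinearMap.toMatrix bM bM (Θ (bX i))).det with hGM
  set GP := (gen fun i => LinearMap.toMatrix bP bP (Θ' (bX i))).det with hGP
  set GA := (gen LA).det with hGA
  have hfac : GM ^ d = GA * GP ^ d := by
    rw [hGM, hGP, ← det_gen_pi bM c, ← det_gen_pi bP bQ, hGA]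
    rw [show (gen fun i => LinearMap.toMatrix c c (LW i)) = Matrix.fromBlocks (gen LA)
      (Matrix.of fun a b => ∑ i, X i * MvPolynomial.C ((LinearMap.toMatrix c c (LW i)).toBlocks₁₂ a b))
      0 (gen fun i => LinearMap.toMatrix bQ bQ (LQ i)) from ?_, Matrix.det_fromBlocks_zero₂₁]
    refine Matrix.ext fun a b => ?_
    rw [gen, Matrix.of_apply]
    rcases a with a | a <;> rcases b with b | b
    · rfl
    · rfl
    · refine Finset.sum_eq_zero fun i _ => ?_
      rw [hblocks i, Matrix.fromBlocks_apply₂₁, Matrix.zero_apply, C_0, mul_zero]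
    · refine Finset.sum_congr rfl fun i _ => ?_
      rw [hblocks i, Matrix.fromBlocks_apply₂₂]
  -- values
  have hval : ∀ x : Fin (finrank 𝔽 Xs) → 𝔽,
      eval x GM = LinearMap.det (Θ (bX.equivFun.symm x)) ∧
        eval x GP = LinearMap.det (Θ' (bX.equivFun.symm x)) := by
    intro x
    rw [hGM, hGP, eval_det_gen, eval_det_gen, bX.equivFun_symm_apply]
    simp only [map_sum, map_smul, ← LinearMap.det_toMatrix bM, ← LinearMap.det_toMatrix bP, and_self]
  have hx0 : ∀ x, x ≠ 0 → eval x GM = 1 ∧ eval x GP = 1 := by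
    intro x hx
    have hne : bX.equivFun.symm x ≠ 0 := fun h0 => hx (by
      have := congrArg bX.equivFun h0
      rwa [LinearEquiv.apply_symm_apply, map_zero] at this)
    have h1 : ∀ z : 𝔽, z ≠ 0 → z = 1 := by decide
    refine ⟨h1 _ ?_, h1 _ ?_⟩
    · rw [(hval x).1]
      exact fun h0 => by
        have h2 := (hinv _ hne)
        have h3 := LinearMap.ker_eq_bot.2 h2
        exact (LinearMap.bot_lt_ker_of_det_eq_zero h0).ne' h3
    · rw [(hval x).2]
      intro h0
      have hr : LinearMap.range (Θ' (bX.equivFun.symm x)) = ⊤ := by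
        refine top_le_iff.1 (hspan.ge.trans (img_le fun f hf k _ => ?_))
        obtain ⟨m, rfl⟩ := (LinearMap.injective_iff_surjective.1 (hinv _ hne)) k
        exact ⟨f m, (hcomm f hf _ m).symm⟩
      exact (LinearMap.bot_lt_ker_of_det_eq_zero h0).ne'
        (LinearMap.ker_eq_bot.2 (LinearMap.injective_iff_surjective.2 (LinearMap.range_eq_top.1 hr)))
  have hn0 : 0 < finrank 𝔽 Xs := by omega
  have hone : ∃ x : Fin (finrank 𝔽 Xs) → 𝔽, x ≠ 0 :=
    ⟨Pi.single ⟨0, hn0⟩ 1, fun h => one_ne_zero (α := 𝔽) (by simpa using congrFun h ⟨0, hn0⟩)⟩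
  have hGP0 : GP ≠ 0 := by
    intro h0
    obtain ⟨x, hx⟩ := hone
    have := (hx0 x hx).2
    rw [h0, map_zero] at this
    exact one_ne_zero this.symm
  obtain ⟨g, hg⟩ : GP ∣ GM := (UniqueFactorizationMonoid.pow_dvd_pow_iff_dvd hd.ne').1 ⟨GA, by rw [hfac, mul_comm]⟩
  have hAg : GA = g ^ d := by
    refine mul_right_cancel₀ (pow_ne_zero d hGP0) ?_
    rw [← hfac, hg, mul_pow, mul_comm]
  have hker : finrank 𝔽 (LinearMap.ker f) = d * δ := by
    have h1 := f.finrank_range_add_finrank_ker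
    rw [LinearMap.range_eq_top.2 hsur, finrank_top, Module.finrank_pi_fintype,
      Module.finrank_pi_fintype, Finset.sum_const, Finset.sum_const, Finset.card_univ, Fintype.card_fin,
      smul_eq_mul, smul_eq_mul, hδ, mul_add] at h1
    omega
  have hg0 : eval 0 g = 0 := by
    have h1 : eval 0 GA = 0 := by
      have hne : Nonempty (Fin (finrank 𝔽 (LinearMap.ker f))) :=
        ⟨⟨0, by rw [hker]; exact Nat.mul_pos hd hδ0⟩⟩
      rw [hGA, eval_det_gen]
      simp only [Pi.zero_apply, zero_smul, Finset.sum_const_zero]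
      exact Matrix.det_zero
    rw [hAg, map_pow] at h1
    exact eq_zero_of_pow_eq_zero h1
  have hg1 : ∀ x, x ≠ 0 → eval x g ≠ 0 := by
    intro x hx h0
    have := (hx0 x hx).1
    rw [hg, map_mul, h0, mul_zero] at this
    exact zero_ne_one this
  have hgne : g ≠ 0 := by
    intro h0
    obtain ⟨x, hx⟩ := hone
    exact hg1 x hx (by rw [h0, map_zero])
  have hdeg : g.totalDegree ≤ δ := by
    have hp : ∀ k, (g ^ k).totalDegree = k * g.totalDegree := by
      intro k
      induction k with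
      | zero => simp
      | succ k ih => rw [pow_succ, totalDegree_mul_of_isDomain (pow_ne_zero k hgne) hgne, ih]; ring
    have h1 := totalDegree_det_gen LA
    rw [← hGA, hAg, hp, Fintype.card_fin, hker] at h1
    exact Nat.le_of_mul_le_mul_left h1 hd
  have h2 := char_dvd_card_solutions 2 (f := g) (by rw [Fintype.card_fin]; omega)
  have h3 : Fintype.card {x : Fin (finrank 𝔽 Xs) → 𝔽 // eval x g = 0} = 1 :=
    Fintype.card_eq_one_iff.2 ⟨⟨0, hg0⟩, fun y => Subtype.ext (by_contra fun hy => hg1 _ hy y.2)⟩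
  omega

end Pair

section Delta

variable {Xs A T : Type*} [AddCommGroup Xs] [Module 𝔽 Xs] [AddCommGroup A] [Module 𝔽 A]
variable [AddCommGroup T] [Module 𝔽 T] [Finite Xs] [Finite A] [Finite T]

/-- The orthogonal of a subspace. -/
def perp (β : A →ₗ[𝔽] A →ₗ[𝔽] T) (K : Submodule 𝔽 A) : Submodule 𝔽 A where
  carrier := {d | ∀ k ∈ K, β d k = 0}
  add_mem' := fun {a b} ha hb k hk => by rw [map_add, LinearMap.add_apply, ha k hk, hb k hk, add_zero]
  zero_mem' := fun k _ => by rw [map_zero, LinearMap.zero_apply]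
  smul_mem' := fun c a ha k hk => by rw [map_smul, LinearMap.smul_apply, ha k hk, smul_zero]

theorem mem_perp {β : A →ₗ[𝔽] A →ₗ[𝔽] T} {K : Submodule 𝔽 A} {d : A} :
    d ∈ perp β K ↔ ∀ k ∈ K, β d k = 0 := Iff.rfl

/-- No subspace exceeds the codimension of its orthogonal. -/
theorem perp_bound (θ : Xs →ₗ[𝔽] (A →ₗ[𝔽] A)) (β : A →ₗ[𝔽] A →ₗ[𝔽] T)
    (hinv : ∀ x, x ≠ 0 → Function.Injective (θ x)) (hadj : ∀ x d e, β (θ x d) e = β d (θ x e))
    (hsymm : ∀ d e, β d e = β e d)
    (hweak : ∀ K : Submodule 𝔽 A, K ≠ ⊥ →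
      finrank 𝔽 K + finrank 𝔽 (perp β K) < finrank 𝔽 Xs + finrank 𝔽 A)
    (K₀ : Submodule 𝔽 A) : finrank 𝔽 K₀ + finrank 𝔽 (perp β K₀) ≤ finrank 𝔽 A := by
  classical
  by_contra hcon
  push Not at hcon
  haveI : Finite (Submodule 𝔽 A) :=
    Finite.of_injective (fun K => (K : Set A)) SetLike.coe_injective
  haveI : Fintype (Submodule 𝔽 A) := Fintype.ofFinite _
  let sc : Submodule 𝔽 A → ℕ := fun K => finrank 𝔽 K + finrank 𝔽 (perp β K)
  obtain ⟨K₁, -, hK₁⟩ := Finset.exists_max_image Finset.univ sc Finset.univ_nonempty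
  set s := sc K₁ with hs
  have hmax : ∀ K, sc K ≤ s := fun K => hK₁ K (Finset.mem_univ _)
  obtain ⟨M, hMs, hMmin⟩ := Finset.exists_min_image (Finset.univ.filter fun K => sc K = s)
    (fun K : Submodule 𝔽 A => finrank 𝔽 K) ⟨K₁, by simp [hs]⟩
  simp only [Finset.mem_filter, Finset.mem_univ, true_and] at hMs hMmin
  have has : finrank 𝔽 A < s := lt_of_lt_of_le hcon (hmax K₀)
  -- the smallest one lies in every other
  have hle : ∀ N, sc N = s → M ≤ N := by
    intro N hN
    have h1 := Submodule.finrank_sup_add_finrank_inf_eq M N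
    have h2 : perp β M ⊓ perp β N ≤ perp β (M ⊔ N) := fun d hd k hk => by
      obtain ⟨m, hm, x, hx, rfl⟩ := Submodule.mem_sup.1 hk
      rw [map_add, hd.1 m hm, hd.2 x hx, add_zero]
    have h3 : perp β M ⊔ perp β N ≤ perp β (M ⊓ N) :=
      sup_le (fun d hd k hk => hd k hk.1) fun d hd k hk => hd k hk.2
    have h4 := Submodule.finrank_sup_add_finrank_inf_eq (perp β M) (perp β N)
    have h5 := Submodule.finrank_mono h2
    have h6 := Submodule.finrank_mono h3
    have h7 := hmax (M ⊔ N)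
    have h8 := hmax (M ⊓ N)
    simp only [sc] at h7 h8 hMs hN
    have h9 := hMmin (M ⊓ N) (by simp only [sc]; omega)
    exact (Submodule.eq_of_le_of_finrank_le inf_le_left h9).ge.trans inf_le_right
  have hM0 : M ≠ ⊥ := by
    intro h
    have h1 := (perp β M).finrank_le
    simp only [sc, h, finrank_bot, zero_add] at hMs
    rw [h] at h1
    omega
  have hstrict : ∀ N, N ≤ M → N ≠ M → sc N < s := fun N hN hne =>
    lt_of_le_of_ne (hmax N) fun he => hne (le_antisymm hN (hle N he))
  -- invariance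
  have hθM : ∀ x, ∀ m ∈ M, θ x m ∈ M := by
    intro x m hm
    rcases eq_or_ne x 0 with rfl | hx
    · rw [map_zero, LinearMap.zero_apply]; exact M.zero_mem
    let e : A ≃ₗ[𝔽] A := LinearEquiv.ofInjectiveEndo (θ x) (hinv x hx)
    have hp : (perp β (M.map e.toLinearMap)).map e.toLinearMap = perp β M := by
      ext d
      constructor
      · rintro ⟨d', hd', rfl⟩ k hk
        change β (θ x d') k = 0
        rw [hadj]
        exact hd' _ ⟨k, hk, rfl⟩
      · intro hd
        refine ⟨e.symm d, ?_, e.apply_symm_apply d⟩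
        rintro _ ⟨k, hk, rfl⟩
        change β (e.symm d) (θ x k) = 0
        rw [← hadj, show θ x (e.symm d) = d from e.apply_symm_apply d]
        exact hd k hk
    have h1 : sc (M.map e.toLinearMap) = s := by
      simp only [sc] at hMs ⊢
      rw [LinearEquiv.finrank_map_eq, ← LinearEquiv.finrank_map_eq e (perp β (M.map e.toLinearMap)), hp]
      exact hMs
    have h2 : M = M.map e.toLinearMap :=
      Submodule.eq_of_le_of_finrank_le (hle _ h1) (LinearEquiv.finrank_map_eq e M).le
    rw [h2]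
    exact ⟨m, hm, rfl⟩
  -- the space of maps
  let big : Module.Dual 𝔽 T →ₗ[𝔽] (A →ₗ[𝔽] Module.Dual 𝔽 A) :=
    { toFun := fun l => β.compr₂ l
      map_add' := fun l m => rfl
      map_smul' := fun c l => rfl }
  let HB := LinearMap.range big
  let Q : Submodule 𝔽 A → Submodule 𝔽 (Module.Dual 𝔽 A) := fun K => img HB K
  have hQ : ∀ K, finrank 𝔽 (Q K) + finrank 𝔽 (perp β K) = finrank 𝔽 A := by
    intro K
    have h1 : (Q K).dualCoannihilator = perp β K := by
      ext d
      rw [Submodule.mem_dualCoannihilator, mem_perp]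
      constructor
      · intro h k hk
        rw [← Module.forall_dual_apply_eq_zero_iff 𝔽]
        intro l
        rw [hsymm]
        exact h _ (mem_img ⟨l, rfl⟩ hk)
      · intro h φ hφ
        have h2 : Q K ≤ LinearMap.ker (LinearMap.applyₗ d) := img_le fun f hf k hk => by
          obtain ⟨l, rfl⟩ := hf
          change l (β k d) = 0
          rw [hsymm, h k hk, map_zero]
        exact h2 hφ
    rw [← h1]
    exact Subspace.finrank_add_finrank_dualCoannihilator_eq _
  let H : Submodule 𝔽 (M →ₗ[𝔽] Q M) :=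
    { carrier := {g | ∃ f ∈ HB, ∀ m, (g m : Module.Dual 𝔽 A) = f m}
      add_mem' := by
        rintro g g' ⟨f, hf, h⟩ ⟨f', hf', h'⟩
        exact ⟨f + f', HB.add_mem hf hf', fun m => by simp [h, h']⟩
      zero_mem' := ⟨0, HB.zero_mem, fun m => rfl⟩
      smul_mem' := by
        rintro c g ⟨f, hf, h⟩
        exact ⟨c • f, HB.smul_mem c hf, fun m => by simp [h]⟩ }
  have himg : ∀ K : Submodule 𝔽 M, (img H K).map (Q M).subtype = Q (K.map M.subtype) := by
    intro K
    refine le_antisymm (Submodule.map_le_iff_le_comap.2 (img_le fun g hg k hk => ?_))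
      (img_le fun f hf k hk => ?_)
    · obtain ⟨f, hf, h⟩ := hg
      rw [Submodule.mem_comap, Submodule.coe_subtype, h]
      exact mem_img hf ⟨k, hk, rfl⟩
    · obtain ⟨k, hk, rfl⟩ := hk
      refine ⟨LinearMap.codRestrict (Q M) (f.comp M.subtype) (fun m => mem_img hf m.2) k,
        mem_img ⟨f, hf, fun m => rfl⟩ hk, rfl⟩
  let Θ : Xs →ₗ[𝔽] (M →ₗ[𝔽] M) :=
    { toFun := fun x => (θ x).restrict (hθM x)
      map_add' := fun x y => LinearMap.ext fun m => Subtype.ext (by simp)
      map_smul' := fun c x => LinearMap.ext fun m => Subtype.ext (by simp) }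
  have hQθ : ∀ x, ∀ φ ∈ Q M, φ.comp (θ x) ∈ Q M := by
    intro x φ hφ
    refine (img_le fun f hf k hk => ?_ : Q M ≤ (Q M).comap (θ x).dualMap) hφ
    obtain ⟨l, rfl⟩ := hf
    have h1 : (θ x).dualMap (big l k) = big l (θ x k) := LinearMap.ext fun e => by
      change l (β k (θ x e)) = l (β (θ x k) e)
      rw [hadj]
    rw [Submodule.mem_comap, h1]
    exact mem_img ⟨l, rfl⟩ (hθM x k hk)
  let Θ' : Xs →ₗ[𝔽] (Q M →ₗ[𝔽] Q M) :=
    { toFun := fun x => (θ x).dualMap.restrict (hQθ x)
      map_add' := fun x y => LinearMap.ext fun m => Subtype.ext (LinearMap.ext fun a => by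
        change (m : Module.Dual 𝔽 A) (θ (x + y) a) =
          (m : Module.Dual 𝔽 A) (θ x a) + (m : Module.Dual 𝔽 A) (θ y a)
        rw [map_add, LinearMap.add_apply, map_add])
      map_smul' := fun c x => LinearMap.ext fun m => Subtype.ext (LinearMap.ext fun a => by
        change (m : Module.Dual 𝔽 A) (θ (c • x) a) = c • (m : Module.Dual 𝔽 A) (θ x a)
        rw [map_smul, LinearMap.smul_apply, map_smul]) }
  have hMA := hQ M
  haveI : Finite (Module.Dual 𝔽 A) :=
    Finite.of_injective (fun f => (f : A → 𝔽)) DFunLike.coe_injective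
  simp only [sc] at hMs
  have hδ : finrank 𝔽 M = finrank 𝔽 (Q M) + (s - finrank 𝔽 A) := by omega
  have hfin := le_of_pair Θ Θ' H ?_ ?_ ?_ (δ := s - finrank 𝔽 A) (by omega) hδ ?_
  · have h1 := hweak M hM0
    omega
  · rintro g ⟨f, ⟨l, rfl⟩, h⟩ x m
    refine Subtype.ext (LinearMap.ext fun e => ?_)
    change (g (Θ x m) : Module.Dual 𝔽 A) e = (g m : Module.Dual 𝔽 A) (θ x e)
    rw [h, h]
    exact congrArg l (hadj x m e)
  · exact fun x hx a b hab => Subtype.ext (hinv x hx (congrArg Subtype.val hab))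
  · refine Submodule.map_injective_of_injective (Q M).injective_subtype ?_
    rw [himg, Submodule.map_subtype_top, Submodule.map_subtype_top]
  · intro K hK
    have h1 := hstrict (K.map M.subtype) (Submodule.map_subtype_le M K) fun he => hK
      (Submodule.map_injective_of_injective M.injective_subtype (by rw [he, Submodule.map_subtype_top]))
    have h2 := hQ (K.map M.subtype)
    have h3 : finrank 𝔽 (K.map M.subtype) = finrank 𝔽 K :=
      (Submodule.equivMapOfInjective M.subtype M.injective_subtype K).symm.finrank_eq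
    have h4 : finrank 𝔽 (Q (K.map M.subtype)) = finrank 𝔽 (img H K) := by
      rw [← himg]
      exact (Submodule.equivMapOfInjective _ (Q M).injective_subtype _).symm.finrank_eq
    simp only [sc] at h1
    omega

end Delta

end Cfsg.Agent.SFW
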