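/-
A linear family of nonsingular alternating forms lives on a space of at least twice its dimension.
-/
import Mathlib.LinearAlgebra.Dual.Lemmas
import Mathlib.LinearAlgebra.FiniteDimensional.Lemmas
import Mathlib.FieldTheory.Finiteness
import Mathlib.Algebra.BigOperators.Ring.Finset
import Mathlib.Algebra.Field.ZMod
import Mathlib.LinearAlgebra.SesquilinearForm.Basic
import Mathlib.Tactic.LinearCombination

set_option autoImplicit false
set_option linter.unusedSectionVars false
set_option linter.style.haveILetI false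
set_option maxHeartbeats 1000000

namespace Cfsg.Agent.SFW

open Module

local notation "𝔽" => ZMod 2

/-- The sign of a scalar. -/
def chi (z : ZMod 2) : ℤ := if z = 0 then 1 else -1

theorem chi_add (a b : ZMod 2) : chi (a + b) = chi a * chi b := by
  revert a b; decide

theorem chi_zero : chi 0 = 1 := rfl

instance : Fact (Nat.Prime 2) := ⟨Nat.prime_two⟩

open scoped Classical in
theorem sum_chi_linear {E : Type*} [AddCommGroup E] [Module 𝔽 E] [Fintype E] (f : E →ₗ[𝔽] 𝔽) :
    ∑ e, chi (f e) = if f = 0 then (Fintype.card E : ℤ) else 0 := by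
  split_ifs with h
  · subst h; simp [chi_zero]
  · obtain ⟨e₀, he⟩ : ∃ e₀, f e₀ ≠ 0 := by
      by_contra hno
      push Not at hno
      exact h (LinearMap.ext hno)
    have h1 : f e₀ = 1 := (by decide : ∀ z : 𝔽, z ≠ 0 → z = 1) _ he
    have h2 := Equiv.sum_comp (Equiv.addRight e₀) fun e => chi (f e)
    simp only [Equiv.coe_addRight, map_add, h1, chi_add] at h2
    rw [show chi 1 = -1 from rfl, ← Finset.sum_mul] at h2
    linarith

section Rank

variable {Xs A : Type*} [AddCommGroup Xs] [Module 𝔽 Xs] [AddCommGroup A] [Module 𝔽 A]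
variable [Finite Xs] [Finite A]

/-- The nonsingular case. -/
theorem rank_nonsingular (g : Xs →ₗ[𝔽] (A →ₗ[𝔽] A →ₗ[𝔽] 𝔽)) (halt : ∀ x v, g x v v = 0)
    (hns : ∀ x, x ≠ 0 → Function.Injective (g x)) (hA : ∃ v : A, v ≠ 0) :
    2 * finrank 𝔽 Xs ≤ finrank 𝔽 A := by
  classical
  haveI : Fintype A := Fintype.ofFinite _
  haveI : Fintype Xs := Fintype.ofFinite _
  set n := finrank 𝔽 Xs with hn
  set r := finrank 𝔽 A with hr
  let e := Module.finBasis 𝔽 A
  have hsymm : ∀ x v w, g x v w = g x w v := by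
    intro x v w
    have h := halt x (v + w)
    simp only [map_add, LinearMap.add_apply, halt, zero_add, add_zero] at h
    exact (by decide : ∀ a b : 𝔽, b + a = 0 → a = b) _ _ h
  let b : Xs → A → A → 𝔽 := fun x v w =>
    ∑ i, ∑ j, if i < j then e.repr v i * e.repr w j * g x (e i) (e j) else 0
  have hpol : ∀ x v w, b x v w + b x w v = g x v w := by
    intro x v w
    conv_rhs => rw [← e.sum_repr v, ← e.sum_repr w]
    simp only [map_sum, map_smul, LinearMap.sum_apply, LinearMap.smul_apply, smul_eq_mul,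
      Finset.mul_sum]
    simp only [b]
    rw [Finset.sum_comm (f := fun i j => if i < j then e.repr w i * e.repr v j * g x (e i) (e j) else 0),
      ← Finset.sum_add_distrib]
    conv_rhs => rw [Finset.sum_comm]
    refine Finset.sum_congr rfl fun i _ => ?_
    rw [← Finset.sum_add_distrib]
    refine Finset.sum_congr rfl fun j _ => ?_
    rcases lt_trichotomy i j with h | h | h
    · rw [if_pos h, if_neg h.asymm, add_zero]; ring
    · subst h; simp [halt]
    · rw [if_pos h, if_neg h.asymm, zero_add, hsymm x (e j) (e i)]; ring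
  have hbl : ∀ x v v' w, b x (v + v') w = b x v w + b x v' w := by
    intro x v v' w
    simp only [b, ← Finset.sum_add_distrib]
    refine Finset.sum_congr rfl fun i _ => Finset.sum_congr rfl fun j _ => ?_
    simp only [map_add, Finsupp.add_apply]
    split_ifs <;> ring
  have hbr : ∀ x v w w', b x v (w + w') = b x v w + b x v w' := by
    intro x v w w'
    simp only [b, ← Finset.sum_add_distrib]
    refine Finset.sum_congr rfl fun i _ => Finset.sum_congr rfl fun j _ => ?_
    simp only [map_add, Finsupp.add_apply]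
    split_ifs <;> ring
  let q : A → (Xs →ₗ[𝔽] 𝔽) := fun v =>
    { toFun := fun x => b x v v
      map_add' := fun x y => by
        simp only [b, ← Finset.sum_add_distrib]
        refine Finset.sum_congr rfl fun i _ => Finset.sum_congr rfl fun j _ => ?_
        simp only [map_add, LinearMap.add_apply]
        split_ifs <;> ring
      map_smul' := fun c x => by
        simp only [b, RingHom.id_apply, smul_eq_mul, Finset.mul_sum]
        refine Finset.sum_congr rfl fun i _ => Finset.sum_congr rfl fun j _ => ?_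
        simp only [map_smul, LinearMap.smul_apply, smul_eq_mul]
        split_ifs <;> ring }
  have hq : ∀ x v w, q (v + w) x = q v x + q w x + g x v w := by
    intro x v w
    change b x (v + w) (v + w) = b x v v + b x w w + g x v w
    rw [hbl, hbr, hbr, ← hpol]
    ring
  let S : Xs → ℤ := fun x => ∑ v, chi (q v x)
  have hq0 : ∀ x, q 0 x = 0 := fun x => by
    have h := hq x 0 0
    simp only [add_zero, map_zero] at h
    exact (by decide : ∀ a : 𝔽, a = a + a → a = 0) _ h
  have hcA : (Fintype.card A : ℤ) = 2 ^ r := by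
    rw [Module.card_eq_pow_finrank (K := 𝔽) (V := A), ZMod.card]; norm_cast
  have hsq : ∀ x, x ≠ 0 → S x * S x = 2 ^ r := by
    intro x hx
    have h1 : S x * S x = ∑ v, ∑ u, chi (q v x) * chi (q (v + u) x) := by
      simp only [S]
      rw [Finset.sum_mul_sum]
      refine Finset.sum_congr rfl fun v _ => ?_
      exact (Equiv.sum_comp (Equiv.addLeft v) fun w => chi (q v x) * chi (q w x)).symm
    rw [h1, Finset.sum_comm]
    have h2 : ∀ u, ∑ v, chi (q v x) * chi (q (v + u) x) = chi (q u x) * ∑ v, chi ((g x).flip u v) := by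
      intro u
      rw [Finset.mul_sum]
      refine Finset.sum_congr rfl fun v _ => ?_
      rw [hq, chi_add, chi_add, LinearMap.flip_apply]
      have : chi (q v x) * chi (q v x) = 1 := by
        rw [← chi_add, (by decide : ∀ z : 𝔽, z + z = 0), chi_zero]
      linear_combination (chi (q u x) * chi (g x v u)) * this
    simp only [h2, sum_chi_linear]
    rw [Finset.sum_eq_single (0 : A)]
    · rw [hq0, chi_zero, one_mul, if_pos (LinearMap.ext fun v => by simp), hcA]
    · intro u _ hu
      rw [if_neg, mul_zero]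
      intro h0
      refine hu (hns x hx (LinearMap.ext fun v => ?_))
      rw [map_zero, LinearMap.zero_apply, hsymm]
      exact LinearMap.congr_fun h0 v
    · exact fun h => absurd (Finset.mem_univ _) h
  have htot : (2 : ℤ) ^ n ∣ ∑ x, S x := by
    simp only [S]
    rw [Finset.sum_comm]
    refine Finset.dvd_sum fun v _ => ?_
    rw [sum_chi_linear]
    split_ifs
    · rw [Module.card_eq_pow_finrank (K := 𝔽) (V := Xs), ZMod.card]; norm_cast
    · exact dvd_zero _
  by_contra hlt
  push Not at hlt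
  obtain ⟨x₀, hx₀⟩ : ∃ x₀ : Xs, x₀ ≠ 0 := by
    have : 0 < finrank 𝔽 Xs := by omega
    haveI := Module.finrank_pos_iff.1 this
    exact exists_ne 0
  -- the rank is even and every sum has the same absolute value
  obtain ⟨m, hm⟩ : ∃ m, r = 2 * m := by
    have h1 := congrArg Int.natAbs (hsq x₀ hx₀)
    rw [Int.natAbs_mul, Int.natAbs_pow, show (2 : ℤ).natAbs = 2 from rfl] at h1
    obtain ⟨k, -, hk⟩ := (Nat.dvd_prime_pow Nat.prime_two).1 ⟨(S x₀).natAbs, h1.symm⟩
    rw [hk, ← pow_add] at h1
    exact ⟨k, by have := Nat.pow_right_injective (le_refl 2) h1; omega⟩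
  have hS : ∀ x, x ≠ 0 → S x = 2 ^ m ∨ S x = -2 ^ m := fun x hx => by
    refine sq_eq_sq_iff_eq_or_eq_neg.1 ?_
    rw [← pow_mul, sq, hsq x hx, hm, mul_comm]
  have hm0 : 0 < m := by
    obtain ⟨v, hv⟩ := hA
    have : 0 < r := Module.finrank_pos_iff.2 ⟨⟨v, 0, hv⟩⟩
    omega
  have hmn : m < n := by omega
  have h0 : S 0 = 2 ^ r := by
    simp only [S, map_zero, chi_zero, Finset.sum_const, Finset.card_univ, nsmul_eq_mul, mul_one]
    exact hcA
  -- parity
  rw [← Finset.add_sum_erase _ _ (Finset.mem_univ (0 : Xs)), h0] at htot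
  have hrest : ∃ k : ℤ, ∑ x ∈ Finset.univ.erase (0 : Xs), S x = 2 ^ m * (2 * k + 1) := by
    have h1 : ∀ s : Finset Xs, (0 : Xs) ∉ s → ∃ k : ℤ, ∑ x ∈ s, S x = 2 ^ m * (2 * k + s.card) := by
      intro s
      induction s using Finset.induction_on with
      | empty => exact fun _ => ⟨0, by simp⟩
      | insert a s ha ih =>
        intro h0s
        obtain ⟨k, hk⟩ := ih fun h => h0s (Finset.mem_insert_of_mem h)
        rw [Finset.sum_insert ha, hk, Finset.card_insert_of_notMem ha]
        rcases hS a (fun h => h0s (h ▸ Finset.mem_insert_self a s)) with h | h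
        · exact ⟨k, by rw [h]; push_cast; ring⟩
        · exact ⟨k - 1, by rw [h]; push_cast; ring⟩
    obtain ⟨k, hk⟩ := h1 _ (Finset.notMem_erase _ _)
    have hc : ((Finset.univ.erase (0 : Xs)).card : ℤ) = 2 * (2 ^ (n - 1) - 1) + 1 := by
      rw [Finset.card_erase_of_mem (Finset.mem_univ _), Finset.card_univ,
        Module.card_eq_pow_finrank (K := 𝔽) (V := Xs), ZMod.card]
      rw [Nat.cast_sub Nat.one_le_two_pow]
      push_cast
      obtain ⟨n', hn'⟩ : ∃ n', n = n' + 1 := ⟨n - 1, by omega⟩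
      rw [← hn, hn', add_tsub_cancel_right, pow_succ]
      ring
    exact ⟨k + (2 ^ (n - 1) - 1), by rw [hk, hc]; ring⟩
  obtain ⟨k, hk⟩ := hrest
  obtain ⟨c, hc⟩ := htot
  rw [hk, hm, two_mul m, pow_add, ← mul_add] at hc
  obtain ⟨j, hj⟩ : ∃ j, n = m + (j + 1) := ⟨n - m - 1, by omega⟩
  rw [hj, pow_add (2 : ℤ) m (j + 1), mul_assoc] at hc
  have h2 := mul_left_cancel₀ (pow_ne_zero m (two_ne_zero' ℤ)) hc
  obtain ⟨m', hm'⟩ : ∃ m', m = m' + 1 := ⟨m - 1, by omega⟩
  rw [hm', pow_succ, pow_succ] at h2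
  have h3 : (2 : ℤ) ∣ 1 := ⟨2 ^ j * c - k - 2 ^ m', by linarith⟩
  omega

/-- The radical of a nonzero form of a family has codimension at least twice the dimension. -/
theorem rad_bound (θ : Xs →ₗ[𝔽] (A →ₗ[𝔽] A)) (γ : A →ₗ[𝔽] A →ₗ[𝔽] 𝔽)
    (hinv : ∀ x, x ≠ 0 → Function.Injective (θ x)) (hadj : ∀ x d e, γ (θ x d) e = γ d (θ x e))
    (hsymm : ∀ d e, γ d e = γ e d) (halt : ∀ x d, γ (θ x d) d = 0) (hne : γ ≠ 0) :
    finrank 𝔽 (LinearMap.ker γ) + 2 * finrank 𝔽 Xs ≤ finrank 𝔽 A := by
  set R := LinearMap.ker γ with hR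
  obtain ⟨K, hK⟩ := R.exists_isCompl
  have hRθ : ∀ x, ∀ r ∈ R, θ x r ∈ R := fun x r hr => by
    rw [hR, LinearMap.mem_ker] at hr ⊢
    exact LinearMap.ext fun e => by rw [hadj, hr]; rfl
  let g : Xs →ₗ[𝔽] (K →ₗ[𝔽] K →ₗ[𝔽] 𝔽) :=
    { toFun := fun x => (γ.comp (θ x)).compl₁₂ K.subtype K.subtype
      map_add' := fun x y => LinearMap.ext fun k => LinearMap.ext fun l => by simp
      map_smul' := fun c x => LinearMap.ext fun k => LinearMap.ext fun l => by simp }
  have h1 := rank_nonsingular g (fun x v => halt x v) (fun x hx => ?_) ?_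
  · have h2 := Submodule.finrank_add_eq_of_isCompl hK
    omega
  · rw [← LinearMap.ker_eq_bot, Submodule.eq_bot_iff]
    intro k hk
    have h3 : θ x k ∈ R := by
      rw [hR, LinearMap.mem_ker]
      refine LinearMap.ext fun e => ?_
      obtain ⟨r, hr, l, hl, rfl⟩ := Submodule.mem_sup.1 (hK.sup_eq_top.ge (Submodule.mem_top (x := e)))
      have hr' : γ r = 0 := hr
      have hl' : γ (θ x (k : A)) l = 0 :=
        LinearMap.congr_fun (LinearMap.mem_ker.1 hk) (⟨l, hl⟩ : K)
      rw [map_add, hl', hsymm, hr', LinearMap.zero_apply, add_zero, LinearMap.zero_apply]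
    have hinj : Function.Injective ((θ x).restrict (hRθ x)) :=
      fun a b hab => Subtype.ext (hinv x hx (congrArg Subtype.val hab))
    obtain ⟨r, hr⟩ := LinearMap.injective_iff_surjective.1 hinj ⟨_, h3⟩
    have h4 : (k : A) = r := hinv x hx (congrArg Subtype.val hr).symm
    exact Subtype.ext ((Submodule.mem_bot 𝔽).1 (hK.inf_eq_bot.le ⟨h4 ▸ r.2, k.2⟩))
  · obtain ⟨d, hd⟩ : ∃ d, d ∉ R := by
      by_contra hno
      push Not at hno
      exact hne (LinearMap.ext fun d => by rw [show γ d = 0 from hno d]; rfl)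
    obtain ⟨r, hr, l, hl, rfl⟩ := Submodule.mem_sup.1 (hK.sup_eq_top.ge (Submodule.mem_top (x := d)))
    refine ⟨⟨l, hl⟩, fun h => hd ?_⟩
    rw [show l = 0 from congrArg Subtype.val h, add_zero]
    exact hr

/-- A totally isotropic subspace. -/
theorem isotropic_bound (γ : A →ₗ[𝔽] A →ₗ[𝔽] 𝔽) (K : Submodule 𝔽 A)
    (hK : ∀ a ∈ K, ∀ b ∈ K, γ a b = 0) :
    2 * finrank 𝔽 K ≤ finrank 𝔽 A + finrank 𝔽 (LinearMap.ker γ) := by
  set h := γ.comp K.subtype with hh
  have h1 := h.finrank_range_add_finrank_ker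
  have h2 : finrank 𝔽 (LinearMap.range h) ≤ finrank 𝔽 K.dualAnnihilator := by
    refine Submodule.finrank_mono ?_
    rintro _ ⟨k, rfl⟩
    rw [Submodule.mem_dualAnnihilator]
    exact fun b hb => hK k k.2 b hb
  have h3 : finrank 𝔽 (LinearMap.ker h) ≤ finrank 𝔽 (LinearMap.ker γ) :=
    LinearMap.finrank_le_finrank_of_injective
      (f := (K.subtype.comp (LinearMap.ker h).subtype).codRestrict (LinearMap.ker γ) fun k => k.2)
      fun a b hab => Subtype.ext (Subtype.ext (congrArg Subtype.val hab :))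
  have h4 := Subspace.finrank_add_finrank_dualAnnihilator_eq K
  omega

end Rank

end Cfsg.Agent.SFW
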