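/-
Numerical consequences of a configuration on a faithful module without offenders.
-/
import Cfsg.Agent.Lib.S3Free.Closure.Cfg
import Cfsg.Agent.Lib.S3Free.Closure.Delta
import Cfsg.Agent.Lib.S3Free.Closure.Rank

set_option autoImplicit false
set_option linter.unusedSectionVars false
set_option linter.style.haveILetI false
set_option maxHeartbeats 1000000

namespace Cfsg.Agent.SFW

open Module Cfsg.Agent.S3Free

universe u

/-- The numerical consequences. -/
structure CfgFacts {X : Type u} [Group X] {V : Type u} [AddCommGroup V] [Module (ZMod 2) V]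
    (ρ : X →* (V ≃ₗ[ZMod 2] V)) (A : Subgroup X) (U T : Submodule (ZMod 2) V) : Prop where
  delta : ∀ K ≤ A, Nat.card K * Nat.card ↥(U ⊓ fx ρ K) ≤ Nat.card U
  big : Nat.card V * Nat.card V ≤ Nat.card A * (Nat.card U * Nat.card U)
  isotropic : ∀ K ≤ A, ∀ x ∉ U, ∀ Y : Submodule (ZMod 2) V,
    (∀ d ∈ K, ∀ d' ∈ K, ρ d' (ρ d x + x) + (ρ d x + x) ∈ Y) →
    (∃ u ∈ U, ∃ e ∈ A, ρ e u + u ∉ Y) → Nat.card K * Nat.card V ≤ Nat.card A * Nat.card U
  onto : Nat.card A * (Nat.card U * Nat.card U) ≤ Nat.card V * Nat.card V →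
    (∀ Y : Submodule (ZMod 2) V, (∀ u ∈ U, ∀ e ∈ A, ρ e u + u ∈ Y) → T ≤ Y) →
    ∀ w ∈ U, w ∉ T → ∀ v ∈ T, ∃ d ∈ A, ρ d w + w = v

variable {X : Type u} [Group X] [Finite X] {V : Type u} [AddCommGroup V] [Module (ZMod 2) V]
variable [Finite V] {ρ : X →* (V ≃ₗ[ZMod 2] V)} {A : Subgroup X} {U T : Submodule (ZMod 2) V}

theorem CfgOn.facts (inj : Function.Injective ρ) (hPW : PW ρ (⊤ : Submodule (ZMod 2) V))
    (h : CfgOn ρ ⊤ A U T) : CfgFacts ρ A U T := by
  classical
  have hEl := h.el inj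
  letI : CommGroup A :=
    { (inferInstance : Group A) with mul_comm := fun a b => Subtype.ext (hEl.comm a.2 b.2) }
  letI : Module (ZMod 2) (Additive A) := AddCommGroup.zmodModule (n := 2) fun v => by
    rw [two_nsmul]
    exact Additive.toMul.injective (Subtype.ext (hEl _ (Additive.toMul v : A).2))
  haveI : Finite (Additive A) := inferInstanceAs (Finite A)
  let co : Additive A → X := fun d => ((Additive.toMul d : A) : X)
  have hco : ∀ d, co d ∈ A := fun d => (Additive.toMul d : A).2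
  have hcadd : ∀ d e : Additive A, co (d + e) = co d * co e := fun _ _ => rfl
  set Tu := T.submoduleOf U with hTu
  have hmk : ∀ {u v : U}, (Submodule.Quotient.mk u : U ⧸ Tu) = Submodule.Quotient.mk v ↔
      (u : V) + (v : V) ∈ T := fun {u v} => by
    rw [Submodule.Quotient.eq]
    change ((u - v : U) : V) ∈ T ↔ _
    rw [Submodule.coe_sub, sub_eq_add]
  let dd : V → Additive A → U := fun x d =>
    ⟨ρ (co d) x + x, h.into _ (hco d) x Submodule.mem_top⟩
  let ψ0 : V → (Additive A →ₗ[ZMod 2] U ⧸ Tu) := fun x =>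
    (AddMonoidHom.mk' (fun d => (Submodule.Quotient.mk (dd x d) : U ⧸ Tu)) fun d e => by
      rw [← Submodule.Quotient.mk_add, hmk]
      change ρ (co (d + e)) x + x + ((ρ (co d) x + x) + (ρ (co e) x + x)) ∈ T
      rw [hcadd]
      exact h.dsp_mem (hco d) (hco e) x).toZModLinearMap 2
  let ψ : V →ₗ[ZMod 2] (Additive A →ₗ[ZMod 2] U ⧸ Tu) :=
    (AddMonoidHom.mk' ψ0 fun x y => LinearMap.ext fun d => by
      change (Submodule.Quotient.mk (dd (x + y) d) : U ⧸ Tu) =
        Submodule.Quotient.mk (dd x d) + Submodule.Quotient.mk (dd y d)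
      rw [← Submodule.Quotient.mk_add]
      congr 1
      refine Subtype.ext ?_
      change ρ (co d) (x + y) + (x + y) = ρ (co d) x + x + (ρ (co d) y + y)
      rw [map_add]; abel).toZModLinearMap 2
  have hψ : ∀ x d, ψ x d = Submodule.Quotient.mk (dd x d) := fun _ _ => rfl
  have hψU : U ≤ LinearMap.ker ψ := fun x hx => LinearMap.ext fun d => by
    rw [hψ, LinearMap.zero_apply, Submodule.Quotient.mk_eq_zero]
    exact h.low _ (hco d) x hx
  obtain ⟨x₀, -, hx₀⟩ := SetLike.exists_of_lt (lt_top_iff_ne_top.2 h.U_ne_top)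
  have hψinj : ∀ x ∉ U, Function.Injective (ψ x) := by
    intro x hx d e hde
    rw [hψ, hψ, hmk] at hde
    have h1 := h.eq_one inj hx (A.mul_mem (hco d) (hco e)) (by
      have h2 := T.add_mem (h.dsp_mem (hco d) (hco e) x) hde
      rwa [add_assoc, add_self, add_zero] at h2)
    refine Additive.toMul.injective (Subtype.ext ?_)
    change co d = co e
    calc co d = co d * (co e * co e) := by rw [hEl _ (hco e), mul_one]
      _ = co e := by rw [← mul_assoc, h1, one_mul]
  have hcardA : Nat.card A * Nat.card T = Nat.card U := h.card_eq inj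
  have hcardQ : Nat.card (Additive A) = Nat.card (U ⧸ Tu) := by
    have h1 := Tu.card_eq_card_quotient_mul_card
    rw [show Nat.card Tu = Nat.card T from
      Nat.card_congr (Submodule.submoduleOfEquivOfLe h.T_le).toEquiv] at h1
    exact Nat.eq_of_mul_eq_mul_right (Nat.card_pos (α := T))
      (show Nat.card A * Nat.card T = Nat.card (U ⧸ Tu) * Nat.card T by rw [hcardA, h1]; ring)
  haveI : Finite (U ⧸ Tu) := Quotient.finite _
  let e₀ : Additive A ≃ₗ[ZMod 2] U ⧸ Tu := LinearEquiv.ofBijective (ψ x₀)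
    ((Nat.bijective_iff_injective_and_card _).2 ⟨hψinj x₀ hx₀, hcardQ⟩)
  let θ : (V ⧸ U) →ₗ[ZMod 2] (Additive A →ₗ[ZMod 2] Additive A) :=
    { toFun := fun q => e₀.symm.toLinearMap.comp (U.liftQ ψ hψU q)
      map_add' := fun q r => by rw [map_add, LinearMap.comp_add]
      map_smul' := fun c q => by rw [map_smul, LinearMap.comp_smul, RingHom.id_apply] }
  have hkey : ∀ x d, (dd x d : V) + (dd x₀ (θ (Submodule.Quotient.mk x) d) : V) ∈ T := by
    intro x d
    rw [← hmk, ← hψ, ← hψ]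
    exact (e₀.apply_symm_apply (ψ x d)).symm
  have hθinv : ∀ q, q ≠ 0 → Function.Injective (θ q) := by
    intro q hq
    obtain ⟨x, rfl⟩ := Submodule.Quotient.mk_surjective U q
    exact e₀.symm.injective.comp (hψinj x fun hx => hq ((Submodule.Quotient.mk_eq_zero U).2 hx))
  -- the pairing
  have hN : ∀ u ∈ U, ∀ d ∈ A, ∀ e ∈ A,
      ρ (d * e) u + u = (ρ d u + u) + (ρ e u + u) := fun u hu d hd e he => by
    rw [dsp_mul, (h.T_fx (h.low e he u hu)) d hd, add_self, add_zero]
  have hfxT : ∀ e ∈ A, ∀ τ ∈ T, ρ e τ + τ = 0 := fun e he τ hτ => by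
    rw [h.T_fx hτ e he, add_self]
  have hshift : ∀ e ∈ A, ∀ u v : V, u + v ∈ T → ρ e u + u = ρ e v + v := by
    intro e he u v huv
    have h1 := hfxT e he _ huv
    rw [map_add] at h1
    rw [← sub_eq_zero, sub_eq_add, ← h1]; abel
  let pr : Additive A → Additive A → T := fun d e =>
    ⟨ρ (co e) (dd x₀ d) + dd x₀ d, h.low _ (hco e) _ (dd x₀ d).2⟩
  let β : Additive A →ₗ[ZMod 2] Additive A →ₗ[ZMod 2] T :=
    (AddMonoidHom.mk' (fun d => (AddMonoidHom.mk' (pr d) fun e e' => Subtype.ext (by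
        change ρ (co (e + e')) _ + _ = _
        rw [hcadd, hN _ (dd x₀ d).2 _ (hco e) _ (hco e')]
        rfl)).toZModLinearMap 2) fun d d' => LinearMap.ext fun e => Subtype.ext (by
        change ρ (co e) (dd x₀ (d + d') : V) + dd x₀ (d + d') =
          ρ (co e) (dd x₀ d : V) + dd x₀ d + (ρ (co e) (dd x₀ d' : V) + dd x₀ d')
        rw [hshift _ (hco e) (dd x₀ (d + d') : V) ((dd x₀ d : V) + dd x₀ d')
          (h.dsp_mem (hco d) (hco d') x₀), map_add]
        abel)).toZModLinearMap 2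
  have hβ : ∀ d e, (β d e : V) = ρ (co e) (dd x₀ d : V) + dd x₀ d := fun _ _ => rfl
  have hθβ : ∀ x d e, (β (θ (Submodule.Quotient.mk x) d) e : V) =
      ρ (co e) (dd x d : V) + dd x d := fun x d e => by
    rw [hβ]
    exact (hshift _ (hco e) _ _ (hkey x d)).symm
  have hsqz : ∀ x d, ρ (co d) (dd x d : V) + dd x d = 0 := fun x d => by
    change ρ (co d) (ρ (co d) x + x) + (ρ (co d) x + x) = 0
    rw [map_add, ← apply_mul, hEl _ (hco d), map_one]
    change x + ρ (co d) x + (ρ (co d) x + x) = 0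
    rw [add_comm x, add_self]
  have halt : ∀ q d, β (θ q d) d = 0 := by
    intro q d
    obtain ⟨x, rfl⟩ := Submodule.Quotient.mk_surjective U q
    exact Subtype.ext ((hθβ x d d).trans (hsqz x d))
  have htwo : ∀ a b : T, a + b = 0 → a = b := fun a b hab => Subtype.ext (by
    rw [← sub_eq_zero, sub_eq_add]; exact congrArg Subtype.val hab)
  have hsymm : ∀ d e, β d e = β e d := fun d e => htwo _ _ (by
    have h1 : β (d + e) (d + e) = 0 := Subtype.ext (hsqz x₀ _)
    have h2 : β d d = 0 := Subtype.ext (hsqz x₀ d)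
    have h3 : β e e = 0 := Subtype.ext (hsqz x₀ e)
    simp only [map_add, LinearMap.add_apply, h2, h3, zero_add, add_zero] at h1
    rwa [add_comm] at h1)
  have hadj : ∀ q d e, β (θ q d) e = β d (θ q e) := fun q d e => by
    rw [hsymm d]
    refine htwo _ _ ?_
    have h1 := halt q (d + e)
    simp only [map_add, LinearMap.add_apply, halt, zero_add, add_zero] at h1
    rwa [add_comm] at h1
  -- subgroups as subspaces
  let subm : ∀ K : Subgroup X, Submodule (ZMod 2) (Additive A) := fun K =>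
    { carrier := {d | co d ∈ K}
      add_mem' := fun {a b} ha hb => K.mul_mem ha hb
      zero_mem' := K.one_mem
      smul_mem' := fun c v hv => by
        rcases (by decide : ∀ j : ZMod 2, j = 0 ∨ j = 1) c with rfl | rfl
        · change co ((0 : ZMod 2) • v) ∈ K
          rw [zero_smul]; exact K.one_mem
        · change co ((1 : ZMod 2) • v) ∈ K
          rw [one_smul]; exact hv }
  let lift : ∀ a ∈ A, Additive A := fun a ha => Additive.ofMul ⟨a, ha⟩
  have hsubcard : ∀ K ≤ A, Nat.card K = 2 ^ finrank (ZMod 2) (subm K) := fun K hK => by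
    rw [← card_f2 (subm K)]
    exact Nat.card_congr
      { toFun := fun a => ⟨lift a (hK a.2), a.2⟩
        invFun := fun d => ⟨co d, d.2⟩
        left_inv := fun a => rfl
        right_inv := fun d => rfl }
  have hA2 : Nat.card A = 2 ^ finrank (ZMod 2) (Additive A) := by
    rw [← card_f2 (Additive A)]; rfl
  haveI : Finite (V ⧸ U) := Quotient.finite _
  have hV : Nat.card V = 2 ^ finrank (ZMod 2) (V ⧸ U) * Nat.card U := by
    rw [← card_f2 (V ⧸ U), U.card_eq_card_quotient_mul_card, mul_comm]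
  -- a fixed vector comes from the orthogonal
  have hdel : ∀ S : Submodule (ZMod 2) (Additive A),
      finrank (ZMod 2) S + finrank (ZMod 2) (perp β S) ≤ finrank (ZMod 2) (Additive A) := by
    refine fun S => perp_bound θ β hθinv hadj hsymm (fun S hS => ?_) S
    let K : Subgroup X :=
      { carrier := {a | ∃ d ∈ S, co d = a}
        one_mem' := ⟨0, S.zero_mem, rfl⟩
        mul_mem' := by
          rintro _ _ ⟨d, hd, rfl⟩ ⟨e, he, rfl⟩
          exact ⟨d + e, S.add_mem hd he, rfl⟩
        inv_mem' := by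
          rintro _ ⟨d, hd, rfl⟩
          exact ⟨d, hd, (inv_eq_of_mul_eq_one_right (hEl _ (hco d))).symm⟩ }
    have hKA : K ≤ A := by rintro _ ⟨d, -, rfl⟩; exact hco d
    have hKS : subm K = S := by
      ext d
      exact ⟨fun ⟨e, he, hed⟩ => (Additive.toMul.injective (Subtype.ext hed) : e = d) ▸ he,
        fun hd => ⟨d, hd, rfl⟩⟩
    have h1 := hPW K (fun g _ => mem_stab_top g)
      (fun g hg u _ => h.sq g (hKA hg) u Submodule.mem_top) fun hle => hS ?_
    · rw [top_inf_eq, fixer_top_eq_bot inj, inf_bot_eq, Subgroup.card_bot, one_mul, card_top_sub,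
        hsubcard K hKA, hKS] at h1
      have h2 : Nat.card (perp β S) * Nat.card T ≤ Nat.card (fx ρ K) := by
        rw [← Nat.card_prod]
        refine Nat.card_le_card_of_injective (fun p : perp β S × T =>
          (⟨(dd x₀ p.1 : V) + (p.2 : V), ?_⟩ : fx ρ K)) ?_
        · rintro _ ⟨k, hk, rfl⟩
          have h3 := congrArg Subtype.val (p.1.2 k hk)
          rw [map_add, h.T_fx p.2.2 _ (hco k)]
          rw [hβ] at h3
          congr 1
          rw [← sub_eq_zero, sub_eq_add]
          exact h3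
        · rintro ⟨⟨d, hd⟩, τ⟩ ⟨⟨e, he⟩, σ⟩ hpq
          have h3 : ((Additive.toMul d : A), τ) = ((Additive.toMul e : A), σ) :=
            (h.bij inj hx₀).1 (Subtype.ext (congrArg Subtype.val hpq :))
          obtain ⟨h4, h5⟩ := Prod.ext_iff.1 h3
          exact Prod.ext (Subtype.ext (Additive.toMul.injective h4)) h5
      rw [card_f2 (perp β S)] at h2
      have h6 := lt_of_le_of_lt (Nat.mul_le_mul_left _ h2) h1
      rw [hV, ← hcardA, hA2, ← mul_assoc, ← mul_assoc, ← pow_add, ← pow_add] at h6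
      exact (Nat.pow_lt_pow_iff_right (by norm_num)).1 (Nat.lt_of_mul_lt_mul_right h6)
    · refine (Submodule.eq_bot_iff _).2 fun d hd => Additive.toMul.injective (Subtype.ext ?_)
      have h1 : co d ∈ fixer ρ (⊤ : Submodule (ZMod 2) V) := hle ⟨d, hd, rfl⟩
      rw [fixer_top_eq_bot inj] at h1
      exact Subgroup.mem_bot.1 h1
  have hdelta : ∀ K ≤ A, Nat.card K * Nat.card ↥(U ⊓ fx ρ K) ≤ Nat.card U := by
    intro K hK
    let F : perp β (subm K) × T → U := fun p => ⟨(dd x₀ p.1 : V) + (p.2 : V),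
      U.add_mem (dd x₀ p.1).2 (h.T_le p.2.2)⟩
    have h1 : Nat.card ↥(U ⊓ fx ρ K) ≤ Nat.card (perp β (subm K)) * Nat.card T := by
      rw [← Nat.card_prod]
      refine le_trans (Nat.card_le_card_of_injective (fun u : ↥(U ⊓ fx ρ K) =>
        (⟨⟨u, u.2.1⟩, ?_⟩ : Set.range F)) fun u v huv =>
          Subtype.ext (congrArg (fun w : Set.range F => ((w : U) : V)) huv))
        (Finite.card_range_le F)
      obtain ⟨⟨d, τ⟩, hp⟩ := (h.bij inj hx₀).2 ⟨u, u.2.1⟩
      refine ⟨(⟨Additive.ofMul d, fun k hk => Subtype.ext ?_⟩, τ), hp⟩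
      rw [hβ, hshift _ (hco k) (dd x₀ (Additive.ofMul d) : V) (u : V) (by
        rw [← congrArg Subtype.val hp]
        change ρ (d : X) x₀ + x₀ + (ρ (d : X) x₀ + x₀ + (τ : V)) ∈ T
        rw [← add_assoc, add_self, zero_add]
        exact τ.2), u.2.2 _ hk, add_self]
      rfl
    refine (Nat.mul_le_mul_left _ h1).trans ?_
    rw [hsubcard K hK, card_f2 (perp β (subm K)), ← mul_assoc, ← pow_add, ← hcardA, hA2]
    exact Nat.mul_le_mul_right _ (Nat.pow_le_pow_right (by norm_num) (hdel _))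
  -- one form of each kind
  have hform : ∀ l : T →ₗ[ZMod 2] ZMod 2, (∃ d e, l (β d e) ≠ 0) →
      finrank (ZMod 2) (LinearMap.ker (β.compr₂ l)) + 2 * finrank (ZMod 2) (V ⧸ U) ≤
        finrank (ZMod 2) (Additive A) := by
    rintro l ⟨d, e, hde⟩
    refine rad_bound θ (β.compr₂ l) hθinv (fun q a b => congrArg l (hadj q a b))
      (fun a b => congrArg l (hsymm a b)) (fun q a => ?_) fun h0 => hde ?_
    · rw [LinearMap.compr₂_apply, halt, map_zero]
    · exact LinearMap.congr_fun (LinearMap.congr_fun h0 d) e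
  have hex : ∃ d e, β d e ≠ 0 := by
    by_contra hno
    push Not at hno
    have h1 := hdel ⊤
    rw [show perp β (⊤ : Submodule (ZMod 2) (Additive A)) = ⊤ from
      eq_top_iff.2 fun d _ k _ => hno d k, finrank_top] at h1
    refine h.ne_bot ((Subgroup.eq_bot_iff_forall _).2 fun a ha => ?_)
    haveI : Subsingleton (Additive A) := (Module.finrank_zero_iff (R := ZMod 2)).1 (by omega)
    exact congrArg co (Subsingleton.elim (lift a ha) 0)
  have hcor : ∀ u ∈ U, ∃ d, ∀ e, ρ (co e) u + u = (β d e : V) := by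
    intro u hu
    obtain ⟨d, hd, hdu⟩ := h.cover inj hx₀ hu
    exact ⟨lift d hd, fun e => (hshift _ (hco e) _ _ hdu).symm⟩
  refine ⟨hdelta, ?_, fun K hK x hx Y hY hne => ?_, fun hcrit hspan w hw hwT v hv => ?_⟩
  · obtain ⟨d, e, hde⟩ := hex
    obtain ⟨l, hl⟩ : ∃ l : T →ₗ[ZMod 2] ZMod 2, l (β d e) ≠ 0 := by
      by_contra hno
      push Not at hno
      exact hde ((Module.forall_dual_apply_eq_zero_iff (ZMod 2) _).1 hno)
    have h1 := hform l ⟨d, e, hl⟩
    have h2 : 2 ^ (2 * finrank (ZMod 2) (V ⧸ U)) ≤ Nat.card A :=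
      hA2 ▸ Nat.pow_le_pow_right (by norm_num) (by omega)
    calc Nat.card V * Nat.card V
        = 2 ^ (2 * finrank (ZMod 2) (V ⧸ U)) * (Nat.card U * Nat.card U) := by
          rw [hV, two_mul, pow_add]; ring
      _ ≤ _ := Nat.mul_le_mul_right _ h2
  · obtain ⟨u, hu, e, he, hue⟩ := hne
    obtain ⟨φ, hφ, hφY⟩ := Submodule.exists_dual_map_eq_bot_of_notMem hue inferInstance
    have hkill : ∀ y ∈ Y, φ y = 0 := fun y hy =>
      (Submodule.mem_bot _).1 (hφY.le ⟨y, hy, rfl⟩)
    set l := φ.comp T.subtype with hl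
    set q : V ⧸ U := Submodule.Quotient.mk x
    have hq : q ≠ 0 := fun h0 => hx ((Submodule.Quotient.mk_eq_zero U).1 h0)
    obtain ⟨d, hd⟩ := hcor u hu
    have h1 := hform l ⟨d, lift e he, fun h0 => hφ (by
      rw [show ρ e u + u = ρ (co (lift e he)) u + u from rfl, hd]; exact h0)⟩
    have h2 := isotropic_bound ((β.compr₂ l).comp (θ q)) (subm K) fun a ha b hb => by
      change φ (β (θ q a) b : V) = 0
      rw [hθβ]
      exact hkill _ (hY _ ha _ hb)
    rw [LinearMap.ker_comp,
      show (LinearMap.ker (β.compr₂ l)).comap (θ q) = (LinearMap.ker (β.compr₂ l)).comap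
        (LinearEquiv.ofInjectiveEndo (θ q) (hθinv q hq)).toLinearMap from rfl,
      Submodule.comap_equiv_eq_map_symm, LinearEquiv.finrank_map_eq] at h2
    rw [hsubcard K hK, hV, ← mul_assoc, ← pow_add, hA2]
    exact Nat.mul_le_mul_right _ (Nat.pow_le_pow_right (by norm_num) (by omega))
  · obtain ⟨d, hd, hdu⟩ := h.cover inj hx₀ hw
    set d₀ := lift d hd
    have hwβ : ∀ e, ρ (co e) w + w = (β d₀ e : V) := fun e => (hshift _ (hco e) _ _ hdu).symm
    have hd0 : d₀ ≠ 0 := fun h0 => hwT (by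
      have : d = 1 := congrArg co h0
      rwa [this, map_one, show (1 : V ≃ₗ[ZMod 2] V) x₀ = x₀ from rfl, add_self, zero_add] at hdu)
    by_contra hno
    push Not at hno
    have hvR : v ∉ (LinearMap.range (β d₀)).map T.subtype := by
      rintro ⟨t, ⟨e, rfl⟩, he⟩
      exact hno (co e) (hco e) (by rw [hwβ]; exact he)
    obtain ⟨φ, hφ, hφY⟩ := Submodule.exists_dual_map_eq_bot_of_notMem hvR inferInstance
    set l := φ.comp T.subtype with hl
    have hex' : ∃ a b, l (β a b) ≠ 0 := by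
      by_contra hnz
      push Not at hnz
      refine hφ (hspan (LinearMap.ker φ) (fun u hu e he => ?_) hv)
      obtain ⟨a, ha⟩ := hcor u hu
      rw [LinearMap.mem_ker, show ρ e u + u = ρ (co (lift e he)) u + u from rfl, ha]
      exact hnz a _
    have h1 := hform l hex'
    have h2 : d₀ ∈ LinearMap.ker (β.compr₂ l) := LinearMap.ext fun e =>
      (Submodule.mem_bot _).1 (hφY.le ⟨_, ⟨_, ⟨e, rfl⟩, rfl⟩, rfl⟩)
    have h3 : 0 < finrank (ZMod 2) (LinearMap.ker (β.compr₂ l)) :=
      Module.finrank_pos_iff.2 ⟨⟨⟨d₀, h2⟩, 0, fun he => hd0 (congrArg Subtype.val he)⟩⟩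
    rw [hV, hA2] at hcrit
    have h4 : 2 ^ finrank (ZMod 2) (Additive A) ≤ 2 ^ (2 * finrank (ZMod 2) (V ⧸ U)) := by
      refine Nat.le_of_mul_le_mul_right (hcrit.trans (le_of_eq ?_)) (Nat.mul_pos Nat.card_pos Nat.card_pos)
      rw [two_mul, pow_add]; ring
    rw [Nat.pow_le_pow_iff_right (by norm_num)] at h4
    omega

/-- The fixed vectors of a configuration form its bottom layer. -/
theorem CfgOn.fx_eq (inj : Function.Injective ρ) (hPW : PW ρ (⊤ : Submodule (ZMod 2) V))
    (h : CfgOn ρ ⊤ A U T) : fx ρ A = T := by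
  have hU : fx ρ A ≤ U := by
    intro v hv
    by_contra hnot
    refine h.ne_bot ((Subgroup.eq_bot_iff_forall _).2 fun d hd => h.eq_one inj hnot hd ?_)
    rw [hv d hd, add_self]
    exact T.zero_mem
  refine (eq_of_card_le h.T_fx ?_).symm
  have h1 := (h.facts inj hPW).delta A le_rfl
  rw [inf_eq_right.2 hU, ← h.card_eq inj] at h1
  exact Nat.le_of_mul_le_mul_left h1 Nat.card_pos

end Cfsg.Agent.SFW
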