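/-
Uniqueness of the conjugate of a subspace fixed by a member of a family of `2`-subgroups.
-/
import Cfsg.Agent.Lib.S3Free.Closure.Props

set_option autoImplicit false
set_option linter.unusedSectionVars false
set_option linter.style.haveILetI false
set_option maxHeartbeats 1000000

namespace Cfsg.Agent.SFW

open Module Cfsg.Agent.S3Free

universe u

variable {X : Type u} [Group X] [Finite X] {V : Type u} [AddCommGroup V] [Module (ZMod 2) V]
variable [Finite V] {ρ : X →* (V ≃ₗ[ZMod 2] V)}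

/-- The subgroup generated by the members of a family inside `Q`. -/
def genIn (T : Subgroup X → Prop) (Q : Subgroup X) : Subgroup X := sSup {A | T A ∧ A ≤ Q}

theorem le_genIn {T : Subgroup X → Prop} {Q A : Subgroup X} (hA : T A) (h : A ≤ Q) : A ≤ genIn T Q :=
  le_sSup ⟨hA, h⟩

theorem genIn_le (T : Subgroup X → Prop) (Q : Subgroup X) : genIn T Q ≤ Q := sSup_le fun _ h => h.2

theorem genIn_mono (T : Subgroup X → Prop) {P Q : Subgroup X} (h : P ≤ Q) : genIn T P ≤ genIn T Q :=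
  sSup_le fun _ hA => le_genIn hA.1 (hA.2.trans h)

theorem genIn_genIn (T : Subgroup X → Prop) (Q : Subgroup X) : genIn T (genIn T Q) = genIn T Q :=
  le_antisymm (genIn_le T _) (sSup_le fun _ hA => le_genIn hA.1 (le_genIn hA.1 hA.2))

theorem cjS_genIn {T : Subgroup X → Prop} (hT : ∀ A g, T A → T (cjS g A)) (g : X) (Q : Subgroup X) :
    cjS g (genIn T Q) = genIn T (cjS g Q) := by
  have h : ∀ g Q, cjS g (genIn T Q) ≤ genIn T (cjS g Q) := by
    intro g Q
    rw [cjS_le_iff]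
    refine sSup_le fun A hA => ?_
    rw [← cjS_le_iff]
    exact le_genIn (hT A g hA.1) (cjS_mono g hA.2)
  refine le_antisymm (h g Q) ?_
  have h2 := cjS_mono g (h g⁻¹ (cjS g Q))
  rwa [← cjS_mul, mul_inv_cancel, cjS_one, ← cjS_mul, inv_mul_cancel, cjS_one] at h2

theorem genIn_normalized {T : Subgroup X → Prop} (hT : ∀ A g, T A → T (cjS g A)) {g : X}
    {Q : Subgroup X} (h : g ∈ Subgroup.normalizer (Q : Set X)) :
    g ∈ Subgroup.normalizer (genIn T Q : Set X) := by
  rw [mem_normalizer_iff_cjS] at h ⊢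
  rw [cjS_genIn hT, h]

/-- Each conjugate of an element of the family lying in a common subgroup stabilizes only one
conjugate of `W`, so there is no element of the family. -/
theorem engine {T : Subgroup X → Prop} (hT2 : ∀ A, T A → IsPGroup 2 A)
    (hTc : ∀ A g, T A → T (cjS g A)) (hT0 : ∀ A, T A → ¬ A ≤ fixer ρ (⊤ : Submodule (ZMod 2) V))
    {S : Sylow 2 X} {W : Submodule (ZMod 2) V} (hS : (S : Subgroup X) ≤ stab ρ W)
    (hnormE : Subgroup.normalizer (genIn T (S : Subgroup X) : Set X) ≠ ⊤ →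
      Subgroup.normalizer (genIn T (S : Subgroup X) : Set X) ≤ stab ρ W)
    (hgen : ∀ U : Submodule (ZMod 2) V, (∀ g, ∀ v ∈ U, ρ g v ∈ U) → W ≤ U → U = ⊤)
    (hfixW : ∀ A, T A → A ≤ stab ρ W → A ≤ fixer ρ W)
    (hcore : ∀ (A L : Subgroup X) (c : Submodule (ZMod 2) V), T A → A ≤ L → c ∈ Cj ρ W →
      A ≤ fixer ρ c → (∀ K, A ≤ K → K ≤ L → K ≠ L → K ≤ stab ρ c) →
      (∀ x ∈ L, A ⊔ cjS x A ≠ L → x ∈ stab ρ c) →
      (∀ l ∈ L, cjS l A ≤ stab ρ c → cjS l A ≤ fixer ρ c) →
      (∃ l ∈ L, ¬ cjS l A ≤ stab ρ c) → ¬ IsPGroup 2 L → False) :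
    ∀ A, ¬ T A := by
  classical
  haveI : Finite (Submodule (ZMod 2) V) := inferInstance
  -- it suffices that every member fixes `W`
  suffices hall : ∀ A, T A → A ≤ stab ρ W by
    intro A hA
    set K₀ := genIn T (⊤ : Subgroup X) with hK₀
    have hK : K₀ ≤ fixer ρ W := sSup_le fun B hB => hfixW B hB.1 (hall B hB.1)
    have hn : ∀ g, g ∈ Subgroup.normalizer (K₀ : Set X) := fun g =>
      genIn_normalized hTc (mem_normalizer_iff_cjS.2 (eq_top_iff.2 fun y _ =>
        mem_cjS.2 (Subgroup.mem_top _)))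
    have hfx : fx ρ K₀ = ⊤ := by
      refine hgen _ (fun g v hv k hk => ?_) (le_fx_of_le_fixer ρ hK)
      have h1 := hv _ ((Subgroup.mem_normalizer_iff''.1 (hn g) k).1 hk)
      rw [apply_mul, apply_mul] at h1
      have h2 := congrArg (ρ g) h1
      rwa [apply_apply_inv] at h2
    exact hT0 A hA ((le_genIn hA le_top).trans (le_fixer_of_le_fx ρ hfx.ge))
  set E := genIn T (S : Subgroup X) with hE
  by_cases hEn : Subgroup.normalizer (E : Set X) = ⊤
  · intro A hA
    obtain ⟨P, hP⟩ := (hT2 A hA).exists_le_sylow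
    obtain ⟨g, hg⟩ := MulAction.exists_smul_eq X P S
    have h1 : cjS g A ≤ (S : Subgroup X) := by
      rw [← hg, Sylow.coe_subgroup_smul]
      intro x hx
      rw [Subgroup.mem_pointwise_smul_iff_inv_smul_mem]
      exact hP (by simpa [MulAut.conj_symm_apply, mul_assoc] using mem_cjS.1 hx)
    have h2 : cjS g A ≤ E := le_genIn (hTc A g hA) h1
    have h3 : cjS g⁻¹ E = E := mem_normalizer_iff_cjS.1 (hEn ▸ Subgroup.mem_top _)
    have h4 := cjS_mono g⁻¹ h2
    rw [← cjS_mul, inv_mul_cancel, cjS_one, h3] at h4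
    exact h4.trans ((genIn_le T _).trans hS)
  have hnorm : Subgroup.normalizer (E : Set X) ≤ stab ρ W := hnormE hEn
  have hfix : ∀ A, T A → ∀ c ∈ Cj ρ W, A ≤ stab ρ c → A ≤ fixer ρ c := by
    rintro A hA _ ⟨g, rfl⟩ h
    have h1 := hfixW _ (hTc A g⁻¹ hA) (by rw [cjS_le_iff, inv_inv, ← stab_map]; exact h)
    rwa [cjS_le_iff, inv_inv, ← fixer_map] at h1
  have hconjS : ∀ {Q : Subgroup X}, IsPGroup 2 Q → ∀ {g : X},
      Q ≤ stab ρ (W.map (ρ g).toLinearMap) →
      ∃ m ∈ stab ρ W, cjS (m * g⁻¹) Q ≤ (S : Subgroup X) := by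
    intro Q hQ g h
    have hle : cjS g⁻¹ Q ≤ stab ρ W := by
      rw [cjS_le_iff, inv_inv, ← stab_map]; exact h
    obtain ⟨m, hm, hmS⟩ := exists_conj_sylow hS (hQ.map _) hle
    exact ⟨m, hm, by rw [cjS_mul]; exact hmS⟩
  have hclass : ∀ {Q : Subgroup X}, IsPGroup 2 Q → ∃ c ∈ Cj ρ W, Q ≤ stab ρ c := by
    intro Q hQ
    obtain ⟨P, hP⟩ := hQ.exists_le_sylow
    obtain ⟨g, hg⟩ := MulAction.exists_smul_eq X S P
    refine ⟨_, ⟨g, rfl⟩, fun x hx => ?_⟩
    rw [stab_map, mem_cjS]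
    refine hS ?_
    have h1 := hP hx
    rw [← hg, Sylow.coe_subgroup_smul, Subgroup.mem_pointwise_smul_iff_inv_smul_mem] at h1
    simpa [MulAut.conj_symm_apply, mul_assoc] using h1
  -- uniqueness relative to a subgroup
  let Uniq : Subgroup X → Prop := fun Dg =>
    ∀ A, T A → A ≤ Subgroup.normalizer (Dg : Set X) → ¬ A ≤ Dg →
      ∀ c ∈ Cj ρ W, ∀ d ∈ Cj ρ W, A ⊔ Dg ≤ stab ρ c → A ⊔ Dg ≤ stab ρ d → c = d
  have pair : ∀ Dg : Subgroup X, IsPGroup 2 Dg → Uniq Dg →
      ∀ k, ∀ A B, T A → T B → A ≤ Subgroup.normalizer (Dg : Set X) →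
        B ≤ Subgroup.normalizer (Dg : Set X) → ¬ A ≤ Dg → ¬ B ≤ Dg →
        Nat.card (A ⊔ B : Subgroup X) ≤ k → ∀ c ∈ Cj ρ W, ∀ d ∈ Cj ρ W,
        A ⊔ Dg ≤ stab ρ c → B ⊔ Dg ≤ stab ρ d → c = d := by
    intro Dg hD hu k
    induction k with
    | zero =>
      intro A B _ _ _ _ _ _ hk
      exact absurd hk (by have := Nat.card_pos (α := (A ⊔ B : Subgroup X)); omega)
    | succ k ih =>
      intro A B hA hB hAN hBN hAD hBD hk c hc d hd hAc hBd
      set L := A ⊔ B with hL
      have hLN : L ≤ Subgroup.normalizer (Dg : Set X) := sup_le hAN hBN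
      by_cases h2 : IsPGroup 2 L
      · obtain ⟨e, he, hle⟩ := hclass (isPGroup_sup h2 hD hLN)
        rw [hu A hA hAN hAD c hc e he hAc ((sup_le_sup_right le_sup_left _).trans hle),
          hu B hB hBN hBD d hd e he hBd ((sup_le_sup_right le_sup_right _).trans hle)]
      have hconj : ∀ l ∈ L, T (cjS l A) ∧ cjS l A ≤ Subgroup.normalizer (Dg : Set X) ∧
          ¬ cjS l A ≤ Dg ∧ cjS l A ≤ L ∧ cjS l A ⊔ Dg ≤ stab ρ (c.map (ρ l).toLinearMap) := by
        intro l hl
        have hlD := mem_normalizer_iff_cjS.1 (hLN hl)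
        have hle : cjS l A ≤ L := fun x hx => by
          have := L.mul_mem (L.mul_mem hl ((le_sup_left : A ≤ L) (mem_cjS.1 hx))) (L.inv_mem hl)
          simpa [mul_assoc] using this
        refine ⟨hTc A l hA, hle.trans hLN, fun h => hAD ?_, hle, ?_⟩
        · rw [← hlD] at h
          intro a ha
          have := mem_cjS.1 (h (conj_mem_cjS ha))
          simpa [mul_assoc] using this
        · rw [stab_map]
          refine sup_le (cjS_mono l (le_sup_left.trans hAc)) ?_
          conv_lhs => rw [← hlD]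
          exact cjS_mono l (le_sup_right.trans hAc)
      by_cases hall' : ∀ l ∈ L, cjS l A ≤ stab ρ c
      · have hLc : L ≤ stab ρ c := fun l hl => by
          obtain ⟨h1, h2, h3, -, h5⟩ := hconj l hl
          exact (hu _ h1 h2 h3 _ (map_mem_Cj ρ hc l) c hc h5
            (sup_le (hall' l hl) (le_sup_right.trans hAc)))
        exact hu B hB hBN hBD c hc d hd (sup_le (le_sup_right.trans hLc) (le_sup_right.trans hAc)) hBd
      push Not at hall'
      exfalso
      refine hcore A L c hA le_sup_left hc (hfix A hA c hc (le_sup_left.trans hAc)) ?_ ?_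
        (fun l _ h => hfix _ (hTc A l hA) c hc h) hall' h2
      · intro K hAK hKL hne' x hx
        obtain ⟨h1, h2, h3, -, h5⟩ := hconj x (hKL hx)
        have hsub : A ⊔ cjS x A ≤ K := sup_le hAK fun y hy => by
          have := K.mul_mem (K.mul_mem hx (hAK (mem_cjS.1 hy))) (K.inv_mem hx)
          simpa [mul_assoc] using this
        have hcard : Nat.card (A ⊔ cjS x A : Subgroup X) < Nat.card L := by
          refine lt_of_le_of_lt (Subgroup.card_le_of_le hsub) (lt_of_le_of_ne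
            (Subgroup.card_le_of_le hKL) fun he => hne' ?_)
          exact Subgroup.eq_of_le_of_card_ge hKL he.ge
        exact (ih A (cjS x A) hA h1 hAN h2 hAD h3 (by omega) c hc _ (map_mem_Cj ρ hc x) hAc h5).symm
      · intro x hx hne'
        obtain ⟨h1, h2, h3, h4, h5⟩ := hconj x hx
        have hcard : Nat.card (A ⊔ cjS x A : Subgroup X) < Nat.card L :=
          lt_of_le_of_ne (Subgroup.card_le_of_le (sup_le le_sup_left h4)) fun he =>
            hne' (Subgroup.eq_of_le_of_card_ge (sup_le le_sup_left h4) he.ge)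
        exact (ih A (cjS x A) hA h1 hAN h2 hAD h3 (by omega) c hc _ (map_mem_Cj ρ hc x) hAc h5).symm
  -- a member stabilizes only one conjugate
  have uniq : ∀ A, T A → ∀ c ∈ Cj ρ W, ∀ d ∈ Cj ρ W, A ≤ stab ρ c → A ≤ stab ρ d → c = d := by
    by_contra hcon
    push Not at hcon
    obtain ⟨A, hA, c₀, hc₀, d₀, hd₀, hAc, hAd, hne₀⟩ := hcon
    obtain ⟨Dg, ⟨hD2, hDgen, hD0, c, hc, d, hd, hDc, hDd, hcd⟩, hmaxD⟩ := Set.Finite.exists_maximal
      (Set.toFinite {Q : Subgroup X | IsPGroup 2 Q ∧ Q ≤ genIn T Q ∧ Q ≠ ⊥ ∧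
        ∃ c ∈ Cj ρ W, ∃ d ∈ Cj ρ W, Q ≤ stab ρ c ∧ Q ≤ stab ρ d ∧ c ≠ d})
      ⟨A, hT2 A hA, le_genIn hA le_rfl, fun h => hT0 A hA (h ▸ bot_le), c₀, hc₀, d₀, hd₀, hAc, hAd,
        hne₀⟩
    have hu : Uniq Dg := by
      intro B hB hBN hBD e he f hf hBe hBf
      by_contra hef
      exact hBD (le_sup_left.trans (hmaxD ⟨isPGroup_sup (hT2 B hB) hD2 hBN,
        sup_le (le_genIn hB le_sup_left) (hDgen.trans (genIn_mono T le_sup_right)),
        fun h => hD0 (le_bot_iff.1 (le_sup_right.trans h.le)), e, he, f, hf, hBe, hBf, hef⟩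
        le_sup_right))
    have hfull : ∀ h : X, Dg ≠ cjS h E := by
      intro h he
      have key : ∀ e ∈ Cj ρ W, Dg ≤ stab ρ e → e = W.map (ρ h).toLinearMap := by
        rintro _ ⟨g, rfl⟩ hle
        obtain ⟨m, hm, hmS⟩ := hconjS hD2 hle
        rw [he, hE, ← cjS_mul, cjS_genIn hTc] at hmS
        have h1 : cjS (m * g⁻¹ * h) E ≤ E := by
          rw [hE, cjS_genIn hTc, ← genIn_genIn]
          exact genIn_mono T hmS
        have h2 := Subgroup.eq_of_le_of_card_ge h1 (by rw [card_cjS])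
        have h3 : g⁻¹ * h ∈ stab ρ W := by
          have := (stab ρ W).mul_mem ((stab ρ W).inv_mem hm) (hnorm (mem_normalizer_iff_cjS.2 h2))
          simpa [mul_assoc] using this
        have h4 : (W.map (ρ (g⁻¹ * h)).toLinearMap).map (ρ g).toLinearMap =
            W.map (ρ h).toLinearMap := by
          rw [map_map_apply, mul_inv_cancel_left]
        rw [(mem_stab ρ).1 h3] at h4
        exact h4
      exact hcd ((key c hc hDc).trans (key d hd hDd).symm)
    have hgrow : ∀ e ∈ Cj ρ W, Dg ≤ stab ρ e → ∃ B, T B ∧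
        B ≤ Subgroup.normalizer (Dg : Set X) ∧ ¬ B ≤ Dg ∧ B ⊔ Dg ≤ stab ρ e := by
      rintro _ ⟨g, rfl⟩ hle
      obtain ⟨m, hm, hmS⟩ := hconjS hD2 hle
      set h := (m * g⁻¹)⁻¹ with hh
      set P := cjS h (S : Subgroup X) with hP
      have hDP : Dg ≤ P := by
        have := cjS_mono h hmS
        rwa [← cjS_mul, inv_mul_cancel, cjS_one] at this
      have hPe : P ≤ stab ρ (W.map (ρ g).toLinearMap) := by
        refine (cjS_mono h hS).trans ?_
        rw [← stab_map, hh, mul_inv_rev, inv_inv, ← map_map_apply,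
          (mem_stab ρ).1 ((stab ρ W).inv_mem hm)]
      set Q := P ⊓ Subgroup.normalizer (Dg : Set X) with hQ
      by_cases hQD : genIn T Q ≤ Dg
      · exfalso
        have hQeq : genIn T Q = Dg := le_antisymm hQD
          (hDgen.trans (genIn_mono T (le_inf hDP Subgroup.le_normalizer)))
        have hnQ : P ⊓ Subgroup.normalizer (Q : Set X) ≤ Q := fun x hx => ⟨hx.1, by
          have := genIn_normalized hTc hx.2
          rwa [hQeq] at this⟩
        have hP2 : IsPGroup 2 P := S.2.map _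
        have hQP : Q = P := by
          by_contra hne
          haveI := hP2.isNilpotent
          have hlt : (Q.subgroupOf P) < ⊤ := lt_top_iff_ne_top.2 fun h =>
            hne (le_antisymm inf_le_left (Subgroup.subgroupOf_eq_top.1 h))
          obtain ⟨x, hx, hxn⟩ := SetLike.exists_of_lt (Group.normalizerCondition_of_isNilpotent _ hlt)
          refine hxn (hnQ ⟨x.2, Subgroup.mem_normalizer_fintype fun y hy => ?_⟩)
          exact (Subgroup.mem_normalizer_iff.1 hx ⟨y, hy.1⟩).1 hy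
        refine hfull h ?_
        rw [hE, cjS_genIn hTc, ← hP, ← hQP, hQeq]
      · have : ∃ B, T B ∧ B ≤ Q ∧ ¬ B ≤ Dg := by
          by_contra hno
          push Not at hno
          exact hQD (sSup_le fun B hB => hno B hB.1 hB.2)
        obtain ⟨B, hB, hBQ, hBD⟩ := this
        exact ⟨B, hB, hBQ.trans inf_le_right, hBD, sup_le ((hBQ.trans inf_le_left).trans hPe) hle⟩
    obtain ⟨B₁, hB₁, hN₁, hD₁, hc₁⟩ := hgrow c hc hDc
    obtain ⟨B₂, hB₂, hN₂, hD₂, hd₂⟩ := hgrow d hd hDd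
    exact hcd (pair Dg hD2 hu _ B₁ B₂ hB₁ hB₂ hN₁ hN₂ hD₁ hD₂ le_rfl c hc d hd hc₁ hd₂)
  intro A hA
  have hn : ∀ C : Subgroup X, C ≤ Subgroup.normalizer ((⊥ : Subgroup X) : Set X) := fun C g _ =>
    mem_normalizer_iff_cjS.2 (Subgroup.map_bot _)
  obtain ⟨c, hc, hAc⟩ := hclass (hT2 A hA)
  -- every conjugate of `W` is `W`
  have hstab : ∀ g : X, g ∈ stab ρ W := by
    intro g
    obtain ⟨h, rfl⟩ := id hc
    have hB : ∀ y : X, T (cjS y A) ∧
        cjS y A ≤ stab ρ ((W.map (ρ h).toLinearMap).map (ρ y).toLinearMap) :=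
      fun y => ⟨hTc A y hA, by rw [stab_map ρ (W.map (ρ h).toLinearMap) y]; exact cjS_mono y hAc⟩
    have h1 : ∀ y : X, (W.map (ρ h).toLinearMap) = (W.map (ρ h).toLinearMap).map (ρ y).toLinearMap :=
      fun y => pair ⊥ IsPGroup.of_bot
        (fun C hC _ _ e he f hf h1 h2 => uniq C hC e he f hf (le_sup_left.trans h1) (le_sup_left.trans h2))
        _ A (cjS y A) hA (hB y).1 (hn A) (hn _) (fun h => hT0 A hA (h.trans bot_le))
        (fun h => hT0 _ (hB y).1 (h.trans bot_le)) le_rfl _ hc _ (map_mem_Cj ρ hc y)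
        (by rw [sup_bot_eq]; exact hAc) (by rw [sup_bot_eq]; exact (hB y).2)
    have h2 := (h1 (h * g * h⁻¹)).symm
    rw [map_map_apply, mul_assoc, inv_mul_cancel, mul_one, ← map_map_apply] at h2
    have h3 := congrArg (fun U => U.map (ρ h⁻¹).toLinearMap) h2
    simp only [map_inv_map] at h3
    exact h3
  exact fun a _ => hstab a

end Cfsg.Agent.SFW
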