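/-
A subspace without offenders, whose conjugates span the module, forces the module to have none.
-/
import Cfsg.Agent.Lib.S3Free.Closure.Engine

set_option autoImplicit false
set_option linter.unusedSectionVars false
set_option linter.style.haveILetI false
set_option maxHeartbeats 1000000

namespace Cfsg.Agent.SFW

open Module Cfsg.Agent.S3Free

universe u

section Aux

variable {X : Type u} [Group X] [Finite X] {V : Type u} [AddCommGroup V] [Module (ZMod 2) V]
variable [Finite V] {ρ : X →* (V ≃ₗ[ZMod 2] V)}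

/-- Restriction of the action to a subgroup and an invariant subspace. -/
theorem compat_res (K : Subgroup X) (U : Submodule (ZMod 2) V) (h : K ≤ stab ρ U) :
    Compat (res ρ K U h).rangeRestrict U.subtype ρ (res ρ K U h).range.subtype where
  surj := MonoidHom.rangeRestrict_surjective _
  inj := Subtype.val_injective
  act _ _ := rfl

/-- The span of the translates of a subspace by a subgroup. -/
def transSpan (ρ : X →* (V ≃ₗ[ZMod 2] V)) (K : Subgroup X) (W : Submodule (ZMod 2) V) :
    Submodule (ZMod 2) V :=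
  ⨆ k : K, W.map (ρ (k : X)).toLinearMap

theorem le_transSpan (K : Subgroup X) (W : Submodule (ZMod 2) V) : W ≤ transSpan ρ K W :=
  le_trans (by rw [show ((1 : K) : X) = 1 from rfl, map_one]; exact (Submodule.map_id W).ge)
    (le_iSup (fun k : K => W.map (ρ (k : X)).toLinearMap) 1)

theorem le_stab_transSpan (K : Subgroup X) (W : Submodule (ZMod 2) V) :
    K ≤ stab ρ (transSpan ρ K W) := by
  intro k hk
  refine mem_stab_of_mem ρ fun v hv => ?_
  have h : (transSpan ρ K W).map (ρ k).toLinearMap ≤ transSpan ρ K W := by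
    rw [transSpan, Submodule.map_iSup]
    refine iSup_le fun j => ?_
    rw [map_map_apply]
    exact le_iSup (fun j : K => W.map (ρ (j : X)).toLinearMap) ⟨k * (j : X), K.mul_mem hk j.2⟩
  exact h ⟨v, hv, rfl⟩

theorem transSpan_le {K : Subgroup X} {W U : Submodule (ZMod 2) V} (h : K ≤ stab ρ U) (hW : W ≤ U) :
    transSpan ρ K W ≤ U := by
  refine iSup_le fun k => ?_
  rintro _ ⟨w, hw, rfl⟩
  exact apply_mem_of_stab ρ (h k.2) (hW hw)

theorem card_lt_of_ne_top {K : Subgroup X} (hK : K ≠ ⊤) : Nat.card K < Nat.card X := by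
  refine lt_of_le_of_ne (Subgroup.card_le_card_group K) fun he => hK ?_
  exact Subgroup.eq_top_of_card_eq K he

/-- A subgroup inducing an offender on the whole module of a faithful action. -/
theorem false_of_range {c : Submodule (ZMod 2) V} (hPW : PW ρ c) {G : Subgroup X}
    (hG : G ≤ stab ρ c) (hsq : ∀ g ∈ G, ∀ u ∈ c, ρ (g * g) u = u) (hne : ¬ G ≤ fixer ρ c)
    (hle : finrank (ZMod 2) c ≤
      dA (res ρ G c hG).range + finrank (ZMod 2) (c ⊓ fx ρ G : Submodule (ZMod 2) V)) : False := by
  have h1 := hPW G hG hsq hne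
  haveI : Finite (c ≃ₗ[ZMod 2] c) := Finite.of_injective (fun e => (e : c → c)) DFunLike.coe_injective
  set r := res ρ G c hG with hr
  have hElr : El r.range := by
    rintro _ ⟨g, rfl⟩
    refine LinearEquiv.ext fun u => Subtype.ext ?_
    change ρ (g : X) (ρ (g : X) (u : V)) = u
    rw [← apply_mul]
    exact hsq g g.2 u u.2
  have hker : Nat.card r.ker = Nat.card ↥(G ⊓ fixer ρ c) :=
    Nat.card_congr
      { toFun := fun g => ⟨(g : X), g.1.2, fun u hu =>
          congrArg Subtype.val (LinearEquiv.congr_fun (MonoidHom.mem_ker.1 g.2) ⟨u, hu⟩)⟩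
        invFun := fun g => ⟨⟨g, g.2.1⟩, LinearEquiv.ext fun u => Subtype.ext (g.2.2 u u.2)⟩
        left_inv := fun _ => rfl
        right_inv := fun _ => rfl }
  rw [← r.ker.card_mul_index, Subgroup.index_ker, hker, hElr.card, card_sub (c ⊓ _), card_sub c,
    mul_assoc, ← pow_add] at h1
  have h2 := Nat.lt_of_mul_lt_mul_left h1
  rw [Nat.pow_lt_pow_iff_right (by norm_num)] at h2
  omega

end Aux

/-- **No offenders.** -/
theorem no_off {X : Type u} [Group X] [Finite X] {V : Type u} [AddCommGroup V] [Module (ZMod 2) V]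
    [Finite V] {ρ : X →* (V ≃ₗ[ZMod 2] V)} (inj : Function.Injective ρ) (h3 : NoS3 X)
    {S : Sylow 2 X} {W : Submodule (ZMod 2) V} (hS : (S : Subgroup X) ≤ stab ρ W)
    (hgen : ∀ U : Submodule (ZMod 2) V, (∀ g, ∀ v ∈ U, ρ g v ∈ U) → W ≤ U → U = ⊤)
    (hPW : PW ρ W) : ∀ A, ¬ Off ρ A := by
  suffices key : ∀ n : ℕ, ∀ (X : Type u) [Group X] [Finite X] (V : Type u) [AddCommGroup V]
      [Module (ZMod 2) V] [Finite V] (ρ : X →* (V ≃ₗ[ZMod 2] V)), Nat.card X ≤ n →
      Function.Injective ρ → NoS3 X → ∀ (S : Sylow 2 X) (W : Submodule (ZMod 2) V),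
      (S : Subgroup X) ≤ stab ρ W →
      (∀ U : Submodule (ZMod 2) V, (∀ g, ∀ v ∈ U, ρ g v ∈ U) → W ≤ U → U = ⊤) →
      PW ρ W → ∀ A, ¬ Off ρ A from key _ X V ρ le_rfl inj h3 S W hS hgen hPW
  clear hPW hgen hS W S h3 inj ρ
  intro n
  induction n with
  | zero =>
    intro X _ _ V _ _ _ ρ hn
    exact absurd hn (by have := Nat.card_pos (α := X); omega)
  | succ n ih =>
    intro X _ _ V _ _ _ ρ hn inj h3 S W₀ hS₀ hgen₀ hPW₀ A₀ hA₀
    classical
    haveI : Finite (Submodule (ZMod 2) V) := inferInstance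
    obtain ⟨W, ⟨hW₀, hS, hPW⟩, hWmax⟩ := Set.Finite.exists_maximal
      (Set.toFinite {U : Submodule (ZMod 2) V | W₀ ≤ U ∧ (S : Subgroup X) ≤ stab ρ U ∧ PW ρ U})
      ⟨W₀, le_rfl, hS₀, hPW₀⟩
    have hgen : ∀ U : Submodule (ZMod 2) V, (∀ g, ∀ v ∈ U, ρ g v ∈ U) → W ≤ U → U = ⊤ :=
      fun U hU hle => hgen₀ U hU (hW₀.trans hle)
    have hmax : ∀ K : Subgroup X, (S : Subgroup X) ≤ K → K ≠ ⊤ → K ≤ stab ρ W := by
      intro K hSK hK
      set U := transSpan ρ K W with hU
      have hKU : K ≤ stab ρ U := le_stab_transSpan K W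
      have hWU : W ≤ U := le_transSpan K W
      haveI : Finite (U ≃ₗ[ZMod 2] U) :=
        Finite.of_injective (fun e => (e : U → U)) DFunLike.coe_injective
      set r := res ρ K U hKU with hr
      have hc := compat_res K U hKU
      have hmap : (W.comap U.subtype).map U.subtype = W :=
        Submodule.map_comap_eq_self (by rwa [Submodule.range_subtype])
      have hS' : (((S.subtype hSK).mapSurjective r.rangeRestrict_surjective :
          Sylow 2 r.range) : Subgroup r.range) ≤ stab r.range.subtype (W.comap U.subtype) := by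
        rw [Sylow.coe_mapSurjective]
        rintro _ ⟨s, hs, rfl⟩
        rw [hc.mem_stab, hmap]
        exact hS hs
      have hno := ih r.range U r.range.subtype
        (by
          have := Nat.card_le_card_of_surjective _ r.rangeRestrict_surjective
          have := card_lt_of_ne_top hK
          omega)
        Subtype.val_injective ((h3.subgroup K).surj r.rangeRestrict_surjective) _ (W.comap U.subtype)
        hS'
        (fun U' hU' hle => by
          refine eq_top_iff.2 fun x _ => ?_
          have hst : K ≤ stab ρ (U'.map U.subtype) := fun k hk => mem_stab_of_mem ρ (by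
            rintro _ ⟨v, hv, rfl⟩
            exact ⟨r ⟨k, hk⟩ v, hU' ⟨r ⟨k, hk⟩, ⟨_, rfl⟩⟩ v hv, rfl⟩)
          have hle' : U ≤ U'.map U.subtype := transSpan_le hst (hmap.ge.trans (Submodule.map_mono hle))
          obtain ⟨w, hw, hwx⟩ := hle' x.2
          rwa [← Subtype.ext hwx])
        (hc.pw (by rwa [hmap]))
      have hPWU : PW ρ U := by
        refine PW.of_sylow (hSK.trans hKU) fun D hD hsq hne => ?_
        have h1 := hc.pw_of_no_off Subtype.val_injective hno (hD.trans hSK)
          (by rwa [Submodule.range_subtype]) (by rwa [Submodule.range_subtype])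
        rwa [Submodule.range_subtype] at h1
      have hUW : U ≤ W := hWmax ⟨hW₀.trans hWU, hSK.trans hKU, hPWU⟩ hWU
      rw [le_antisymm hWU hUW]
      exact hKU
    obtain ⟨A₁, -, hA₁⟩ := exists_tight ρ hA₀
    refine engine (T := Tight ρ) (fun A hA => hA.off.1.isPGroup) (fun A g hA => hA.cjS ρ g)
      (fun A hA h => hA.off.2.1 (le_bot_iff.1 (h.trans (fixer_top_eq_bot inj).le))) hS
      (fun hne => hmax _ (fun s hs => genIn_normalized (fun A g hA => hA.cjS ρ g)
        (Subgroup.le_normalizer hs)) hne) hgen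
      (fun A hA hAW => ?_) (fun A L c hA hAL hc hfix hsub _ hdich hbad hL2 => ?_) A₁ hA₁
    · by_contra hne
      have h1 := hPW A hAW (fun d hd u _ => by rw [hA.off.1 d hd, map_one]; rfl) hne
      have h2 := hA.best W
      rw [hA.off.1.card, (hA.off.1.mono inf_le_left).card, card_sub, card_sub W, ← pow_add, ← pow_add,
        Nat.pow_lt_pow_iff_right (by norm_num)] at h1
      omega
    · obtain ⟨g, rfl⟩ := hc
      have hPWc := hPW.map g
      set c := W.map (ρ g).toLinearMap
      set σ : L →* (V ≃ₗ[ZMod 2] V) := ρ.comp L.subtype with hσ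
      set A' := A.subgroupOf L with hA'
      have hmem : ∀ {a : L}, a ∈ A' ↔ (a : X) ∈ A := Subgroup.mem_subgroupOf
      have hcj : ∀ (l : L) (b : L), b ∈ cjS l A' ↔ (b : X) ∈ cjS (l : X) A := fun l b => by
        rw [mem_cjS, mem_cjS, hmem]; rfl
      have hcjL : ∀ l : L, cjS (l : X) A ≤ L := fun l b hb => by
        have := L.mul_mem (L.mul_mem l.2 (hAL (mem_cjS.1 hb))) (L.inv_mem l.2)
        simpa [mul_assoc] using this
      have hfx : fx σ A' = fx ρ A := Submodule.ext fun v =>
        ⟨fun h a ha => h ⟨a, hAL ha⟩ (hmem.2 ha), fun h a ha => h _ (hmem.1 ha)⟩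
      obtain ⟨G, hG, hsq, hne, hle⟩ := core_aux (σ := σ) (ffBelow.{u} (Nat.card L + finrank (ZMod 2) V + 1))
        (h3.subgroup L) (A := A') (c := c) (Nat.lt_succ_self _)
        (fun a ha => Subtype.ext (hA.off.1 _ (hmem.1 ha)))
        (fun a ha b hb v => hA.quad (hmem.1 ha) (hmem.1 hb) v)
        (fun Y => by
          have h := hA.best Y
          have he : dA (A' ⊓ fixer σ Y) = dA (A ⊓ fixer ρ Y) := by
            have h1 : A' ⊓ fixer σ Y = (A ⊓ fixer ρ Y).subgroupOf L := Subgroup.ext fun _ => Iff.rfl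
            rw [dA, dA, h1,
              Nat.card_congr (Subgroup.subgroupOfEquivOfLe (inf_le_left.trans hAL)).toEquiv]
          have he' : dA A' = dA A := by
            rw [dA, dA, Nat.card_congr (Subgroup.subgroupOfEquivOfLe hAL).toEquiv]
          rw [hfx, he, he']
          exact h)
        (fun a ha => hfix (hmem.1 ha))
        (fun K hK hKt k hk => hsub (K.map L.subtype) (fun a ha => ⟨⟨a, hAL ha⟩, hK (hmem.2 ha), rfl⟩)
          (Subgroup.map_subtype_le K) (fun he => hKt (eq_top_iff.2 fun k _ => by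
            obtain ⟨k', hk', hkk⟩ := (he.symm.le k.2 : (k : X) ∈ K.map L.subtype)
            rwa [← Subtype.ext hkk])) ⟨k, hk, rfl⟩)
        (fun l hl b hb => hdich l l.2 (fun y hy => hl (show (⟨y, hcjL l hy⟩ : L) ∈ cjS l A' from
          (hcj l _).2 hy)) ((hcj l b).1 hb))
        (by
          obtain ⟨l, hl, h⟩ := hbad
          exact ⟨⟨l, hl⟩, fun hle => h fun y hy => hle (show (⟨y, hcjL ⟨l, hl⟩ hy⟩ : L) ∈ _ from
            (hcj ⟨l, hl⟩ _).2 hy)⟩)
        hL2
      set G' := G.map L.subtype with hG'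
      have hG'c : G' ≤ stab ρ c := by rintro _ ⟨x, hx, rfl⟩; exact hG hx
      have hrange : (res σ G c hG).range = (res ρ G' c hG'c).range := by
        refine le_antisymm ?_ ?_
        · rintro _ ⟨x, rfl⟩; exact ⟨⟨_, Subgroup.mem_map_of_mem L.subtype x.2⟩, rfl⟩
        · rintro _ ⟨⟨_, x, hx, rfl⟩, rfl⟩; exact ⟨⟨x, hx⟩, rfl⟩
      have hfxG : fx σ G = fx ρ G' := Submodule.ext fun v =>
        ⟨fun h => by rintro _ ⟨x, hx, rfl⟩; exact h x hx,
          fun h x hx => h _ (Subgroup.mem_map_of_mem L.subtype hx)⟩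
      rw [hrange, hfxG] at hle
      exact false_of_range hPWc hG'c (by rintro _ ⟨x, hx, rfl⟩ u hu; exact hsq x hx u hu)
        (fun h => hne fun x hx => h (Subgroup.mem_map_of_mem L.subtype hx)) hle

end Cfsg.Agent.SFW
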