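/-
The critical configuration: a configuration all of whose proper overgroups stabilize a class.
-/
import Cfsg.Agent.Lib.S3Free.Closure.CfgLin
import Cfsg.Agent.Lib.S3Free.Closure.Step

set_option autoImplicit false
set_option linter.unusedSectionVars false
set_option linter.style.haveILetI false
set_option maxHeartbeats 1000000

namespace Cfsg.Agent.SFW

open Module Cfsg.Agent.S3Free

universe u

/-- A configuration with a fixed subspace `c` such that the proper overgroups stabilize `c`. -/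
structure Crit {X : Type u} [Group X] {V : Type u} [AddCommGroup V] [Module (ZMod 2) V]
    (ρ : X →* (V ≃ₗ[ZMod 2] V)) (A : Subgroup X) (U T c : Submodule (ZMod 2) V) : Prop where
  inj : Function.Injective ρ
  pw : PW ρ (⊤ : Submodule (ZMod 2) V)
  cfg : CfgOn ρ ⊤ A U T
  fix : A ≤ fixer ρ c
  sub : ∀ K : Subgroup X, A ≤ K → K ≠ ⊤ → K ≤ stab ρ c
  sub' : ∀ x, A ⊔ S3Free.cjS x A ≠ ⊤ → x ∈ stab ρ c
  noCfg : NoCfg ρ c
  spans : ∀ W : Submodule (ZMod 2) V, (∀ g, ∀ v ∈ W, ρ g v ∈ W) → c ≤ W → W = ⊤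
  not2 : ¬ IsPGroup 2 X

variable {X : Type u} [Group X] [Finite X] {V : Type u} [AddCommGroup V] [Module (ZMod 2) V]
variable [Finite V] {ρ : X →* (V ≃ₗ[ZMod 2] V)} {A : Subgroup X} {U T c : Submodule (ZMod 2) V}

theorem cjS_top (g : X) : cjS g (⊤ : Subgroup X) = ⊤ :=
  eq_top_iff.2 fun _ _ => mem_cjS.2 (Subgroup.mem_top _)

theorem Crit.conj (h : Crit ρ A U T c) (g : X) :
    Crit ρ (S3Free.cjS g A) (U.map (ρ g).toLinearMap) (T.map (ρ g).toLinearMap)
      (c.map (ρ g).toLinearMap) where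
  inj := h.inj
  pw := h.pw
  cfg := by
    have h1 := h.cfg.map g
    rwa [map_stab_top] at h1
  fix := by rw [fixer_map]; exact cjS_mono g h.fix
  sub K hK hne := by
    have hK' : A ≤ S3Free.cjS g⁻¹ K := cjS_le_iff.1 hK
    have h1 := h.sub _ hK' fun he => hne (by
      have := congrArg (S3Free.cjS g) he
      rwa [← cjS_mul, mul_inv_cancel, cjS_one, cjS_top] at this)
    rw [stab_map]
    have h2 := cjS_mono g h1
    rwa [← cjS_mul, mul_inv_cancel, cjS_one] at h2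
  sub' x hx := by
    rw [mem_stab_map]
    refine h.sub' _ fun he => hx ?_
    have h1 := congrArg (S3Free.cjS g) he
    rw [cjS_top] at h1
    rw [← h1, S3Free.cjS, S3Free.cjS, S3Free.cjS, Subgroup.map_sup]
    congr 1
    rw [← S3Free.cjS, ← S3Free.cjS, ← S3Free.cjS, ← cjS_mul]
    rw [← cjS_mul, show g * (g⁻¹ * x * g) = x * g by group]
  noCfg := h.noCfg.map g
  spans W hW hle := h.spans W hW fun v hv => by
    have h1 := hW g⁻¹ _ (hle ⟨v, hv, rfl⟩)
    change ρ g⁻¹ (ρ g v) ∈ W at h1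
    rwa [apply_inv_apply] at h1
  not2 := h.not2

theorem Crit.facts (h : Crit ρ A U T c) : CfgFacts ρ A U T := h.cfg.facts h.inj h.pw

theorem Crit.c_le_T (h : Crit ρ A U T c) : c ≤ T := by
  rw [← h.cfg.fx_eq h.inj h.pw]; exact le_fx_of_le_fixer ρ h.fix

theorem Crit.fxTop_le (h : Crit ρ A U T c) : fx ρ (⊤ : Subgroup X) ≤ T := by
  rw [← h.cfg.fx_eq h.inj h.pw]; exact fx_anti ρ le_top

theorem Crit.stab_ne_top (h : Crit ρ A U T c) : stab ρ c ≠ ⊤ := by
  intro he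
  have h1 := h.spans c (fun g v hv => apply_mem_of_stab ρ (he ▸ Subgroup.mem_top g) hv) le_rfl
  exact h.cfg.moves (h1 ▸ h.fix)

theorem Crit.not_le_fxTop (h : Crit ρ A U T c) : ¬ c ≤ fx ρ (⊤ : Subgroup X) := fun hle =>
  h.stab_ne_top (top_le_iff.1 ((le_fixer_of_le_fx ρ hle).trans (fixer_le_stab ρ c)))

theorem Crit.stab_of_fixed (h : Crit ρ A U T c) {v : V} (hv : v ∈ T)
    (hv0 : v ∉ fx ρ (⊤ : Subgroup X)) {g : X} (hg : ρ g v = v) : g ∈ stab ρ c := by
  refine h.sub (A ⊔ Subgroup.zpowers g) le_sup_left (fun he => hv0 ?_)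
    (Subgroup.mem_sup_right (Subgroup.mem_zpowers g))
  rw [← he, fx_sup, Subgroup.zpowers_eq_closure]
  exact ⟨h.cfg.T_fx hv, fx_sup_closure ρ fun x hx => by rw [Set.mem_singleton_iff.1 hx, hg]⟩

theorem Crit.gen (h : Crit ρ A U T c) {g : X} (hg : g ∉ stab ρ c) :
    A ⊔ S3Free.cjS g A = ⊤ := by
  by_contra hne
  exact hg (h.sub' g hne)

theorem Crit.inter_le (h : Crit ρ A U T c) {g : X} (hg : g ∉ stab ρ c) :
    T ⊓ T.map (ρ g).toLinearMap ≤ fx ρ (⊤ : Subgroup X) := by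
  rw [← h.gen hg, fx_sup]
  exact inf_le_inf h.cfg.T_fx (h.conj g).cfg.T_fx

theorem Crit.not_mem_stab_of_out (h : Crit ρ A U T c) {g : X}
    (hg : ¬ c.map (ρ g).toLinearMap ≤ U) : g ∉ stab ρ c := fun hgs =>
  hg (((mem_stab ρ).1 hgs).le.trans (h.c_le_T.trans h.cfg.T_le))

/-- A class outside the middle layer is stabilized by no element of the group. -/
theorem Crit.free (h : Crit ρ A U T c) {g : X} (hg : ¬ c.map (ρ g).toLinearMap ≤ U) :
    A ⊓ stab ρ (c.map (ρ g).toLinearMap) = ⊥ ∧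
      T.map (ρ g).toLinearMap ⊓ U ≤ fx ρ (⊤ : Subgroup X) := by
  have hg' := h.not_mem_stab_of_out hg
  set c' := c.map (ρ g).toLinearMap with hc'
  set T' := T.map (ρ g).toLinearMap with hT'
  have h' := h.conj g
  obtain ⟨x, hx, hxU⟩ := SetLike.not_le_iff_exists.1 hg
  set A0 := A ⊓ stab ρ c' with hA0
  -- vectors of the intersection give elements of `A0`
  have hlift : ∀ y ∈ T', y ∈ U → y ∉ fx ρ (⊤ : Subgroup X) →
      ∃ d ∈ A0, ρ d x + x + y ∈ T ∧ d ≠ 1 := by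
    intro y hy hyU hy0
    obtain ⟨d, hd, hdy⟩ := h.cfg.cover h.inj hxU hyU
    refine ⟨d, ⟨hd, h'.stab_of_fixed hy hy0 ?_⟩, hdy, fun h1 => hy0 ?_⟩
    · have h1 := h.cfg.T_fx hdy d hd
      have h2 : ρ d (ρ d x + x) = ρ d x + x := by
        rw [map_add, ← apply_mul, h.cfg.el h.inj d hd, map_one, add_comm]; rfl
      rw [map_add, h2] at h1
      exact add_left_cancel h1
    · rw [h1, map_one, show (1 : V ≃ₗ[ZMod 2] V) x = x from rfl, add_self, zero_add] at hdy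
      exact h.inter_le hg' ⟨hdy, hy⟩
  have hA0b : A0 = ⊥ := by
    by_contra hne
    have hfix : A0 ⊓ fixer ρ c' = ⊥ := (Subgroup.eq_bot_iff_forall _).2 fun d hd =>
      h.cfg.eq_one h.inj hxU hd.1.1 (by rw [hd.2 x hx, add_self]; exact T.zero_mem)
    have hdsp : ∀ d ∈ A0, ∀ v ∈ c', ρ d v + v ∈ c' := fun d hd v hv =>
      c'.add_mem (apply_mem_of_stab ρ hd.2 hv) hv
    refine h'.noCfg A0 (c' ⊓ U) (c' ⊓ T) ⟨inf_le_right,
      fun d hd u _ => h.cfg.sq d hd.1 u Submodule.mem_top,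
      fun hle => hne (by rw [← hfix, inf_eq_left.2 hle]), inf_le_left,
      fun he => hg (he.ge.trans inf_le_right), inf_le_inf_left _ h.cfg.T_le,
      inf_le_right.trans (h.cfg.T_fx.trans (fx_anti ρ inf_le_left)),
      fun d hd v hv => ⟨hdsp d hd v hv, h.cfg.into d hd.1 v Submodule.mem_top⟩,
      fun d hd v hv => ⟨hdsp d hd v hv.1, h.cfg.low d hd.1 v hv.2⟩,
      fun v hv hnv d hd hm => ?_, ?_⟩
    · rw [h.cfg.eq_one h.inj (fun h1 => hnv ⟨hv, h1⟩) hd.1 hm.2]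
      exact one_mem _
    · rw [hfix, Subgroup.card_bot, one_mul, ← Nat.card_prod]
      refine Nat.card_eq_of_bijective (fun p : A0 × ↥(c' ⊓ T) =>
        (⟨ρ (p.1 : X) x + x + (p.2 : V), c'.add_mem (hdsp _ p.1.2 x hx) p.2.2.1,
          U.add_mem (h.cfg.into _ p.1.2.1 x Submodule.mem_top) (h.cfg.T_le p.2.2.2)⟩ : ↥(c' ⊓ U)))
        ⟨?_, ?_⟩
      · intro p q hpq
        have h1 : (((⟨p.1, p.1.2.1⟩ : A), (⟨(p.2 : V), p.2.2.2⟩ : T)) : A × T) =
            (⟨q.1, q.1.2.1⟩, ⟨q.2, q.2.2.2⟩) :=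
          (h.cfg.bij h.inj hxU).1 (Subtype.ext (congrArg Subtype.val hpq :))
        obtain ⟨h2, h3⟩ := Prod.ext_iff.1 h1
        exact Prod.ext (Subtype.ext (congrArg Subtype.val h2 :))
          (Subtype.ext (congrArg Subtype.val h3 :))
      · rintro ⟨u, huc, huU⟩
        have hex : ∃ d ∈ A0, ρ d x + x + u ∈ T := by
          by_cases hu0 : u ∈ fx ρ (⊤ : Subgroup X)
          · refine ⟨1, one_mem _, ?_⟩
            rw [map_one, show (1 : V ≃ₗ[ZMod 2] V) x = x from rfl, add_self, zero_add]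
            exact h.fxTop_le hu0
          · obtain ⟨d, hd, hdu, -⟩ := hlift u (Submodule.map_mono h.c_le_T huc) huU hu0
            exact ⟨d, hd, hdu⟩
        obtain ⟨d, hd, hdu⟩ := hex
        exact ⟨⟨⟨d, hd⟩, ⟨ρ d x + x + u, c'.add_mem (hdsp d hd x hx) huc, hdu⟩⟩, Subtype.ext (by
          change ρ d x + x + (ρ d x + x + u) = u
          rw [← add_assoc, add_self, zero_add])⟩
  refine ⟨hA0b, fun y hy => ?_⟩
  by_contra hy0
  obtain ⟨d, hd, -, hd1⟩ := hlift y hy.1 hy.2 hy0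
  rw [hA0b, Subgroup.mem_bot] at hd
  exact hd1 hd

theorem Crit.exists_out (h : Crit ρ A U T c) : ∃ g, ¬ c.map (ρ g).toLinearMap ≤ U := by
  by_contra hno
  push Not at hno
  refine h.cfg.U_ne_top (top_le_iff.1 ?_)
  have h1 := h.spans (transSpan ρ ⊤ c)
    (fun g v hv => apply_mem_of_stab ρ (le_stab_transSpan ⊤ c (Subgroup.mem_top g)) hv)
    (le_transSpan ⊤ c)
  exact h1 ▸ iSup_le fun k => hno (k : X)

end Cfsg.Agent.SFW
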