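/-
Functions of bounded degree on spaces over the field with two elements, and sums of characters.
-/
import Cfsg.Agent.Lib.S3Free.Closure.Rank

set_option autoImplicit false
set_option linter.unusedSectionVars false
set_option linter.style.haveILetI false
set_option maxHeartbeats 1000000

namespace Cfsg.Agent.SFW

open Module

local notation "𝔽" => ZMod 2

/-- The degree of a function is at most `k`. -/
def DegLe {E : Type*} [AddCommGroup E] : ℕ → (E → ZMod 2) → Prop
  | 0, F => ∀ x y, F x = F y
  | k + 1, F => ∀ h, DegLe k fun x => F (x + h) + F x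

section

variable {E : Type*} [AddCommGroup E]

theorem DegLe.succ : ∀ {k : ℕ} {F : E → ZMod 2}, DegLe k F → DegLe (k + 1) F
  | 0, F, h => fun a x y => by
    change F (x + a) + F x = F (y + a) + F y
    rw [h (x + a) (y + a), h x y]
  | _ + 1, _, h => fun a => DegLe.succ (h a)

theorem DegLe.mono {j k : ℕ} (hjk : j ≤ k) {F : E → ZMod 2} (h : DegLe j F) : DegLe k F := by
  induction hjk with
  | refl => exact h
  | step _ ih => exact ih.succ

theorem DegLe.const (k : ℕ) (c : ZMod 2) : DegLe k (fun _ : E => c) :=
  DegLe.mono (Nat.zero_le k) fun _ _ => rfl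

theorem DegLe.add : ∀ {k : ℕ} {F G : E → ZMod 2}, DegLe k F → DegLe k G →
    DegLe k fun x => F x + G x
  | 0, F, G, hF, hG => fun x y => by
    change F x + G x = F y + G y
    rw [hF x y, hG x y]
  | _ + 1, F, G, hF, hG => fun a => by
    have h := DegLe.add (hF a) (hG a)
    convert h using 1
    funext x
    ring

theorem DegLe.shift : ∀ {k : ℕ} {F : E → ZMod 2}, DegLe k F → ∀ g, DegLe k fun x => F (x + g)
  | 0, _, hF => fun g x y => hF (x + g) (y + g)
  | _ + 1, F, hF => fun g a => by
    have h := DegLe.shift (hF a) g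
    convert h using 1
    funext x
    rw [add_right_comm]

theorem DegLe.mul : ∀ {m i j : ℕ}, i + j = m → ∀ {F G : E → ZMod 2}, DegLe i F → DegLe j G →
    DegLe m fun x => F x * G x := by
  intro m
  induction m with
  | zero =>
    intro i j hij F G hF hG x y
    obtain ⟨rfl, rfl⟩ : i = 0 ∧ j = 0 := by omega
    change F x * G x = F y * G y
    rw [hF x y, hG x y]
  | succ m ih =>
    intro i j hij F G hF hG a
    have h1 : DegLe m fun x => (F (x + a) + F x) * G (x + a) := by
      rcases i with _ | i
      · have : (fun x => (F (x + a) + F x) * G (x + a)) = fun _ : E => (0 : ZMod 2) := by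
          funext x
          rw [hF (x + a) x, CharTwo.add_self_eq_zero, zero_mul]
        rw [this]
        exact DegLe.const _ _
      · exact ih (by omega) (hF a) (hG.shift a)
    have h2 : DegLe m fun x => F x * (G (x + a) + G x) := by
      rcases j with _ | j
      · have : (fun x => F x * (G (x + a) + G x)) = fun _ : E => (0 : ZMod 2) := by
          funext x
          rw [hG (x + a) x, CharTwo.add_self_eq_zero, mul_zero]
        rw [this]
        exact DegLe.const _ _
      · exact ih (by omega) hF (hG a)
    have h := h1.add h2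
    convert h using 1
    funext x
    have h3 : F x * G (x + a) + F x * G (x + a) = 0 := CharTwo.add_self_eq_zero _
    linear_combination -h3

theorem DegLe.prod {ι : Type*} (s : Finset ι) (F : ι → E → ZMod 2) (k : ℕ)
    (h : ∀ i ∈ s, DegLe k (F i)) : DegLe (s.card * k) fun x => ∏ i ∈ s, F i x := by
  classical
  induction s using Finset.induction_on with
  | empty =>
    simp only [Finset.prod_empty]
    exact DegLe.const _ _
  | insert a s ha ih =>
    simp only [Finset.prod_insert ha, Finset.card_insert_of_notMem ha]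
    exact DegLe.mul (by ring) (h a (Finset.mem_insert_self a s))
      (ih fun i hi => h i (Finset.mem_insert_of_mem hi))

theorem DegLe.comp {E' : Type*} [AddCommGroup E'] (f : E' →+ E) :
    ∀ {k : ℕ} {F : E → ZMod 2}, DegLe k F → DegLe k fun x => F (f x)
  | 0, _, hF => fun x y => hF (f x) (f y)
  | _ + 1, F, hF => fun a => by
    have h := DegLe.comp f (hF (f a))
    convert h using 1
    funext x
    simp only [map_add]

end

/-- A function of degree less than the dimension sums to zero. -/
theorem DegLe.sum_eq_zero : ∀ {k : ℕ} {E : Type*} [AddCommGroup E] [Module 𝔽 E] [Fintype E]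
    {F : E → ZMod 2}, DegLe k F → k < finrank 𝔽 E → ∑ x, F x = 0 := by
  intro k
  induction k with
  | zero =>
    intro E _ _ _ F hF hlt
    rw [Finset.sum_congr rfl fun x _ => hF x 0, Finset.sum_const, Finset.card_univ,
      Module.card_eq_pow_finrank (K := 𝔽) (V := E), ZMod.card, nsmul_eq_mul]
    push_cast
    rw [show (2 : ZMod 2) = 0 from rfl, zero_pow (by omega), zero_mul]
  | succ k ih =>
    intro E _ _ _ F hF hlt
    haveI : Nontrivial E := Module.finrank_pos_iff.1 (lt_of_le_of_lt (Nat.zero_le _) hlt)
    obtain ⟨a, ha⟩ := exists_ne (0 : E)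
    obtain ⟨H, hH⟩ := (Submodule.span 𝔽 {a}).exists_isCompl
    classical
    haveI : Fintype H := Fintype.ofFinite _
    have hdim := Submodule.finrank_add_eq_of_isCompl hH
    rw [finrank_span_singleton ha] at hdim
    let e : H × ZMod 2 ≃ E := Equiv.ofBijective (fun p => (p.1 : E) + p.2 • a) <| by
      refine ⟨?_, fun x => ?_⟩
      · rintro ⟨⟨x, hx⟩, i⟩ ⟨⟨y, hy⟩, j⟩ hxy
        change x + i • a = y + j • a at hxy
        have h1 : (i - j) • a = y - x := by
          calc (i - j) • a = (x + i • a) - x - j • a := by rw [sub_smul]; abel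
            _ = (y + j • a) - x - j • a := by rw [hxy]
            _ = y - x := by abel
        have h2 : y - x = 0 := (Submodule.mem_bot 𝔽).1 (hH.inf_eq_bot.le
          ⟨h1 ▸ Submodule.smul_mem _ _ (Submodule.mem_span_singleton_self a), H.sub_mem hy hx⟩)
        rw [h2, smul_eq_zero, or_iff_left ha, sub_eq_zero] at h1
        exact Prod.ext (Subtype.ext (sub_eq_zero.1 h2).symm) h1
      · obtain ⟨u, hu, v, hv, rfl⟩ := Submodule.mem_sup.1 (hH.sup_eq_top.ge (Submodule.mem_top (x := x)))
        obtain ⟨i, rfl⟩ := Submodule.mem_span_singleton.1 hu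
        exact ⟨(⟨v, hv⟩, i), add_comm _ _⟩
    rw [← Equiv.sum_comp e F, Fintype.sum_prod_type]
    refine Eq.trans (Finset.sum_congr rfl fun x _ => ?_)
      (ih (DegLe.comp H.subtype.toAddMonoidHom (hF a)) (by omega))
    rw [show (Finset.univ : Finset (ZMod 2)) = {0, 1} from rfl, Finset.sum_pair zero_ne_one]
    change F ((x : E) + (0 : ZMod 2) • a) + F ((x : E) + (1 : ZMod 2) • a) =
      F ((H.subtype.toAddMonoidHom x) + a) + F (H.subtype.toAddMonoidHom x)
    rw [zero_smul, add_zero, one_smul, add_comm]
    rfl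

/-- The mean square of a character sum. -/
theorem sum_sq_chi {V : Type*} [AddCommGroup V] [Module 𝔽 V] [Fintype V] [Fintype (Module.Dual 𝔽 V)]
    (Z : Finset V) :
    ∑ φ : Module.Dual 𝔽 V, (∑ z ∈ Z, chi (φ z)) * (∑ z ∈ Z, chi (φ z)) =
      (Fintype.card V * Z.card : ℤ) := by
  classical
  haveI : Finite V := inferInstance
  have hcd : (Fintype.card (Module.Dual 𝔽 V) : ℤ) = Fintype.card V := by
    rw [Module.card_eq_pow_finrank (K := 𝔽) (V := Module.Dual 𝔽 V),
      Module.card_eq_pow_finrank (K := 𝔽) (V := V), Subspace.dual_finrank_eq]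
  have h1 : ∀ z ∈ Z, ∀ w ∈ Z, ∑ φ : Module.Dual 𝔽 V, chi (φ z) * chi (φ w) =
      if z = w then (Fintype.card V : ℤ) else 0 := by
    intro z _ w _
    have h2 := sum_chi_linear (Module.Dual.eval 𝔽 V (z + w))
    simp only [hcd, map_add, LinearMap.add_apply, Module.Dual.eval_apply, chi_add] at h2
    rw [h2]
    have h3 : Module.Dual.eval 𝔽 V z + Module.Dual.eval 𝔽 V w = 0 ↔ z = w := by
      rw [← map_add, ← map_zero (Module.Dual.eval 𝔽 V), (Module.eval_apply_injective 𝔽).eq_iff]
      refine ⟨fun h => ?_, fun h => ?_⟩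
      · rw [add_eq_zero_iff_eq_neg] at h
        rw [h, ← neg_one_smul 𝔽 w, show (-1 : 𝔽) = 1 from rfl, one_smul]
      · subst h
        rw [← two_smul 𝔽 z, show (2 : 𝔽) = 0 from rfl, zero_smul]
    simp only [h3]
  simp only [Finset.sum_mul_sum]
  rw [Finset.sum_comm]
  rw [Finset.sum_congr rfl fun z hz => (Finset.sum_comm.trans
    (Finset.sum_congr rfl fun w hw => h1 z hz w hw))]
  simp [mul_comm]

end Cfsg.Agent.SFW
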