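/-
There is no critical configuration on an irreducible module.
-/
import Cfsg.Agent.Lib.S3Free.Closure.CfgCore
import Cfsg.Agent.Lib.S3Free.Closure.Deg

set_option autoImplicit false
set_option linter.unusedSectionVars false
set_option linter.style.haveILetI false
set_option maxHeartbeats 2000000

namespace Cfsg.Agent.SFW

open Module Cfsg.Agent.S3Free

universe u

variable {X : Type u} [Group X] [Finite X] {V : Type u} [AddCommGroup V] [Module (ZMod 2) V]
variable [Finite V] {ρ : X →* (V ≃ₗ[ZMod 2] V)} {A : Subgroup X} {U T c : Submodule (ZMod 2) V}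

/-- Two involutions whose product has its cube, but not itself, in a subgroup. -/
theorem false_of_triangle (h3 : NoS3 X) {d e : X} (hd : d * d = 1) (he : e * e = 1) {H : Subgroup X}
    (hp3 : (d * e) ^ 3 ∈ H) (hp : d * e ∉ H) : False := by
  obtain ⟨p, rfl⟩ : ∃ p, p = d * e := ⟨_, rfl⟩
  have h5 : 3 ∣ orderOf (d * e) := by
    by_contra h
    obtain ⟨m, hm⟩ := exists_pow_eq_self_of_coprime
      ((Nat.Prime.coprime_iff_not_dvd Nat.prime_three).2 h) (x := d * e)
    exact hp (hm ▸ H.pow_mem hp3 m)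
  have hd' : d⁻¹ = d := inv_eq_of_mul_eq_one_right hd
  have he' : e⁻¹ = e := inv_eq_of_mul_eq_one_right he
  have ho : orderOf ((d * e) ^ (orderOf (d * e) / 3)) = 3 :=
    orderOf_pow_orderOf_div (orderOf_pos _).ne' h5
  have h := h3 d ((d * e) ^ (orderOf (d * e) / 3)) ⟨1, by rw [pow_one, pow_two]; exact hd⟩
    (by conv_lhs => arg 2; rw [← ho]
        exact pow_orderOf_eq_one _)
    (by
      have h7 : d * (d * e) * d⁻¹ = (d * e)⁻¹ := by
        rw [mul_inv_rev, hd', he', ← mul_assoc, hd, one_mul]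
      rw [← conj_pow, h7, inv_pow])
  rw [h, orderOf_one] at ho
  omega

theorem CfgOn.dsp_U (h : CfgOn ρ ⊤ A U T) {u : V} (hu : u ∈ U) {d e : X} (hd : d ∈ A) (he : e ∈ A) :
    ρ (d * e) u + u = (ρ d u + u) + (ρ e u + u) := by
  rw [dsp_mul, (h.T_fx (h.low e he u hu)) d hd, add_self, add_zero]

theorem CfgOn.sq_one (inj : Function.Injective ρ) (h : CfgOn ρ ⊤ A U T) {d : X} (hd : d ∈ A) :
    d * d = 1 := h.el inj d hd

section Irr

variable (h : Crit ρ A U T c)
variable (irr : ∀ W : Submodule (ZMod 2) V, (∀ g, ∀ v ∈ W, ρ g v ∈ W) → W = ⊥ ∨ W = ⊤)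
include h irr

theorem Crit.fxTop_bot : fx ρ (⊤ : Subgroup X) = ⊥ := by
  rcases irr (fx ρ ⊤) (fun g w hw => by rw [hw g (Subgroup.mem_top g)]; exact hw) with h1 | h1
  · exact h1
  · exact absurd (le_top.trans h1.ge) h.not_le_fxTop

theorem Crit.c_ne_bot : c ≠ ⊥ := fun hc => h.not_le_fxTop (hc ▸ bot_le)

theorem Crit.inv_pair {g : X} (hg : g ∉ stab ρ c) {W : Submodule (ZMod 2) V} (h1 : A ≤ stab ρ W)
    (h2 : S3Free.cjS g A ≤ stab ρ W) : W = ⊥ ∨ W = ⊤ :=
  irr W fun x _ hv => apply_mem_of_stab ρ ((h.gen hg).ge.trans (sup_le h1 h2) (Subgroup.mem_top x)) hv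

/-- The layers. -/
theorem Crit.layers : (∀ Y : Submodule (ZMod 2) V, (∀ u ∈ U, ∀ e ∈ A, ρ e u + u ∈ Y) → T ≤ Y) ∧
    Nat.card T * Nat.card U = Nat.card V := by
  obtain ⟨g, hg⟩ := h.exists_out
  have hg' := h.not_mem_stab_of_out hg
  obtain ⟨hA0, hTU⟩ := h.free hg
  rw [h.fxTop_bot irr] at hTU
  have h' := h.conj g
  set U' := U.map (ρ g).toLinearMap with hU'
  have hle : Nat.card T * Nat.card U ≤ Nat.card V := by
    have h1 := card_sup_inf (T.map (ρ g).toLinearMap) U
    rw [le_bot_iff.1 hTU, card_map_sub] at h1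
    have h2 := card_mono (le_top : T.map (ρ g).toLinearMap ⊔ U ≤ ⊤)
    rw [card_top_sub] at h2
    have h3 : Nat.card (⊥ : Submodule (ZMod 2) V) = 1 := by simp
    rw [h3, mul_one] at h1
    rw [← h1]
    exact h2
  have hkey : ∀ Y : Submodule (ZMod 2) V, (∀ u ∈ U, ∀ e ∈ A, ρ e u + u ∈ Y) →
      U' ⊔ (Y ⊓ T) = ⊤ := by
    intro Y hY
    by_contra hne
    obtain ⟨φ, hφ0, hφ⟩ := Submodule.exists_dual_map_eq_bot_of_lt_top (lt_top_iff_ne_top.2 hne)
      inferInstance
    have hkill : ∀ w ∈ U' ⊔ (Y ⊓ T), φ w = 0 := fun w hw =>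
      (Submodule.mem_bot _).1 (hφ.le ⟨w, hw, rfl⟩)
    have hlow : ∀ u ∈ U, ∀ d ∈ A, φ (ρ d u + u) = 0 := fun u hu d hd =>
      hkill _ (Submodule.mem_sup_right ⟨hY u hu d hd, h.cfg.low d hd u hu⟩)
    let f : A → U.dualAnnihilator := fun d =>
      ⟨φ.comp ((ρ (d : X)).toLinearMap + LinearMap.id), (Submodule.mem_dualAnnihilator _).2
        fun u hu => hlow u hu d d.2⟩
    haveI : Finite (Module.Dual (ZMod 2) V) :=
      Finite.of_injective (fun l => (l : V → ZMod 2)) DFunLike.coe_injective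
    have hsmall : Nat.card U.dualAnnihilator < Nat.card A := by
      have h1 := Subspace.finrank_add_finrank_dualAnnihilator_eq U
      have h2 : Nat.card U.dualAnnihilator * Nat.card U = Nat.card V := by
        rw [card_f2 U.dualAnnihilator, card_f2 U, card_f2 V, ← pow_add, ← h1, add_comm]
      have h3 := h.facts.big
      have h4 : 2 ≤ Nat.card U.dualAnnihilator := by
        rw [card_f2 U.dualAnnihilator]
        refine le_trans (le_of_eq (pow_one 2).symm) (Nat.pow_le_pow_right (by norm_num) ?_)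
        have := Submodule.finrank_lt h.cfg.U_ne_top
        omega
      have hU0 : 0 < Nat.card U := Nat.card_pos
      rw [← h2] at h3
      have h5 : Nat.card U.dualAnnihilator * Nat.card U.dualAnnihilator ≤ Nat.card A := by
        refine Nat.le_of_mul_le_mul_right ?_ (Nat.mul_pos hU0 hU0)
        calc _ = Nat.card U.dualAnnihilator * Nat.card U * (Nat.card U.dualAnnihilator * Nat.card U) := by
              ring
          _ ≤ _ := h3
      nlinarith
    obtain ⟨d, e, hde, hne'⟩ : ∃ d e : A, f d = f e ∧ d ≠ e := by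
      by_contra hno
      push Not at hno
      exact absurd (Nat.card_le_card_of_injective f fun d e he => hno d e he) (not_le.2 hsmall)
    let G : Subgroup X :=
      { carrier := {x | ∀ v, φ (ρ x v) = φ v}
        one_mem' := fun v => by rw [map_one]; rfl
        mul_mem' := fun {a b} ha hb v => by rw [apply_mul, ha, hb]
        inv_mem' := fun {a} ha v => by
          have := ha (ρ a⁻¹ v)
          rwa [apply_apply_inv, eq_comm] at this }
    have hAG : S3Free.cjS g A ≤ G := fun a ha v => by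
      have h1 := hkill _ (Submodule.mem_sup_left (h'.cfg.into a ha v Submodule.mem_top) :
        ρ a v + v ∈ U' ⊔ (Y ⊓ T))
      rw [map_add] at h1
      exact (by decide : ∀ x y : ZMod 2, x + y = 0 → x = y) _ _ h1
    have hdeG : (d : X) * e ∈ G := fun v => by
      have h1 : φ (ρ (d : X) v + v) = φ (ρ (e : X) v + v) :=
        LinearMap.congr_fun (congrArg Subtype.val hde) v
      have h2 := congrArg φ (dsp_mul (ρ := ρ) (d : X) (e : X) v)
      have h5 := hlow _ (h.cfg.into _ e.2 v Submodule.mem_top) _ d.2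
      simp only [map_add] at h1 h2 h5 ⊢
      rw [h5, add_zero, h1] at h2
      exact (by decide : ∀ x y z : ZMod 2, x + y = z + z → x = y) _ _ _ h2
    have hG : G ≠ ⊤ := by
      intro htop
      rcases irr (LinearMap.ker φ) (fun x v hv => by
        rw [LinearMap.mem_ker] at hv ⊢
        rw [(htop ▸ Subgroup.mem_top x : x ∈ G) v, hv]) with h1 | h1
      · have hb : U' = ⊥ := le_bot_iff.1 fun w hw =>
          h1.le (LinearMap.mem_ker.2 (hkill w (Submodule.mem_sup_left hw)))
        have h2 : Nat.card U = 1 := by rw [← card_map_sub U g, ← hU', hb]; simp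
        refine h.cfg.ne_bot (Subgroup.card_eq_one.1 ?_)
        exact Nat.eq_one_of_mul_eq_one_right ((h.cfg.card_eq h.inj).trans h2)
      · exact hφ0 (LinearMap.ker_eq_top.1 h1)
    have h6 := h'.sub G hAG hG hdeG
    have h7 : (d : X) * e ∈ A ⊓ stab ρ (c.map (ρ g).toLinearMap) := ⟨A.mul_mem d.2 e.2, h6⟩
    rw [hA0, Subgroup.mem_bot] at h7
    refine hne' (Subtype.ext ?_)
    calc (d : X) = d * (e * e) := by rw [h.cfg.el h.inj e e.2, mul_one]
      _ = e := by rw [← mul_assoc, h7, one_mul]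
  have hbound : ∀ Y : Submodule (ZMod 2) V, (∀ u ∈ U, ∀ e ∈ A, ρ e u + u ∈ Y) →
      Nat.card V ≤ Nat.card U * Nat.card ↥(Y ⊓ T) := by
    intro Y hY
    have h1 := card_sup_inf U' (Y ⊓ T)
    rw [hkey Y hY, card_top_sub, card_map_sub] at h1
    rw [← h1]
    exact Nat.le_mul_of_pos_right _ Nat.card_pos
  refine ⟨fun Y hY => ?_, le_antisymm hle ?_⟩
  · have h1 := (hbound Y hY).trans' hle
    rw [mul_comm] at h1
    exact (eq_of_card_le inf_le_right (Nat.le_of_mul_le_mul_left h1 Nat.card_pos)).ge.trans inf_le_left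
  · have h1 := hbound ⊤ fun _ _ _ _ => Submodule.mem_top
    rwa [top_inf_eq, mul_comm] at h1

theorem Crit.card_V : Nat.card V = Nat.card A * Nat.card T * Nat.card T := by
  rw [← (h.layers irr).2, ← h.cfg.card_eq h.inj]; ring

theorem Crit.sq_le : Nat.card T * Nat.card T ≤ Nat.card A := by
  have h1 := h.facts.big
  rw [← h.cfg.card_eq h.inj, h.card_V irr] at h1
  refine Nat.le_of_mul_le_mul_right (a := Nat.card T * Nat.card T) ?_
    (Nat.mul_pos (Nat.mul_pos (Nat.card_pos (α := A)) (Nat.card_pos (α := T)))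
      (Nat.mul_pos (Nat.card_pos (α := A)) (Nat.card_pos (α := T))))
  calc _ = Nat.card A * Nat.card T * Nat.card T * (Nat.card A * Nat.card T * Nat.card T) := by ring
    _ ≤ _ := h1

theorem Crit.two_le : 2 ≤ Nat.card T := by
  rw [card_f2 T]
  refine le_trans (le_of_eq (pow_one 2).symm) (Nat.pow_le_pow_right (by norm_num) ?_)
  refine Submodule.one_le_finrank_iff.2 fun hT => h.c_ne_bot irr ?_
  exact le_bot_iff.1 (hT ▸ h.c_le_T)

/-- The middle layer depends only on a Sylow subgroup. -/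
theorem Crit.le_stab_U {P : Subgroup X} (hP : IsPGroup 2 P) (hAP : A ≤ P) : P ≤ stab ρ U := by
  have hAU : A ≤ stab ρ U := fun d hd => mem_stab_of_mem ρ fun u hu => by
    have h1 := U.add_mem (h.cfg.T_le (h.cfg.low d hd u hu)) hu
    rwa [add_assoc, add_self, add_zero] at h1
  set H := P ⊓ stab ρ U with hH
  by_contra hne
  have hlt : H.subgroupOf P < ⊤ := lt_top_iff_ne_top.2 fun he =>
    hne ((Subgroup.subgroupOf_eq_top.1 he).trans inf_le_right)
  haveI := hP.isNilpotent
  obtain ⟨⟨g, hgP⟩, hgN, hgH⟩ :=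
    SetLike.exists_of_lt (Group.normalizerCondition_of_isNilpotent _ hlt)
  have hgU : g ∉ stab ρ U := fun hs => hgH (Subgroup.mem_subgroupOf.2 ⟨hgP, hs⟩)
  have hAH : A ≤ H := le_inf hAP hAU
  have hconj : A ≤ stab ρ (U.map (ρ g).toLinearMap) := by
    intro a ha
    rw [mem_stab_map]
    have h2 := (Subgroup.mem_normalizer_iff''.1 hgN ⟨a, hAP ha⟩).1
      (Subgroup.mem_subgroupOf.2 (hAH ha))
    exact (Subgroup.mem_subgroupOf.1 h2).2
  set U₁ := U.map (ρ g).toLinearMap with hU₁
  have hnot : ¬ U₁ ≤ U := fun hle => hgU ((mem_stab ρ).2 (eq_of_card_le hle (card_map_sub U g).ge))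
  obtain ⟨x, hx1, hxU⟩ := SetLike.not_le_iff_exists.1 hnot
  have hcov : ∀ u ∈ U, ∃ j ∈ U, j ∈ U₁ ∧ u + j ∈ T := by
    intro u hu
    obtain ⟨d, hd, hdu⟩ := h.cfg.cover h.inj hxU hu
    exact ⟨ρ d x + x, h.cfg.into d hd x Submodule.mem_top,
      U₁.add_mem (apply_mem_of_stab ρ (hconj hd) hx1) hx1, by rwa [add_comm]⟩
  have hTU₁ : T ≤ U₁ := (h.layers irr).1 U₁ fun u hu e he => by
    obtain ⟨j, -, hj1, hj⟩ := hcov u hu
    have h1 : ρ e (u + j) + (u + j) = 0 := by rw [h.cfg.T_fx hj e he, add_self]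
    rw [map_add] at h1
    have h2 : ρ e u + u = ρ e j + j := by rw [← sub_eq_zero, sub_eq_add, ← h1]; abel
    rw [h2]
    exact U₁.add_mem (apply_mem_of_stab ρ (hconj he) hj1) hj1
  have hUU₁ : U ≤ U₁ := fun u hu => by
    obtain ⟨j, -, hj1, hj⟩ := hcov u hu
    have := U₁.add_mem (hTU₁ hj) hj1
    rwa [add_assoc, add_self, add_zero] at this
  exact hnot (eq_of_card_le hUU₁ (card_map_sub U g).le).ge

/-- A parent of a class may be chosen compatible with the stabilizer in `A`. -/
theorem Crit.parent (g : X) : ∃ m, c.map (ρ m).toLinearMap = c.map (ρ g).toLinearMap ∧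
    A ⊓ stab ρ (c.map (ρ g).toLinearMap) ≤ stab ρ (U.map (ρ m).toLinearMap) := by
  obtain ⟨P, hP⟩ := (h.cfg.el h.inj).isPGroup.exists_le_sylow
  have hPc : (P : Subgroup X) ≤ stab ρ c := h.sub _ hP fun he =>
    h.not2 ((he ▸ P.2 : IsPGroup 2 (⊤ : Subgroup X)).of_equiv Subgroup.topEquiv)
  have hPU := h.le_stab_U irr P.2 hP
  set A0 := A ⊓ stab ρ (c.map (ρ g).toLinearMap) with hA0
  have hle : S3Free.cjS g⁻¹ A0 ≤ stab ρ c := by
    rw [cjS_le_iff, inv_inv, ← stab_map]; exact inf_le_right
  obtain ⟨k, hk, hkP⟩ := exists_conj_sylow hPc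
    ((((h.cfg.el h.inj).mono inf_le_left).isPGroup).map _) hle
  refine ⟨g * k⁻¹, ?_, ?_⟩
  · rw [← map_map_apply, (mem_stab ρ).1 ((stab ρ c).inv_mem hk)]
  · rw [stab_map, show g * k⁻¹ = (k * g⁻¹)⁻¹ by group, ← cjS_le_iff, cjS_mul]
    exact hkP.trans hPU

theorem Crit.sup_U {m : X} (hm : m ∉ stab ρ c) : U ⊔ U.map (ρ m).toLinearMap = ⊤ := by
  have h' := h.conj m
  set W := U ⊔ U.map (ρ m).toLinearMap with hW
  have hst : ∀ {B : Subgroup X} {U' T' : Submodule (ZMod 2) V}, CfgOn ρ ⊤ B U' T' → U' ≤ W →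
      B ≤ stab ρ W := fun {B U' T'} hB hle b hb => mem_stab_of_mem ρ fun v hv => by
    have h1 := W.add_mem (hle (hB.into b hb v Submodule.mem_top)) hv
    rwa [add_assoc, add_self, add_zero] at h1
  rcases h.inv_pair irr hm (hst h.cfg le_sup_left) (hst h'.cfg le_sup_right) with h1 | h1
  · exact absurd (le_bot_iff.1 (h.cfg.T_le.trans (le_sup_left.trans h1.le))) fun hT =>
      h.c_ne_bot irr (le_bot_iff.1 (hT ▸ h.c_le_T))
  · exact h1

theorem Crit.not_U_le {m : X} (hm : m ∉ stab ρ c) : ¬ U.map (ρ m).toLinearMap ≤ U := fun hle =>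
  h.cfg.U_ne_top (by rw [← h.sup_U irr hm, sup_eq_left.2 hle])

theorem Crit.card_inf_U {m : X} (hm : m ∉ stab ρ c) :
    Nat.card ↥(U ⊓ U.map (ρ m).toLinearMap) = Nat.card A := by
  have h1 := card_sup_inf U (U.map (ρ m).toLinearMap)
  rw [h.sup_U irr hm, card_top_sub, card_map_sub, ← h.cfg.card_eq h.inj, h.card_V irr] at h1
  refine Nat.eq_of_mul_eq_mul_left (Nat.mul_pos (Nat.mul_pos (Nat.card_pos (α := A))
    (Nat.card_pos (α := T))) (Nat.card_pos (α := T))) ?_
  rw [h1]; ring

/-- The stabilizer in `A` of a class inside the middle layer. -/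
theorem Crit.orbit {g : X} (hg : g ∉ stab ρ c) (hin : c.map (ρ g).toLinearMap ≤ U) :
    Nat.card ↥(A ⊓ stab ρ (c.map (ρ g).toLinearMap)) * Nat.card T = Nat.card A := by
  obtain ⟨m, hmc, hmA0⟩ := h.parent irr g
  have hm : m ∉ stab ρ c := fun hs => hg (by rw [mem_stab, ← hmc, (mem_stab ρ).1 hs])
  set c' := c.map (ρ g).toLinearMap with hc'
  set A0 := A ⊓ stab ρ c' with hA0
  set Um := U.map (ρ m).toLinearMap with hUm
  refine le_antisymm ?_ ?_
  · by_cases hT : T ≤ Um
    · obtain ⟨x, -, hx⟩ := SetLike.exists_of_lt (lt_top_iff_ne_top.2 h.cfg.U_ne_top)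
      rw [← h.card_inf_U irr hm, ← Nat.card_prod]
      have hin' : ∀ d ∈ A0, ∀ v : V, ρ d v + v ∈ Um := by
        intro d hd v
        obtain ⟨a, ha, b, hb, rfl⟩ := Submodule.mem_sup.1 ((h.sup_U irr hm).ge (Submodule.mem_top (x := v)))
        rw [map_add, show ρ d a + ρ d b + (a + b) = (ρ d a + a) + (ρ d b + b) by abel]
        exact Um.add_mem (hT (h.cfg.low d hd.1 a ha))
          (Um.add_mem (apply_mem_of_stab ρ (hmA0 hd) hb) hb)
      refine Nat.card_le_card_of_injective (fun p : A0 × T => (⟨ρ (p.1 : X) x + x + (p.2 : V),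
        U.add_mem (h.cfg.into _ p.1.2.1 x Submodule.mem_top) (h.cfg.T_le p.2.2),
        Um.add_mem (hin' _ p.1.2 x) (hT p.2.2)⟩ : ↥(U ⊓ Um))) ?_
      intro p q hpq
      have h1 : (((⟨p.1, p.1.2.1⟩ : A), p.2) : A × T) = (⟨q.1, q.1.2.1⟩, q.2) :=
        (h.cfg.bij h.inj hx).1 (Subtype.ext (congrArg Subtype.val hpq :))
      obtain ⟨h2, h3⟩ := Prod.ext_iff.1 h1
      exact Prod.ext (Subtype.ext (congrArg Subtype.val h2 :)) h3
    · obtain ⟨x, hxm, hxU⟩ := SetLike.not_le_iff_exists.1 (h.not_U_le irr hm)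
      have h1 := h.facts.isotropic A0 inf_le_left x hxU (T ⊓ Um) (fun d hd d' hd' => ?_) ?_
      · rw [h.card_V irr, ← h.cfg.card_eq h.inj] at h1
        refine Nat.le_of_mul_le_mul_right ?_ (Nat.mul_pos (Nat.card_pos (α := A)) (Nat.card_pos (α := T)))
        calc Nat.card A0 * Nat.card T * (Nat.card A * Nat.card T)
            = Nat.card A0 * (Nat.card A * Nat.card T * Nat.card T) := by ring
          _ ≤ _ := h1
      · have h2 : ρ d x + x ∈ Um := Um.add_mem (apply_mem_of_stab ρ (hmA0 hd) hxm) hxm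
        exact ⟨h.cfg.low d' hd'.1 _ (h.cfg.into d hd.1 x Submodule.mem_top),
          Um.add_mem (apply_mem_of_stab ρ (hmA0 hd') h2) h2⟩
      · by_contra hno
        push Not at hno
        exact hT (((h.layers irr).1 _ hno).trans inf_le_right)
  · obtain ⟨y, hy, hy0⟩ := Submodule.exists_mem_ne_zero_of_ne_bot
      (show c' ≠ ⊥ from (h.conj g).c_ne_bot irr)
    let f : A →* Multiplicative T :=
      { toFun := fun d => Multiplicative.ofAdd ⟨ρ (d : X) y + y, h.cfg.low d d.2 y (hin hy)⟩
        map_one' := congrArg Multiplicative.ofAdd (Subtype.ext (by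
          change ρ 1 y + y = 0
          rw [map_one]; exact add_self y))
        map_mul' := fun d e => congrArg Multiplicative.ofAdd
          (Subtype.ext (h.cfg.dsp_U (hin hy) d.2 e.2)) }
    have hker : Nat.card f.ker ≤ Nat.card A0 := by
      refine Nat.card_le_card_of_injective (fun d => (⟨(d : X), d.1.2, ?_⟩ : A0)) fun a b hab =>
        Subtype.ext (Subtype.ext (congrArg Subtype.val hab :))
      refine (h.conj g).stab_of_fixed ((h.conj g).c_le_T hy) (by rw [h.fxTop_bot irr]; exact hy0) ?_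
      have h1 : ρ (d : X) y + y = 0 :=
        congrArg (fun z => ((Multiplicative.toAdd z : T) : V)) (MonoidHom.mem_ker.1 d.2)
      rw [← sub_eq_zero, sub_eq_add]
      exact h1
    rw [← f.ker.card_mul_index, Subgroup.index_ker]
    refine Nat.mul_le_mul hker ((Subgroup.card_le_card_group f.range).trans (le_of_eq ?_))
    exact Nat.card_congr Multiplicative.toAdd

/-- Classes in a kernel, counted along orbits. -/
theorem Crit.even_classes (φ : Module.Dual (ZMod 2) V) (hct : c ≠ T)
    [DecidablePred fun d : Submodule (ZMod 2) V => d ∈ Cj ρ c ∧ d ≠ c ∧ d ≤ LinearMap.ker φ]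
    [Fintype (Submodule (ZMod 2) V)] :
    Even (Finset.univ.filter fun d => d ∈ Cj ρ c ∧ d ≠ c ∧ d ≤ LinearMap.ker φ).card := by
  classical
  haveI : Fintype A := Fintype.ofFinite _
  have hlt : finrank (ZMod 2) c < finrank (ZMod 2) T :=
    Submodule.finrank_lt_finrank_of_lt (lt_of_le_of_ne h.c_le_T hct)
  have hEl := h.cfg.el h.inj
  let act : A → Submodule (ZMod 2) V → Submodule (ZMod 2) V := fun d x => x.map (ρ (d : X)).toLinearMap
  let orb : Submodule (ZMod 2) V → Finset (Submodule (ZMod 2) V) := fun x =>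
    Finset.univ.image fun d => act d x
  have hact : ∀ d e x, act d (act e x) = act (d * e) x := fun d e x => map_map_apply ρ x _ _
  have horb : ∀ (d : A) x, orb (act d x) = orb x := by
    intro d x
    ext y
    simp only [orb, Finset.mem_image, Finset.mem_univ, true_and]
    constructor
    · rintro ⟨e, rfl⟩; exact ⟨e * d, (hact e d x).symm⟩
    · rintro ⟨e, rfl⟩; exact ⟨e * d⁻¹, by rw [hact, inv_mul_cancel_right]⟩
  have hself : ∀ x, x ∈ orb x := fun x => Finset.mem_image.2 ⟨1, Finset.mem_univ _, by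
    change x.map (ρ (1 : X)).toLinearMap = x
    rw [map_one]; exact Submodule.map_id x⟩
  -- the count in one orbit
  have hone : ∀ g, g ∉ stab ρ c → 2 * Nat.card ↥(A ⊓ stab ρ (c.map (ρ g).toLinearMap)) ∣
      Nat.card {d : A // act d (c.map (ρ g).toLinearMap) ≤ LinearMap.ker φ} := by
    intro g hg
    set c' := c.map (ρ g).toLinearMap with hc'
    have hfr : finrank (ZMod 2) c' = finrank (ZMod 2) c := LinearEquiv.finrank_map_eq (ρ g) c
    by_cases hin : c' ≤ U
    · rcases isEmpty_or_nonempty {d : A // act d c' ≤ LinearMap.ker φ} with h0 | ⟨⟨d₀, hd₀⟩⟩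
      · simp
      have hmem : ∀ {d : A}, act d c' ≤ LinearMap.ker φ ↔ ∀ y ∈ c', φ (ρ (d : X) y) = 0 :=
        fun {d} => ⟨fun hd y hy => hd ⟨y, hy, rfl⟩, fun hd => by rintro _ ⟨y, hy, rfl⟩; exact hd y hy⟩
      let f : A →* Multiplicative (Module.Dual (ZMod 2) c') :=
        { toFun := fun d => Multiplicative.ofAdd
            (φ.comp (((ρ (d : X)).toLinearMap + LinearMap.id).comp c'.subtype))
          map_one' := congrArg Multiplicative.ofAdd (LinearMap.ext fun y => by
            change φ (ρ 1 (y : V) + y) = 0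
            rw [map_one, show (1 : V ≃ₗ[ZMod 2] V) (y : V) = y from rfl, add_self, map_zero])
          map_mul' := fun d e => congrArg Multiplicative.ofAdd (LinearMap.ext fun y => by
            change φ (ρ ((d : X) * e) (y : V) + y) = φ (ρ (d : X) (y : V) + y) + φ (ρ (e : X) (y : V) + y)
            rw [h.cfg.dsp_U (hin y.2) d.2 e.2, map_add]) }
      have hkerf : ∀ {d : A}, d ∈ f.ker ↔ ∀ y ∈ c', φ (ρ (d : X) y + y) = 0 := fun {d} =>
        ⟨fun hd y hy => LinearMap.congr_fun (congrArg Multiplicative.toAdd (MonoidHom.mem_ker.1 hd))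
          ⟨y, hy⟩, fun hd => MonoidHom.mem_ker.2 (congrArg Multiplicative.ofAdd
            (LinearMap.ext fun y => hd y y.2))⟩
      have hval : ∀ d : A, act d c' ≤ LinearMap.ker φ ↔ f d = f d₀ := by
        intro d
        rw [hmem]
        refine ⟨fun hd => congrArg Multiplicative.ofAdd (LinearMap.ext fun y => ?_), fun hd y hy => ?_⟩
        · change φ (ρ (d : X) (y : V) + y) = φ (ρ (d₀ : X) (y : V) + y)
          rw [map_add, map_add, hd y y.2, hmem.1 hd₀ y y.2]
        · have h1 : φ (ρ (d : X) y + y) = φ (ρ (d₀ : X) y + y) :=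
            LinearMap.congr_fun (congrArg Multiplicative.toAdd hd) ⟨y, hy⟩
          rw [map_add, map_add, hmem.1 hd₀ y hy, add_left_inj] at h1
          exact h1
      have hcnt : Nat.card {d : A // act d c' ≤ LinearMap.ker φ} = Nat.card f.ker :=
        Nat.card_congr
          { toFun := fun d => ⟨d₀⁻¹ * d.1, MonoidHom.mem_ker.2 (by
              rw [map_mul, map_inv, (hval _).1 d.2, inv_mul_cancel])⟩
            invFun := fun k => ⟨d₀ * k.1, (hval _).2 (by rw [map_mul, MonoidHom.mem_ker.1 k.2, mul_one])⟩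
            left_inv := fun d => Subtype.ext (mul_inv_cancel_left _ _)
            right_inv := fun k => Subtype.ext (inv_mul_cancel_left _ _) }
      rw [hcnt]
      have hA0le : A ⊓ stab ρ c' ≤ f.ker.map A.subtype := fun d hd =>
        ⟨⟨d, hd.1⟩, hkerf.2 fun y hy => by
          have h1 : ρ d y + y ∈ T ⊓ T.map (ρ g).toLinearMap :=
            ⟨h.cfg.low d hd.1 y (hin hy),
              Submodule.map_mono h.c_le_T (c'.add_mem (apply_mem_of_stab ρ hd.2 hy) hy)⟩
          have h2 := h.inter_le hg h1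
          rw [h.fxTop_bot irr, Submodule.mem_bot] at h2
          change φ (ρ d y + y) = 0
          rw [h2, map_zero], rfl⟩
      have hk2 : IsPGroup 2 (f.ker.map A.subtype) := (hEl.isPGroup).to_le (Subgroup.map_subtype_le _)
      have h02 : IsPGroup 2 ↥(A ⊓ stab ρ c') := (hEl.mono inf_le_left).isPGroup
      obtain ⟨i, hi⟩ := IsPGroup.iff_card.1 hk2
      obtain ⟨j, hj⟩ := IsPGroup.iff_card.1 h02
      rw [Subgroup.card_map_of_injective A.subtype_injective] at hi
      rw [hi, hj, ← pow_succ']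
      refine pow_dvd_pow 2 ?_
      have h1 := f.ker.card_mul_index
      rw [Subgroup.index_ker, hi, ← h.orbit irr hg hin, hj, card_f2 T] at h1
      haveI : Finite (Module.Dual (ZMod 2) c') :=
        Finite.of_injective (fun l => (l : c' → ZMod 2)) DFunLike.coe_injective
      haveI : Finite (Multiplicative (Module.Dual (ZMod 2) c')) :=
        inferInstanceAs (Finite (Module.Dual (ZMod 2) c'))
      have h2 : Nat.card f.range ≤ 2 ^ finrank (ZMod 2) c' := by
        refine (Subgroup.card_le_card_group f.range).trans (le_of_eq ?_)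
        rw [Nat.card_congr Multiplicative.toAdd, card_f2 (Module.Dual (ZMod 2) c'),
          Subspace.dual_finrank_eq]
      by_contra hij
      push Not at hij
      have h3 := Nat.mul_le_mul (Nat.pow_le_pow_right (show 0 < 2 by norm_num) (Nat.lt_succ_iff.1 hij)) h2
      rw [h1, hfr, ← pow_add, ← pow_add, Nat.pow_le_pow_iff_right (by norm_num)] at h3
      omega
    · rw [(h.free hin).1, Subgroup.card_bot, mul_one]
      letI : CommGroup A :=
        { (inferInstance : Group A) with mul_comm := fun a b => Subtype.ext (hEl.comm a.2 b.2) }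
      letI : Module (ZMod 2) (Additive A) := AddCommGroup.zmodModule (n := 2) fun v => by
        rw [two_nsmul]
        exact Additive.toMul.injective (Subtype.ext (hEl _ (Additive.toMul v : A).2))
      let co : Additive A → X := fun d => ((Additive.toMul d : A) : X)
      have hco : ∀ d, co d ∈ A := fun d => (Additive.toMul d : A).2
      let bb := Module.finBasis (ZMod 2) c'
      have hdeg : ∀ v : V, DegLe 2 fun d : Additive A => φ (ρ (co d) v) + 1 := by
        intro v a b x y
        have key : ∀ x : Additive A, φ (ρ (co (x + b + a)) v) + 1 + (φ (ρ (co (x + b)) v) + 1) +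
            (φ (ρ (co (x + a)) v) + 1 + (φ (ρ (co x) v) + 1)) = φ (ρ (co b) (ρ (co a) v + v) +
              (ρ (co a) v + v)) := by
          intro x
          have hu : ρ (co a) v + v ∈ U := h.cfg.into _ (hco a) v Submodule.mem_top
          have e1 : ρ (co (x + b + a)) v = ρ (co x) (ρ (co b) (ρ (co a) v)) := by
            rw [← apply_mul, ← apply_mul]; rfl
          have e2 : ρ (co (x + b)) v = ρ (co x) (ρ (co b) v) := by rw [← apply_mul]; rfl
          have e3 : ρ (co (x + a)) v = ρ (co x) (ρ (co a) v) := by rw [← apply_mul]; rfl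
          have h1 : ρ (co x) (ρ (co b) (ρ (co a) v + v) + (ρ (co a) v + v)) =
              ρ (co b) (ρ (co a) v + v) + (ρ (co a) v + v) :=
            h.cfg.T_fx (h.cfg.low _ (hco b) _ hu) _ (hco x)
          rw [e1, e2, e3]
          have h2 := congrArg φ h1
          simp only [map_add] at h2 ⊢
          have h4 : (4 : ZMod 2) = 0 := rfl
          linear_combination h2 + h4
        change φ (ρ (co (x + b + a)) v) + 1 + (φ (ρ (co (x + b)) v) + 1) +
            (φ (ρ (co (x + a)) v) + 1 + (φ (ρ (co x) v) + 1)) = _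
        rw [key x]
        exact (key y).symm
      haveI : Fintype (Additive A) := Fintype.ofFinite _
      have hdim : finrank (ZMod 2) (Additive A) = dA A := by
        have h1 := card_f2 (Additive A)
        rw [show Nat.card (Additive A) = Nat.card A from rfl, hEl.card] at h1
        exact (Nat.pow_right_injective (le_refl 2) h1).symm
      have hsum := DegLe.sum_eq_zero (DegLe.prod (Finset.univ : Finset (Fin (finrank (ZMod 2) c')))
        (fun i d => φ (ρ (co d) (bb i : V)) + 1) 2 fun i _ => hdeg _) (by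
          rw [Finset.card_univ, Fintype.card_fin, hfr, hdim]
          have h1 := h.sq_le irr
          rw [card_f2 T, hEl.card, ← pow_add, Nat.pow_le_pow_iff_right (by norm_num)] at h1
          omega)
      rw [← ZMod.natCast_eq_zero_iff_even.trans even_iff_two_dvd]
      refine Eq.trans ?_ hsum
      rw [Nat.card_eq_fintype_card, Fintype.card_subtype, Finset.natCast_card_filter]
      refine Fintype.sum_equiv Additive.ofMul _ _ fun d => ?_
      split_ifs with hd
      · symm
        refine Finset.prod_eq_one fun i _ => ?_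
        rw [show φ (ρ (co (Additive.ofMul d)) (bb i : V)) = 0 from hd ⟨_, (bb i).2, rfl⟩, zero_add]
      · symm
        rw [Finset.prod_eq_zero_iff]
        by_contra hno
        push Not at hno
        refine hd ?_
        rintro _ ⟨y, hy, rfl⟩
        have h1 : (⟨y, hy⟩ : c') ∈ LinearMap.ker ((φ.comp (ρ (d : X)).toLinearMap).comp c'.subtype) := by
          refine (Submodule.span_le.2 ?_) (bb.mem_span ⟨y, hy⟩)
          rintro _ ⟨i, rfl⟩
          have := hno i (Finset.mem_univ _)
          exact (by decide : ∀ z : ZMod 2, z + 1 ≠ 0 → z = 0) _ this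
        exact h1
  set Ω := Finset.univ.filter fun d => d ∈ Cj ρ c ∧ d ≠ c ∧ d ≤ LinearMap.ker φ with hΩ
  have hΩmem : ∀ {x}, x ∈ Ω ↔ x ∈ Cj ρ c ∧ x ≠ c ∧ x ≤ LinearMap.ker φ := fun {x} => by
    simp [hΩ]
  rw [Finset.card_eq_sum_card_image orb, ← ZMod.natCast_eq_zero_iff_even, Nat.cast_sum]
  refine Finset.sum_eq_zero fun O hO => ?_
  rw [ZMod.natCast_eq_zero_iff_even]
  obtain ⟨x, hx, rfl⟩ := Finset.mem_image.1 hO
  obtain ⟨⟨g, rfl⟩, hne, -⟩ := hΩmem.1 hx
  have hg : g ∉ stab ρ c := fun hs => hne hs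
  obtain ⟨k, hk⟩ := hone g hg
  set c' := c.map (ρ g).toLinearMap with hc'
  -- each member of the orbit is counted once for each element of the stabilizer
  have hcnt : Nat.card {d : A // act d c' ≤ LinearMap.ker φ} =
      (Ω.filter fun y => orb y = orb c').card * Nat.card ↥(A ⊓ stab ρ c') := by
    rw [Nat.card_eq_fintype_card, Fintype.card_subtype,
      Finset.card_eq_sum_card_fiberwise (f := fun d => act d c') (t := Ω.filter fun y => orb y = orb c')
        fun d hd => ?_]
    · rw [Finset.sum_const_nat fun y hy => ?_]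
      obtain ⟨hyΩ, hy⟩ := Finset.mem_filter.1 hy
      obtain ⟨d₁, -, rfl⟩ := Finset.mem_image.1 (hy ▸ hself y)
      rw [← Nat.card_eq_finsetCard]
      have hd1 := (hΩmem.1 hyΩ).2.2
      exact Nat.card_congr
        { toFun := fun d => ⟨(d₁ : X)⁻¹ * ((d : A) : X), A.mul_mem (A.inv_mem d₁.2) (d : A).2, by
            have h1 : act (d : A) c' = act d₁ c' := (Finset.mem_filter.1 d.2).2
            show _ ∈ stab ρ c'
            rw [mem_stab, ← map_map_apply]
            exact (congrArg (fun W => W.map (ρ (d₁ : X)⁻¹).toLinearMap) h1).trans (map_inv_map ρ c' _)⟩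
          invFun := fun k => ⟨d₁ * ⟨k, k.2.1⟩, by
            have h1 : act (d₁ * ⟨k, k.2.1⟩) c' = act d₁ c' := by
              rw [← hact]
              exact congrArg (act d₁) ((mem_stab ρ).1 k.2.2)
            refine Finset.mem_filter.2 ⟨Finset.mem_filter.2 ⟨Finset.mem_univ _, ?_⟩, h1⟩
            rw [h1]; exact hd1⟩
          left_inv := fun d => Subtype.ext (Subtype.ext (mul_inv_cancel_left _ _))
          right_inv := fun k => Subtype.ext (inv_mul_cancel_left _ _) }
    · simp only [Finset.coe_filter, Finset.mem_univ, true_and, Set.mem_ofPred_eq] at hd ⊢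
      refine ⟨hΩmem.2 ⟨map_mem_Cj ρ ⟨g, rfl⟩ _, fun he => hg ?_, hd⟩, horb _ _⟩
      have h1 := congrArg (fun W => W.map (ρ (d : X)⁻¹).toLinearMap) he
      simp only [act, map_inv_map] at h1
      rw [mem_stab]
      exact h1.trans ((mem_stab ρ).1 ((stab ρ c).inv_mem (fixer_le_stab ρ c (h.fix d.2))))
  refine even_iff_two_dvd.2 ⟨k, Nat.eq_of_mul_eq_mul_right (Nat.card_pos (α := ↥(A ⊓ stab ρ c'))) ?_⟩
  rw [← hcnt, hk]; ring

theorem Crit.c_eq_T : c = T := by
  classical
  by_contra hct
  haveI : Fintype (Submodule (ZMod 2) V) := Fintype.ofFinite _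
  obtain ⟨g, hg⟩ := h.exists_out
  have hg' := h.not_mem_stab_of_out hg
  set c' := c.map (ρ g).toLinearMap with hc'
  have hct' : c' ≠ T.map (ρ g).toLinearMap := fun he =>
    hct (Submodule.map_injective_of_injective (ρ g).injective he)
  have hsame : ∀ d, d ∈ Cj ρ c' ↔ d ∈ Cj ρ c := by
    intro d
    constructor
    · rintro ⟨x, rfl⟩; exact map_mem_Cj ρ ⟨g, rfl⟩ x
    · rintro ⟨x, rfl⟩
      exact ⟨x * g⁻¹, by
        change c'.map (ρ (x * g⁻¹)).toLinearMap = _
        rw [hc', map_map_apply, inv_mul_cancel_right]⟩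
  have hiff : ∀ φ : Module.Dual (ZMod 2) V, c ≤ LinearMap.ker φ ↔ c' ≤ LinearMap.ker φ := by
    intro φ
    have hodd : ∀ {B : Subgroup X} {U' T' e : Submodule (ZMod 2) V}, Crit ρ B U' T' e → e ≠ T' →
        (∀ d, d ∈ Cj ρ e ↔ d ∈ Cj ρ c) →
        ((Odd (Finset.univ.filter fun d => d ∈ Cj ρ c ∧ d ≤ LinearMap.ker φ).card) ↔
          e ≤ LinearMap.ker φ) := by
      intro B U' T' e he hne hcj
      have h1 := he.even_classes irr φ hne
      have h2 : (Finset.univ.filter fun d => d ∈ Cj ρ e ∧ d ≠ e ∧ d ≤ LinearMap.ker φ) =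
          (Finset.univ.filter fun d => d ∈ Cj ρ c ∧ d ≤ LinearMap.ker φ).erase e := by
        ext d
        simp only [Finset.mem_filter, Finset.mem_univ, true_and, Finset.mem_erase, hcj]
        tauto
      rw [h2] at h1
      by_cases hm : e ≤ LinearMap.ker φ
      · have h3 := Finset.card_erase_add_one (s := Finset.univ.filter fun d =>
          d ∈ Cj ρ c ∧ d ≤ LinearMap.ker φ) (a := e)
          (by simp [hm, (hcj e).1 (mem_Cj_self ρ e)])
        refine iff_of_true ?_ hm
        rw [← h3]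
        exact h1.add_one
      · refine iff_of_false ?_ hm
        rw [Finset.erase_eq_of_notMem (by simp [hm])] at h1
        exact Nat.not_odd_iff_even.2 h1
    rw [← hodd h hct fun _ => Iff.rfl, ← hodd (h.conj g) hct' hsame]
  refine hg' ((mem_stab ρ).2 ?_)
  have hann : c.dualAnnihilator = c'.dualAnnihilator := by
    ext φ
    have h1 : ∀ e : Submodule (ZMod 2) V, φ ∈ e.dualAnnihilator ↔ e ≤ LinearMap.ker φ := fun e => by
      rw [Submodule.mem_dualAnnihilator]
      exact ⟨fun h2 v hv => h2 v hv, fun h2 v hv => h2 hv⟩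
    rw [h1, h1]
    exact hiff φ
  exact (Subspace.dualAnnihilator_inj.1 hann).symm

theorem Crit.free' {g : X} (hg : ¬ c.map (ρ g).toLinearMap ≤ U) :
    T.map (ρ g).toLinearMap ⊓ U = ⊥ := by
  have h1 := (h.free hg).2
  rw [h.fxTop_bot irr] at h1
  exact le_bot_iff.1 h1

/-- No class lies in the middle layer of another one. -/
theorem Crit.no_class (h3 : NoS3 X) {g : X} (hg : g ∉ stab ρ c) :
    ¬ c.map (ρ g).toLinearMap ≤ U := by
  intro hin
  obtain ⟨m, hmc, hmA0⟩ := h.parent irr g
  have horbit := h.orbit irr hg hin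
  rw [← hmc] at hin hmA0 horbit
  have hm : m ∉ stab ρ c := fun hs => hg (by rw [mem_stab, ← hmc, (mem_stab ρ).1 hs])
  have h' := h.conj m
  have hcT := h.c_eq_T irr
  set Um := U.map (ρ m).toLinearMap with hUm
  set Tm := T.map (ρ m).toLinearMap with hTm
  have hTmU : Tm ≤ U := by rw [hTm, ← hcT]; exact hin
  have hnTm : ¬ T ≤ Um := by
    intro hTUm
    have hst : ∀ {B : Subgroup X} {U' T' T'' : Submodule (ZMod 2) V}, CfgOn ρ ⊤ B U' T' →
        T'' ≤ U' → B ≤ stab ρ (T' ⊔ T'') := fun {B U' T' T''} hB hle b hb =>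
      mem_stab_of_mem ρ fun v hv => by
        obtain ⟨p, hp, q, hq, rfl⟩ := Submodule.mem_sup.1 hv
        rw [map_add, hB.T_fx hp b hb, show p + ρ b q = (p + (ρ b q + q)) + q by
          rw [add_assoc, add_assoc, add_self, add_zero]]
        exact Submodule.add_mem _
          (Submodule.mem_sup_left (T'.add_mem hp (hB.low b hb q (hle hq))))
          (Submodule.mem_sup_right hq)
    rcases h.inv_pair irr hm (hst h.cfg hTmU)
      (by rw [sup_comm]; exact hst h'.cfg hTUm) with h1 | h1
    · exact h.c_ne_bot irr (le_bot_iff.1 (h.c_le_T.trans (le_sup_left.trans h1.le)))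
    · exact h.cfg.U_ne_top (top_le_iff.1 (h1.ge.trans (sup_le h.cfg.T_le hTmU)))
  have hout : ¬ (c.map (ρ m).toLinearMap).map (ρ m⁻¹).toLinearMap ≤ Um := by
    rw [map_inv_map]; exact fun hle => hnTm (hcT ▸ hle)
  have hTUm : T ⊓ Um = ⊥ := by
    have h1 := h'.free' irr hout
    rw [map_inv_map] at h1
    exact h1
  set A0 := A ⊓ stab ρ (c.map (ρ m).toLinearMap) with hA0
  obtain ⟨x, hxm, hxU⟩ := SetLike.not_le_iff_exists.1 (h.not_U_le irr hm)
  -- `A₀` is small
  have hsmall : Nat.card A0 * Nat.card A0 ≤ Nat.card A := by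
    have h1 := h.facts.delta A0 inf_le_left
    have h2 : Nat.card A0 * Nat.card T ≤ Nat.card ↥(U ⊓ fx ρ A0) := by
      rw [← Nat.card_prod]
      refine Nat.card_le_card_of_injective (fun p : A0 × T => (⟨ρ (p.1 : X) x + x + (p.2 : V),
        U.add_mem (h.cfg.into _ p.1.2.1 x Submodule.mem_top) (h.cfg.T_le p.2.2), ?_⟩ :
          ↥(U ⊓ fx ρ A0))) ?_
      · intro d hd
        rw [map_add, h.cfg.T_fx p.2.2 d hd.1]
        congr 1
        have h5 : ρ (p.1 : X) x + x ∈ Um := Um.add_mem (apply_mem_of_stab ρ (hmA0 p.1.2) hxm) hxm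
        have h6 : ρ d (ρ (p.1 : X) x + x) + (ρ (p.1 : X) x + x) ∈ T ⊓ Um :=
          ⟨h.cfg.low d hd.1 _ (h.cfg.into _ p.1.2.1 x Submodule.mem_top),
            Um.add_mem (apply_mem_of_stab ρ (hmA0 hd) h5) h5⟩
        rw [hTUm, Submodule.mem_bot] at h6
        rw [← sub_eq_zero, sub_eq_add]
        exact h6
      · intro p q hpq
        have h4 : (((⟨p.1, p.1.2.1⟩ : A), p.2) : A × T) = (⟨q.1, q.1.2.1⟩, q.2) :=
          (h.cfg.bij h.inj hxU).1 (Subtype.ext (congrArg Subtype.val hpq :))
        obtain ⟨h7, h8⟩ := Prod.ext_iff.1 h4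
        exact Prod.ext (Subtype.ext (congrArg Subtype.val h7 :)) h8
    have h9 := (Nat.mul_le_mul_left _ h2).trans h1
    rw [← h.cfg.card_eq h.inj, ← mul_assoc] at h9
    exact Nat.le_of_mul_le_mul_right h9 Nat.card_pos
  have hcrit : Nat.card A = Nat.card T * Nat.card T := by
    refine le_antisymm ?_ (h.sq_le irr)
    refine Nat.le_of_mul_le_mul_left ?_ (Nat.card_pos (α := A))
    calc Nat.card A * Nat.card A = Nat.card A0 * Nat.card A0 * (Nat.card T * Nat.card T) := by
          conv_lhs => rw [← horbit]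
          ring
      _ ≤ Nat.card A * (Nat.card T * Nat.card T) := Nat.mul_le_mul_right _ hsmall
  -- a vector in both middle layers
  obtain ⟨u, ⟨huU, huUm⟩, huT⟩ : ∃ u ∈ U ⊓ Um, u ∉ Tm := by
    by_contra hno
    push Not at hno
    have h1 := card_mono hno
    rw [h.card_inf_U irr hm, card_map_sub, hcrit] at h1
    have := h.two_le irr
    nlinarith
  obtain ⟨v, hvT, hv0⟩ := Submodule.exists_mem_ne_zero_of_ne_bot
    (show T ≠ ⊥ from fun hT => h.c_ne_bot irr (le_bot_iff.1 (hT ▸ h.c_le_T)))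
  have hvUm : v ∉ Um := fun hv => hv0 ((Submodule.mem_bot _).1 (hTUm.le ⟨hvT, hv⟩))
  obtain ⟨e, he, heu⟩ := h'.cfg.cover h.inj hvUm huUm
  set w := ρ e v + v with hw
  have hwU : w ∈ U := by
    have h1 := U.add_mem (hTmU heu) huU
    rwa [add_assoc, add_self, add_zero] at h1
  have hwUm : w ∈ Um := h'.cfg.into e he v Submodule.mem_top
  have hwT : w ∉ T := fun hwT => by
    have h1 : w = 0 := (Submodule.mem_bot _).1 (hTUm.le ⟨hwT, hwUm⟩)
    rw [h1, zero_add] at heu
    exact huT heu
  obtain ⟨d, hd, hdw⟩ := h.facts.onto (le_of_eq (by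
    rw [h.card_V irr, ← h.cfg.card_eq h.inj, hcrit]; ring)) (h.layers irr).1 w hwU hwT v hvT
  have hee := h'.cfg.sq_one h.inj he
  have hew : ρ e w = w := by
    rw [hw, map_add, ← apply_mul, hee, map_one, add_comm]; rfl
  have hev : ρ e v = w + v := by rw [hw, add_assoc, add_self, add_zero]
  have hdw' : ρ d w = v + w := by rw [← hdw, add_assoc, add_self, add_zero]
  have hdv : ρ d v = v := h.cfg.T_fx hvT d hd
  have hpv : ρ (d * e) v = w := by
    rw [apply_mul, hev, map_add, hdw', hdv, add_comm v w, add_assoc, add_self, add_zero]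
  have hpw : ρ (d * e) w = v + w := by rw [apply_mul, hew, hdw']
  refine false_of_triangle h3 (h.cfg.sq_one h.inj hd) hee
    (H := fixer ρ (Submodule.span (ZMod 2) {v})) (fun z hz => ?_) fun hp => ?_
  · obtain ⟨k, rfl⟩ := Submodule.mem_span_singleton.1 hz
    rw [map_smul]
    congr 1
    rw [pow_succ', pow_two, apply_mul ρ (d * e), apply_mul ρ (d * e), hpv, hpw, map_add, hpv, hpw,
      add_comm v w,
      ← add_assoc, add_self, zero_add]
  · have h1 := hp v (Submodule.mem_span_singleton_self v)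
    rw [hpv] at h1
    exact hvUm (h1 ▸ hwUm)

/-- The classes different from `c` form one orbit. -/
theorem Crit.one_orbit (h3 : NoS3 X) {g g' : X} (hg : g ∉ stab ρ c) (hg' : g' ∉ stab ρ c) :
    ∃ d ∈ A, c.map (ρ g').toLinearMap = (c.map (ρ g).toLinearMap).map (ρ d).toLinearMap := by
  classical
  by_contra hno
  push Not at hno
  haveI : Fintype V := Fintype.ofFinite _
  haveI : Finite (Module.Dual (ZMod 2) V) :=
    Finite.of_injective (fun l => (l : V → ZMod 2)) DFunLike.coe_injective
  haveI : Fintype (Module.Dual (ZMod 2) V) := Fintype.ofFinite _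
  haveI : Fintype (Submodule (ZMod 2) V) := Fintype.ofFinite _
  haveI : Fintype A := Fintype.ofFinite _
  have hcT := h.c_eq_T irr
  have hq := h.two_le irr
  set q := Nat.card T with hqdef
  set Q := Nat.card A with hQdef
  set C := Finset.univ.filter fun e : Submodule (ZMod 2) V => e ∈ Cj ρ c with hC
  have hCmem : ∀ {e}, e ∈ C ↔ e ∈ Cj ρ c := fun {e} => by simp [hC]
  have hrep : ∀ e ∈ C, ∃ x, e = c.map (ρ x).toLinearMap := fun e he => by
    obtain ⟨x, rfl⟩ := hCmem.1 he; exact ⟨x, rfl⟩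
  choose! rep hrep using hrep
  -- two different classes
  have hpair : ∀ x y : X, c.map (ρ x).toLinearMap ≠ c.map (ρ y).toLinearMap →
      c.map (ρ y).toLinearMap ⊔ U.map (ρ x).toLinearMap = ⊤ ∧
        c.map (ρ x).toLinearMap ⊓ c.map (ρ y).toLinearMap = ⊥ := by
    intro x y hxy
    have hy : y * x⁻¹ ∉ stab ρ (c.map (ρ x).toLinearMap) := fun hs => hxy (by
      rw [mem_stab, map_map_apply, inv_mul_cancel_right] at hs
      exact hs.symm)
    have h' := h.conj x
    have hout := h'.no_class irr h3 hy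
    have h1 := h'.free' irr hout
    have h2 := h'.inter_le hy
    simp only [map_map_apply, inv_mul_cancel_right, h.fxTop_bot irr, ← hcT] at h1 h2 ⊢
    refine ⟨eq_of_card_le le_top ?_, le_bot_iff.1 h2⟩
    have h5 := card_sup_inf (c.map (ρ y).toLinearMap) (U.map (ρ x).toLinearMap)
    rw [h1, card_map_sub, card_map_sub, hcT, (h.layers irr).2] at h5
    have h6 : Nat.card (⊥ : Submodule (ZMod 2) V) = 1 := by simp
    rw [h6, mul_one, ← hcT] at h5
    rw [card_top_sub, h5]
  set N := C.card with hN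
  have hcq : ∀ e ∈ C, Nat.card e = q := fun e he => by
    rw [hrep e he, card_map_sub, hcT]
  -- the character sums
  let vec : Submodule (ZMod 2) V → Finset V := fun e => Finset.univ.filter fun v => v ∈ e
  set Z := C.biUnion fun e => (vec e).erase 0 with hZ
  have hdisjZ : (C : Set (Submodule (ZMod 2) V)).PairwiseDisjoint fun e => (vec e).erase 0 := by
    intro a ha b hb hab
    refine Finset.disjoint_left.2 fun v hva hvb => ?_
    simp only [Finset.mem_erase, vec, Finset.mem_filter, Finset.mem_univ, true_and] at hva hvb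
    have h1 := (hpair (rep a) (rep b) (by rwa [← hrep a ha, ← hrep b hb])).2
    rw [← hrep a ha, ← hrep b hb] at h1
    exact hva.1 ((Submodule.mem_bot _).1 (h1.le ⟨hva.2, hvb.2⟩))
  have hsum : ∀ φ : Module.Dual (ZMod 2) V, ∑ v ∈ Z, chi (φ v) =
      ∑ e ∈ C, ((if e ≤ LinearMap.ker φ then (q : ℤ) else 0) - 1) := by
    intro φ
    rw [hZ, Finset.sum_biUnion hdisjZ]
    refine Finset.sum_congr rfl fun e he => ?_
    rw [Finset.sum_erase_eq_sub (by simp [vec]), map_zero, chi_zero]
    congr 1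
    haveI : Fintype e := Fintype.ofFinite _
    have h1 := sum_chi_linear (φ.comp e.subtype)
    rw [← Nat.card_eq_fintype_card, hcq e he] at h1
    rw [Finset.sum_subtype (F := inferInstance) (vec e) (p := fun v => v ∈ e) (fun v => by simp [vec])]
    refine h1.trans ?_
    have h2 : φ.comp e.subtype = 0 ↔ e ≤ LinearMap.ker φ :=
      ⟨fun h0 v hv => LinearMap.congr_fun h0 ⟨v, hv⟩, fun h0 => LinearMap.ext fun v => h0 v.2⟩
    simp only [h2]
  have hcardZ : (Z.card : ℤ) = N * ((q : ℤ) - 1) := by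
    rw [hZ, Finset.card_biUnion hdisjZ, Finset.sum_const_nat (m := q - 1) fun e he => ?_, Nat.cast_mul,
      Nat.cast_sub (by omega)]
    · simp [hN]
    · rw [Finset.card_erase_of_mem (by simp [vec]), ← hcq e he, Nat.card_eq_fintype_card,
        Fintype.card_subtype]
  -- functionals vanishing on a middle layer
  let W : Submodule (ZMod 2) V → Finset (Module.Dual (ZMod 2) V) := fun e =>
    Finset.univ.filter fun φ => φ ≠ 0 ∧ φ ∈ (U.map (ρ (rep e)).toLinearMap).dualAnnihilator
  have hWker : ∀ e ∈ C, ∀ φ ∈ W e, ∀ e' ∈ C, e' ≤ LinearMap.ker φ ↔ e' = e := by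
    intro e he φ hφ e' he'
    simp only [W, Finset.mem_filter, Finset.mem_univ, true_and, Submodule.mem_dualAnnihilator] at hφ
    constructor
    · intro hle
      by_contra hne
      have h1 := (hpair (rep e) (rep e') (by rw [← hrep e he, ← hrep e' he']; exact Ne.symm hne)).1
      rw [← hrep e' he'] at h1
      refine hφ.1 (LinearMap.ext fun v => ?_)
      obtain ⟨a, ha, b, hb, rfl⟩ := Submodule.mem_sup.1 (h1.ge (Submodule.mem_top (x := v)))
      rw [map_add, show φ a = 0 from hle ha, hφ.2 b hb]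
      simp
    · rintro rfl v hv
      rw [hrep e' he] at hv
      exact hφ.2 v (Submodule.map_mono (h.c_le_T.trans h.cfg.T_le) hv)
  have hWsum : ∀ e ∈ C, ∀ φ ∈ W e, ∑ v ∈ Z, chi (φ v) = (q : ℤ) - N := by
    intro e he φ hφ
    rw [hsum, Finset.sum_sub_distrib, Finset.sum_congr rfl fun e' he' =>
      (by simp only [hWker e he φ hφ e' he'] :
        (if e' ≤ LinearMap.ker φ then (q : ℤ) else 0) = if e' = e then (q : ℤ) else 0)]
    simp [he, hN]
  have hWcard : ∀ e ∈ C, ((W e).card : ℤ) = (q : ℤ) - 1 := by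
    intro e he
    have h1 : W e = (Finset.univ.filter fun φ =>
        φ ∈ (U.map (ρ (rep e)).toLinearMap).dualAnnihilator).erase 0 := by
      ext φ
      simp [W]
    rw [h1, Finset.card_erase_of_mem (by simp), ← Fintype.card_subtype, ← Nat.card_eq_fintype_card]
    have h2 := Subspace.finrank_add_finrank_dualAnnihilator_eq (U.map (ρ (rep e)).toLinearMap)
    have h3 := (h.layers irr).2
    rw [card_f2 T, card_f2 U, card_f2 V, ← pow_add] at h3
    have h4 := Nat.pow_right_injective (le_refl 2) h3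
    rw [LinearEquiv.finrank_map_eq] at h2
    have h5 : finrank (ZMod 2) (U.map (ρ (rep e)).toLinearMap).dualAnnihilator =
        finrank (ZMod 2) T := by omega
    rw [card_f2 (U.map (ρ (rep e)).toLinearMap).dualAnnihilator, h5, ← card_f2 T,
      Nat.cast_sub (by omega), Nat.cast_one]
  have hdisjW : (C : Set (Submodule (ZMod 2) V)).PairwiseDisjoint W := by
    intro a ha b hb hab
    refine Finset.disjoint_left.2 fun φ hφa hφb => hab ?_
    exact (hWker b hb φ hφb a ha).1 ((hWker a ha φ hφa a ha).2 rfl)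
  have h0 : (0 : Module.Dual (ZMod 2) V) ∉ C.biUnion W := by
    simp [W]
  have hpars := sum_sq_chi Z
  have hle : (N : ℤ) * ((q : ℤ) - 1) * (((q : ℤ) - N) * ((q : ℤ) - N)) +
      (N * ((q : ℤ) - 1)) * (N * ((q : ℤ) - 1)) ≤ (Fintype.card V : ℤ) * (N * ((q : ℤ) - 1)) := by
    rw [← hcardZ, ← hpars, hcardZ]
    refine le_trans (le_of_eq ?_) (Finset.sum_le_sum_of_subset_of_nonneg
      (Finset.subset_univ (insert 0 (C.biUnion W))) fun φ _ _ => mul_self_nonneg _)
    rw [Finset.sum_insert h0, Finset.sum_biUnion hdisjW, add_comm]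
    congr 1
    · simp only [LinearMap.zero_apply, chi_zero, Finset.sum_const, nsmul_eq_mul, mul_one, hcardZ]
    · rw [Finset.sum_congr rfl fun e he => (Finset.sum_congr rfl fun φ hφ => by rw [hWsum e he φ hφ])]
      simp only [Finset.sum_const, nsmul_eq_mul]
      rw [Finset.sum_congr rfl fun e he => by rw [hWcard e he]]
      simp only [Finset.sum_const, nsmul_eq_mul, hN]
      ring
  -- two regular orbits
  have horbit : ∀ x, x ∉ stab ρ c → Function.Injective
      (fun d : A => (c.map (ρ x).toLinearMap).map (ρ (d : X)).toLinearMap) := by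
    intro x hx d e hde
    have h1 : (d : X)⁻¹ * e ∈ A ⊓ stab ρ (c.map (ρ x).toLinearMap) :=
      ⟨A.mul_mem (A.inv_mem d.2) e.2, by
        show _ ∈ stab ρ _
        rw [mem_stab, ← map_map_apply]
        exact (congrArg (fun W => W.map (ρ (d : X)⁻¹).toLinearMap) hde.symm).trans (map_inv_map ρ _ _)⟩
    rw [(h.free (h.no_class irr h3 hx)).1, Subgroup.mem_bot, inv_mul_eq_one] at h1
    exact Subtype.ext h1
  have hN2 : 2 * Q + 1 ≤ N := by
    set O : X → Finset (Submodule (ZMod 2) V) := fun x =>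
      Finset.univ.image fun d : A => (c.map (ρ x).toLinearMap).map (ρ (d : X)).toLinearMap with hO
    have hOc : ∀ x, x ∉ stab ρ c → c ∉ O x := by
      intro x hx hmem
      obtain ⟨d, -, hdx⟩ := Finset.mem_image.1 hmem
      refine hx ((mem_stab ρ).2 ?_)
      have h1 := congrArg (fun W => W.map (ρ (d : X)⁻¹).toLinearMap) hdx
      simp only [map_inv_map] at h1
      exact h1.trans ((mem_stab ρ).1 ((stab ρ c).inv_mem (fixer_le_stab ρ c (h.fix d.2))))
    have hOcard : ∀ x, x ∉ stab ρ c → (O x).card = Q := fun x hx => by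
      rw [hO, Finset.card_image_of_injective _ (horbit x hx), Finset.card_univ, hQdef,
        Nat.card_eq_fintype_card]
    have hdisj : Disjoint (O g) (O g') := by
      refine Finset.disjoint_left.2 fun y hy hy' => ?_
      obtain ⟨d, -, rfl⟩ := Finset.mem_image.1 hy
      obtain ⟨d', -, hd'⟩ := Finset.mem_image.1 hy'
      refine hno ((d' : X)⁻¹ * d) (A.mul_mem (A.inv_mem d'.2) d.2) ?_
      rw [← map_map_apply, ← hd', map_inv_map]
    have hsub : insert c (O g ∪ O g') ⊆ C := by
      intro y hy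
      rw [hCmem]
      rcases Finset.mem_insert.1 hy with rfl | hy
      · exact mem_Cj_self ρ _
      rcases Finset.mem_union.1 hy with hy | hy <;>
      · obtain ⟨d, -, rfl⟩ := Finset.mem_image.1 hy
        exact map_mem_Cj ρ ⟨_, rfl⟩ _
    have h1 := Finset.card_le_card hsub
    rw [Finset.card_insert_of_notMem (by simp [hOc g hg, hOc g' hg']),
      Finset.card_union_of_disjoint hdisj, hOcard g hg, hOcard g' hg'] at h1
    omega
  have hVc : (Fintype.card V : ℤ) = Q * q * q := by
    rw [← Nat.card_eq_fintype_card, h.card_V irr]; push_cast; rfl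
  have hsq := h.sq_le irr
  rw [hVc] at hle
  have hq' : (2 : ℤ) ≤ q := by exact_mod_cast hq
  have hN' : 2 * (Q : ℤ) + 1 ≤ N := by exact_mod_cast hN2
  have hsq' : (q : ℤ) * q ≤ Q := by exact_mod_cast hsq
  have hpos : 0 < (N : ℤ) * ((q : ℤ) - 1) := by
    have : (0 : ℤ) < N := by linarith
    exact mul_pos this (by linarith)
  have h9 : ((N : ℤ) - q) * ((N : ℤ) - q) + N * ((q : ℤ) - 1) ≤ Q * q * q := by
    refine le_of_mul_le_mul_left (le_of_eq_of_le ?_ (hle.trans (le_of_eq (mul_comm _ _)))) hpos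
    ring
  have h10 : (Q : ℤ) ≤ N - q := by nlinarith
  have h11 : (Q : ℤ) * Q ≤ (N - q) * (N - q) := mul_self_le_mul_self (Int.natCast_nonneg _) h10
  have h12 : (Q : ℤ) * q * q ≤ Q * Q := by nlinarith
  linarith

/-- **No critical configuration on an irreducible module.** -/
theorem Crit.irr_false (h3 : NoS3 X) : False := by
  obtain ⟨g, hg⟩ := h.exists_out
  have hg' := h.not_mem_stab_of_out hg
  have h' := h.conj g
  obtain ⟨⟨e, he⟩, he1⟩ := Subgroup.ne_bot_iff_exists_ne_one.1 h'.cfg.ne_bot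
  have he1' : e ≠ 1 := fun hh => he1 (Subtype.ext hh)
  set c' := c.map (ρ g).toLinearMap with hc'
  have hginv : g⁻¹ ∉ stab ρ c' := fun hs => hg' (by
    rw [mem_stab, hc', map_inv_map] at hs
    exact (mem_stab ρ).2 hs.symm)
  have hfree := (h'.free (h'.no_class irr h3 hginv)).1
  rw [map_inv_map] at hfree
  have hne : e ∉ stab ρ c := fun hs => he1' (by
    have : e ∈ S3Free.cjS g A ⊓ stab ρ c := ⟨he, hs⟩
    rwa [hfree, Subgroup.mem_bot] at this)
  obtain ⟨d, hd, hde⟩ := h.one_orbit irr h3 hg' hne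
  have hee := h'.cfg.sq_one h.inj he
  have hdd := h.cfg.sq_one h.inj hd
  have hec' : c'.map (ρ e).toLinearMap = c' :=
    (mem_stab ρ).1 (fixer_le_stab ρ c' (h'.fix he))
  have hdc : c.map (ρ d).toLinearMap = c := (mem_stab ρ).1 (fixer_le_stab ρ c (h.fix hd))
  -- the three classes are permuted cyclically
  have h1 : c.map (ρ (d * e)).toLinearMap = c' := by
    rw [← map_map_apply, hde, map_map_apply, hdd, map_one]
    exact Submodule.map_id c'
  have h2 : c'.map (ρ (d * e)).toLinearMap = c.map (ρ e).toLinearMap := by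
    rw [← map_map_apply, hec', hde]
  have h4 : (c.map (ρ e).toLinearMap).map (ρ (d * e)).toLinearMap = c := by
    rw [map_map_apply, mul_assoc, hee, mul_one, hdc]
  refine false_of_triangle h3 hdd hee (H := stab ρ c) ?_ fun hp => hg' ?_
  · rw [mem_stab, pow_succ', pow_two, ← map_map_apply ρ c (d * e), ← map_map_apply ρ _ (d * e) (d * e),
      h1, h2, h4]
  · rw [mem_stab] at hp
    rw [h1] at hp
    exact (mem_stab ρ).2 hp

end Irr

end Cfsg.Agent.SFW
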