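/-
Tools for the induction on configurations.
-/
import Cfsg.Agent.Lib.S3Free.Closure.CfgCore

set_option autoImplicit false
set_option linter.unusedSectionVars false
set_option linter.style.haveILetI false
set_option maxHeartbeats 1000000

namespace Cfsg.Agent.SFW

open Module Cfsg.Agent.S3Free

universe u

/-- Faithful actions of bounded size without normal `2`-subgroups have no configurations. -/
def BBelow (n : ℕ) : Prop :=
  ∀ (X : Type u) [Group X] [Finite X] (V : Type u) [AddCommGroup V] [Module (ZMod 2) V] [Finite V]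
    (ρ : X →* (V ≃ₗ[ZMod 2] V)), Nat.card X + finrank (ZMod 2) V < n → Function.Injective ρ →
    NoS3 X → NoTwo X → NoCfg ρ (⊤ : Submodule (ZMod 2) V)

/-- Bounded faithful actions spanned by a good subspace have no configurations. -/
def CBelow (n : ℕ) : Prop :=
  ∀ (X : Type u) [Group X] [Finite X] (V : Type u) [AddCommGroup V] [Module (ZMod 2) V] [Finite V]
    (ρ : X →* (V ≃ₗ[ZMod 2] V)), Nat.card X + finrank (ZMod 2) V < n → Function.Injective ρ →
    NoS3 X → ∀ (S : Sylow 2 X) (W : Submodule (ZMod 2) V), (S : Subgroup X) ≤ stab ρ W →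
    (∀ U : Submodule (ZMod 2) V, (∀ g, ∀ v ∈ U, ρ g v ∈ U) → W ≤ U → U = ⊤) →
    PW ρ W → NoCfg ρ W → NoCfg ρ (⊤ : Submodule (ZMod 2) V)

theorem NoTwo.normal {X : Type u} [Group X] [Finite X] (h2 : NoTwo X) (K : Subgroup X) [hK : K.Normal] :
    NoTwo K := by
  intro N hN hN2
  obtain ⟨R, hRn, hR2, hRmax⟩ := exists_max_normal_two K
  have hR : R.map K.subtype = ⊥ := by
    refine h2 _ ⟨?_⟩ (hR2.map _)
    rintro _ ⟨r, hr, rfl⟩ g
    refine ⟨MulAut.conjNormal g r, ?_, by simp [MulAut.conjNormal_apply]⟩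
    exact hRmax (R.map (MulAut.conjNormal g : K ≃* K).toMonoidHom)
      (hRn.map _ (MulAut.conjNormal g : K ≃* K).surjective) (hR2.map _) ⟨r, hr, rfl⟩
  refine le_bot_iff.1 fun k hk => Subgroup.mem_bot.2 ?_
  have h5 : (k : X) ∈ R.map K.subtype := ⟨k, hRmax N hN hN2 hk, rfl⟩
  rw [hR, Subgroup.mem_bot] at h5
  exact Subtype.ext h5

theorem NoTwo.range {X Y : Type u} [Group X] [Group Y] (h2 : NoTwo X) {f : X →* Y}
    (hf : Function.Injective f) : NoTwo f.range := by
  intro N hN hN2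
  have h := h2 (N.comap f.rangeRestrict) (hN.comap _)
    (hN2.comap_of_injective _ fun a b hab => hf (congrArg Subtype.val hab))
  rw [← Subgroup.map_comap_eq_self_of_surjective f.rangeRestrict_surjective N, h, Subgroup.map_bot]

variable {X : Type u} [Group X] [Finite X] {V : Type u} [AddCommGroup V] [Module (ZMod 2) V]
variable [Finite V] {ρ : X →* (V ≃ₗ[ZMod 2] V)}

theorem card_map_mkQ {Z S : Submodule (ZMod 2) V} (h : Z ≤ S) :
    Nat.card (S.map Z.mkQ) * Nat.card Z = Nat.card S := by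
  haveI : Finite (V ⧸ Z) := Quotient.finite _
  have h1 := LinearMap.finrank_range_add_finrank_ker (Z.mkQ.comp S.subtype)
  rw [LinearMap.range_comp, Submodule.range_subtype, LinearMap.ker_comp, Submodule.ker_mkQ,
    (Submodule.comapSubtypeEquivOfLe h).finrank_eq] at h1
  rw [card_f2 (S.map Z.mkQ), card_f2 Z, card_f2 S, ← pow_add, h1]

theorem pw_top_of_no_off (inj : Function.Injective ρ) (hno : ∀ A, ¬ Off ρ A) :
    PW ρ (⊤ : Submodule (ZMod 2) V) := by
  intro D _ hsq hne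
  have hEl : El D := fun d hd =>
    inj (LinearEquiv.ext fun v => by rw [hsq d hd v Submodule.mem_top, map_one]; rfl)
  rw [fixer_top_eq_bot inj, inf_bot_eq, Subgroup.card_bot, one_mul, top_inf_eq, card_top_sub]
  by_contra hle
  exact hno D (off_iff.2 ⟨hEl, fun hb => hne (hb ▸ bot_le), not_lt.1 hle⟩)

/-- A group with a fixed vector of a Sylow subgroup generating the module has no normal
`2`-subgroup. -/
theorem noTwo_of_generated (inj : Function.Injective ρ) (S : Sylow 2 X) {v : V}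
    (hv : v ∈ fx ρ (S : Subgroup X))
    (hgen : ∀ W : Submodule (ZMod 2) V, (∀ g, ∀ w ∈ W, ρ g w ∈ W) → v ∈ W → W = ⊤) : NoTwo X := by
  intro N hN hN2
  have h1 : fx ρ N = ⊤ := by
    refine hgen _ (fun g w hw n hn => ?_)
      (fx_anti ρ (hN2.le_sylow_of_normal S) hv)
    have h := hw _ (hN.conj_mem n hn g⁻¹)
    rw [inv_inv, apply_mul, apply_mul] at h
    have h' := congrArg (ρ g) h
    rwa [apply_apply_inv] at h'
  exact le_bot_iff.1 ((le_fixer_of_le_fx ρ h1.ge).trans (fixer_top_eq_bot inj).le)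

/-- A group acting faithfully and irreducibly has no normal `2`-subgroup. -/
theorem noTwo_of_irr (inj : Function.Injective ρ)
    (irr : ∀ W : Submodule (ZMod 2) V, (∀ g, ∀ v ∈ W, ρ g v ∈ W) → W = ⊥ ∨ W = ⊤) : NoTwo X := by
  obtain ⟨S⟩ : Nonempty (Sylow 2 X) := inferInstance
  rcases eq_or_ne (⊤ : Submodule (ZMod 2) V) ⊥ with h0 | h0
  · intro N _ _
    refine le_bot_iff.1 ((le_fixer_of_le_fx ρ ?_).trans (fixer_top_eq_bot inj).le)
    rw [h0]
    exact bot_le
  · obtain ⟨v, -, hv0, hv⟩ := exists_fixed ρ S.2 h0 fun g _ => mem_stab_top g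
    exact noTwo_of_generated inj S hv fun W hW hvW =>
      (irr W hW).resolve_left fun hb => hv0 ((Submodule.mem_bot _).1 (hb ▸ hvW))

variable {A : Subgroup X} {U T : Submodule (ZMod 2) V}

/-- The configuration on the quotient by an invariant subspace of the bottom layer. -/
theorem CfgOn.quot (inj : Function.Injective ρ) (h : CfgOn ρ ⊤ A U T) {Z : Submodule (ZMod 2) V}
    (hZ : ∀ g, ∀ v ∈ Z, ρ g v ∈ Z) (hZT : Z ≤ T) :
    CfgOn (quoTop ρ Z hZ).range.subtype ⊤ (A.map (quoTop ρ Z hZ).rangeRestrict)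
      (U.map Z.mkQ) (T.map Z.mkQ) := by
  haveI : Finite (V ⧸ Z) := Quotient.finite _
  set τ := quoTop ρ Z hZ with hτ
  set r := τ.range with hr
  set π := τ.rangeRestrict with hπ
  haveI : Finite ((V ⧸ Z) ≃ₗ[ZMod 2] (V ⧸ Z)) :=
    Finite.of_injective (fun e => (e : (V ⧸ Z) → (V ⧸ Z))) DFunLike.coe_injective
  have hmem : ∀ {S : Submodule (ZMod 2) V}, Z ≤ S → ∀ {v : V}, Z.mkQ v ∈ S.map Z.mkQ ↔ v ∈ S := by
    intro S hS v
    refine ⟨fun ⟨w, hw, he⟩ => ?_, fun hv => ⟨v, hv, rfl⟩⟩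
    have h1 : w - v ∈ Z := (Submodule.Quotient.eq Z).1 he
    have h2 := S.sub_mem hw (hS h1)
    rwa [sub_sub_cancel] at h2
  have hact : ∀ (d : X) (v : V), r.subtype (π d) (Z.mkQ v) + Z.mkQ v = Z.mkQ (ρ d v + v) :=
    fun d v => rfl
  have hinjA : ∀ d ∈ A, π d = 1 → d = 1 := by
    intro d hd hd1
    obtain ⟨x, -, hx⟩ := SetLike.exists_of_lt (lt_top_iff_ne_top.2 h.U_ne_top)
    refine h.eq_one inj hx hd ?_
    have h1 := hact d x
    rw [hd1, map_one] at h1
    change Z.mkQ x + Z.mkQ x = _ at h1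
    rw [add_self] at h1
    exact hZT ((Submodule.Quotient.mk_eq_zero Z).1 h1.symm)
  have hfix : fixer r.subtype (⊤ : Submodule (ZMod 2) (V ⧸ Z)) = ⊥ :=
    fixer_top_eq_bot r.subtype_injective
  have hZU := hZT.trans h.T_le
  refine ⟨fun g _ => mem_stab_top g, ?_, ?_, le_top, ?_, Submodule.map_mono h.T_le, ?_, ?_, ?_, ?_, ?_⟩
  · rintro _ ⟨d, hd, rfl⟩ q -
    rw [← map_mul, h.el inj d hd, map_one]
    rfl
  · intro hle
    rw [hfix] at hle
    refine h.ne_bot ((Subgroup.eq_bot_iff_forall _).2 fun d hd => hinjA d hd ?_)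
    exact Subgroup.mem_bot.1 (hle ⟨d, hd, rfl⟩)
  · intro he
    refine h.U_ne_top (eq_top_iff.2 fun v _ => (hmem hZU).1 ?_)
    rw [he]; exact Submodule.mem_top
  · rintro _ ⟨v, hv, rfl⟩ _ ⟨d, hd, rfl⟩
    change Z.mkQ (ρ d v) = Z.mkQ v
    rw [h.T_fx hv d hd]
  · rintro _ ⟨d, hd, rfl⟩ q -
    obtain ⟨v, rfl⟩ := Submodule.mkQ_surjective Z q
    rw [hact]
    exact ⟨_, h.into d hd v Submodule.mem_top, rfl⟩
  · rintro _ ⟨d, hd, rfl⟩ _ ⟨v, hv, rfl⟩
    rw [hact]
    exact ⟨_, h.low d hd v hv, rfl⟩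
  · rintro q - hq _ ⟨d, hd, rfl⟩ hm
    obtain ⟨v, rfl⟩ := Submodule.mkQ_surjective Z q
    rw [hact, hmem hZT] at hm
    rw [h.eq_one inj (fun hvU => hq ⟨v, hvU, rfl⟩) hd hm, map_one]
    exact one_mem _
  · rw [hfix, inf_bot_eq, Subgroup.card_bot, one_mul]
    refine Nat.eq_of_mul_eq_mul_right (Nat.card_pos (α := Z)) ?_
    rw [mul_assoc, card_map_mkQ hZT, card_map_mkQ hZU, ← h.card_eq inj]
    congr 1
    refine Nat.card_congr (Equiv.ofBijective (fun d : A => (⟨π d, ⟨d, d.2, rfl⟩⟩ : A.map π)) ⟨?_, ?_⟩).symm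
    · intro d e hde
      have h1 : π d = π e := congrArg Subtype.val hde
      have h2 := hinjA _ (A.mul_mem (A.inv_mem d.2) e.2) (by rw [map_mul, map_inv, h1, inv_mul_cancel])
      exact Subtype.ext (inv_mul_eq_one.1 h2)
    · rintro ⟨_, d, hd, rfl⟩
      exact ⟨⟨d, hd⟩, rfl⟩

/-- A configuration fixes a good invariant subspace. -/
theorem CfgOn.fixes (inj : Function.Injective ρ) (hPW : PW ρ (⊤ : Submodule (ZMod 2) V))
    (h : CfgOn ρ ⊤ A U T) {W : Submodule (ZMod 2) V} (hW : A ≤ S3Free.stab ρ W)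
    (hno : ∀ U' T', ¬ CfgOn ρ W A U' T')
    (hlt : ¬ A ≤ fixer ρ W →
      Nat.card A * Nat.card ↥(W ⊓ fx ρ A) < Nat.card ↥(A ⊓ fixer ρ W) * Nat.card W) :
    A ≤ fixer ρ W := by
  have hWU : W ≤ U := by
    by_contra hnot
    exact hno _ _ (h.restrict inj hW hnot).1
  by_contra hne
  have h1 := hlt hne
  rw [h.fx_eq inj hPW] at h1
  have h2 := (h.facts inj hPW).delta (A ⊓ fixer ρ W) inf_le_left
  have hle : W ⊔ T ≤ U ⊓ fx ρ (A ⊓ fixer ρ W) :=
    sup_le (le_inf hWU (le_fx_of_le_fixer ρ inf_le_right))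
      (le_inf h.T_le (h.T_fx.trans (fx_anti ρ inf_le_left)))
  have h3 := (Nat.mul_le_mul_left _ (card_mono hle)).trans h2
  rw [← h.card_eq inj] at h3
  have h4 := card_sup_inf W T
  have h5 : Nat.card ↥(A ⊓ fixer ρ W) * Nat.card W * Nat.card T ≤
      Nat.card A * Nat.card ↥(W ⊓ T) * Nat.card T := by
    calc _ = Nat.card ↥(A ⊓ fixer ρ W) * Nat.card ↥(W ⊔ T) * Nat.card ↥(W ⊓ T) := by
          rw [mul_assoc, ← h4, mul_assoc]
      _ ≤ Nat.card A * Nat.card T * Nat.card ↥(W ⊓ T) := Nat.mul_le_mul_right _ h3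
      _ = _ := by ring
  exact absurd (Nat.le_of_mul_le_mul_right h5 Nat.card_pos) (not_le.2 h1)

/-- No offenders and no configurations on the translates under a proper subgroup. -/
theorem local_trans {n : ℕ} (hn : CBelow.{u} n) (h3 : NoS3 X)
    (hlt : Nat.card X + finrank (ZMod 2) V ≤ n) {K : Subgroup X} (hK : K ≠ ⊤) (P : Sylow 2 K)
    {c : Submodule (ZMod 2) V} (hP : (P : Subgroup K).map K.subtype ≤ stab ρ c) (hPW : PW ρ c)
    (hNo : NoCfg ρ c) :
    ∀ D : Subgroup X, D ≤ K →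
      ((∀ d ∈ D, ∀ u ∈ transSpan ρ K c, ρ (d * d) u = u) → ¬ D ≤ fixer ρ (transSpan ρ K c) →
        Nat.card D * Nat.card ↥(transSpan ρ K c ⊓ fx ρ D) <
          Nat.card ↥(D ⊓ fixer ρ (transSpan ρ K c)) * Nat.card ↥(transSpan ρ K c)) ∧
      ∀ U' T', ¬ CfgOn ρ (transSpan ρ K c) D U' T' := by
  set U := transSpan ρ K c with hU
  have hKU : K ≤ stab ρ U := le_stab_transSpan K c
  haveI : Finite (U ≃ₗ[ZMod 2] U) := Finite.of_injective (fun e => (e : U → U)) DFunLike.coe_injective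
  set r := res ρ K U hKU with hr
  have hc := compat_res K U hKU
  have hmap : (c.comap U.subtype).map U.subtype = c :=
    Submodule.map_comap_eq_self (by rw [Submodule.range_subtype]; exact le_transSpan K c)
  have hS' : ((P.mapSurjective r.rangeRestrict_surjective : Sylow 2 r.range) : Subgroup r.range) ≤
      stab r.range.subtype (c.comap U.subtype) := by
    rw [Sylow.coe_mapSurjective]
    rintro _ ⟨s, hs, rfl⟩
    rw [hc.mem_stab, hmap]
    exact hP ⟨s, hs, rfl⟩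
  have hgenU : ∀ U' : Submodule (ZMod 2) U, (∀ g : r.range, ∀ v ∈ U', r.range.subtype g v ∈ U') →
      c.comap U.subtype ≤ U' → U' = ⊤ := fun U' hU' hle => by
    refine eq_top_iff.2 fun x _ => ?_
    have hst : K ≤ stab ρ (U'.map U.subtype) := fun k hk => mem_stab_of_mem ρ (by
      rintro _ ⟨v, hv, rfl⟩
      exact ⟨r ⟨k, hk⟩ v, hU' ⟨r ⟨k, hk⟩, ⟨_, rfl⟩⟩ v hv, rfl⟩)
    have hle' : U ≤ U'.map U.subtype := transSpan_le hst (hmap.ge.trans (Submodule.map_mono hle))
    obtain ⟨w, hw, hwx⟩ := hle' x.2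
    rwa [← Subtype.ext hwx]
  have h3' := (h3.subgroup K).surj r.rangeRestrict_surjective
  have hPW' : PW r.range.subtype (c.comap U.subtype) := hc.pw (by rwa [hmap])
  have hNo' : NoCfg r.range.subtype (c.comap U.subtype) := hc.noCfg (by rwa [hmap])
  have hno := no_off Subtype.val_injective h3' hS' hgenU hPW'
  have hcfg := hn r.range U r.range.subtype (by
      have := Nat.card_le_card_of_surjective _ r.rangeRestrict_surjective
      have := card_lt_of_ne_top hK
      have := Submodule.finrank_le U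
      omega) Subtype.val_injective h3' _ _ hS' hgenU hPW' hNo'
  intro D hD
  refine ⟨fun hsq hne => ?_, fun U' T' h => ?_⟩
  · have h1 := hc.pw_of_no_off Subtype.val_injective hno hD
      (by rwa [Submodule.range_subtype]) (by rwa [Submodule.range_subtype])
    rwa [Submodule.range_subtype] at h1
  · rw [← Submodule.range_subtype U] at h
    exact hc.noCfg_of_top hcfg hD U' T' h

/-- The core case inside a proper subgroup. -/
theorem false_of_proper {n : ℕ} (hn : CBelow.{u} n) (h3 : NoS3 X)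
    (hlt : Nat.card X + finrank (ZMod 2) V ≤ n) (inj : Function.Injective ρ)
    (hPW : PW ρ (⊤ : Submodule (ZMod 2) V)) (h : CfgOn ρ ⊤ A U T) {L : Subgroup X} (hL : L ≠ ⊤)
    (hAL : A ≤ L) {c : Submodule (ZMod 2) V} (hPWc : PW ρ c) (hNo : NoCfg ρ c)
    (hsub : ∀ K, A ≤ K → K ≤ L → K ≠ L → K ≤ stab ρ c)
    (hbad : ∃ l ∈ L, ¬ S3Free.cjS l A ≤ stab ρ c) (hL2 : ¬ IsPGroup 2 L) : False := by
  have hEl := h.el inj
  obtain ⟨P, hP⟩ := (hEl.isPGroup.comap_of_injective L.subtype L.subtype_injective :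
    IsPGroup 2 (A.subgroupOf L)).exists_le_sylow
  have hPc : (P : Subgroup L).map L.subtype ≤ stab ρ c := by
    refine hsub _ (fun a ha => ⟨⟨a, hAL ha⟩, hP ha, rfl⟩) (Subgroup.map_subtype_le _) fun he => ?_
    exact hL2 (he ▸ (P.2.map L.subtype))
  obtain ⟨h1, h2⟩ := local_trans hn h3 hlt hL P hPc hPWc hNo A hAL
  have hKU := le_stab_transSpan (ρ := ρ) L c
  have hAU := h.fixes inj hPW (hAL.trans hKU) h2
    (h1 fun d hd u _ => h.sq d hd u Submodule.mem_top)
  obtain ⟨l, hl, hbad⟩ := hbad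
  refine hbad fun y hy => ?_
  have h1 := hAU (mem_cjS.1 hy)
  refine fixer_le_stab ρ c fun u hu => ?_
  have h2 : ρ l⁻¹ u ∈ transSpan ρ L c :=
    apply_mem_of_stab ρ (hKU (L.inv_mem hl)) (le_transSpan L c hu)
  have h3 := congrArg (ρ l) (h1 _ h2)
  rw [apply_apply_inv, ← apply_mul, ← apply_mul] at h3
  simpa [mul_assoc] using h3

end Cfsg.Agent.SFW
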