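/-
No configurations: the joint induction.
-/
import Cfsg.Agent.Lib.S3Free.Closure.CfgStep
import Cfsg.Agent.Lib.S3Free.Closure.CfgIrr

set_option autoImplicit false
set_option linter.unusedSectionVars false
set_option linter.style.haveILetI false
set_option maxHeartbeats 1000000

namespace Cfsg.Agent.SFW

open Module Cfsg.Agent.S3Free

universe u

/-- The subgroups carrying a configuration on the whole module. -/
def IsCfg {X : Type u} [Group X] {V : Type u} [AddCommGroup V] [Module (ZMod 2) V]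
    (ρ : X →* (V ≃ₗ[ZMod 2] V)) (A : Subgroup X) : Prop :=
  ∃ U T, CfgOn ρ ⊤ A U T

variable {X : Type u} [Group X] [Finite X] {V : Type u} [AddCommGroup V] [Module (ZMod 2) V]
variable [Finite V] {ρ : X →* (V ≃ₗ[ZMod 2] V)}

theorem IsCfg.cjS {A : Subgroup X} (h : IsCfg ρ A) (g : X) : IsCfg ρ (S3Free.cjS g A) := by
  obtain ⟨U, T, hC⟩ := h
  have h1 := hC.map g
  rw [map_stab_top] at h1
  exact ⟨_, _, h1⟩

/-- No configurations on an irreducible module. -/
theorem noCfg_irreducible {n : ℕ} (hB : BBelow.{u} n) (hC : CBelow.{u} n) (h3 : NoS3 X)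
    (hlt : Nat.card X + finrank (ZMod 2) V ≤ n) (inj : Function.Injective ρ)
    (irr : ∀ W : Submodule (ZMod 2) V, (∀ g, ∀ v ∈ W, ρ g v ∈ W) → W = ⊥ ∨ W = ⊤) :
    NoCfg ρ (⊤ : Submodule (ZMod 2) V) := by
  classical
  intro A₀ U₀ T₀ h₀
  have hPW : PW ρ (⊤ : Submodule (ZMod 2) V) :=
    pw_top_of_no_off inj (no_offender ρ inj (noTwo_of_irr inj irr) h3)
  obtain ⟨S, hAS⟩ := (h₀.el inj).isPGroup.exists_le_sylow
  set E := genIn (IsCfg ρ) (S : Subgroup X) with hE
  have hAE : A₀ ≤ E := le_genIn ⟨U₀, T₀, h₀⟩ hAS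
  have hE2 : IsPGroup 2 E := S.2.to_le (genIn_le _ _)
  have hEne : E ≠ ⊥ := fun h => h₀.ne_bot (le_bot_iff.1 (hAE.trans h.le))
  have hNfx : ∀ g ∈ Subgroup.normalizer (E : Set X), ∀ v ∈ fx ρ E, ρ g v ∈ fx ρ E := by
    intro g hg v hv e he
    have h1 := hv _ ((Subgroup.mem_normalizer_iff''.1 hg e).1 he)
    rw [apply_mul, apply_mul] at h1
    have h2 := congrArg (ρ g) h1
    rwa [apply_apply_inv] at h2
  have hfE : ∃ W : Submodule (ZMod 2) V, W ≤ fx ρ E ∧ W ≠ ⊥ ∧
      Subgroup.normalizer (E : Set X) ≤ stab ρ W := by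
    refine ⟨fx ρ E, le_rfl, fun hb => ?_, fun g hg => mem_stab_of_mem ρ (hNfx g hg)⟩
    have hV : (⊤ : Submodule (ZMod 2) V) ≠ ⊥ := fun h =>
      h₀.U_ne_top (le_antisymm le_top (h.le.trans bot_le))
    obtain ⟨v, -, hv0, hvf⟩ := exists_fixed ρ hE2 hV fun g _ => mem_stab_top g
    rw [hb, Submodule.mem_bot] at hvf
    exact hv0 hvf
  obtain ⟨W, ⟨hWle, hW0, hNW⟩, hWmin⟩ := Set.Finite.exists_minimal
    (Set.toFinite {W : Submodule (ZMod 2) V | W ≤ fx ρ E ∧ W ≠ ⊥ ∧
      Subgroup.normalizer (E : Set X) ≤ stab ρ W}) hfE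
  have hWt : W ≠ ⊤ := fun h => hEne ((Subgroup.eq_bot_iff_forall _).2 fun e he =>
    inj (LinearEquiv.ext fun v => by
      rw [(hWle (h ▸ Submodule.mem_top : v ∈ W)) e he, map_one]; rfl))
  have hS : (S : Subgroup X) ≤ stab ρ W := le_trans
    (fun s hs => genIn_normalized (fun A g hA => hA.cjS g) (Subgroup.le_normalizer hs)) hNW
  -- the action on `W`
  haveI : Finite (W ≃ₗ[ZMod 2] W) := Finite.of_injective (fun e => (e : W → W)) DFunLike.coe_injective
  set r := res ρ (stab ρ W) W le_rfl with hr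
  have hc := compat_res (stab ρ W) W le_rfl
  have hirrW : ∀ Y : Submodule (ZMod 2) W, (∀ g : r.range, ∀ v ∈ Y, r.range.subtype g v ∈ Y) →
      Y = ⊥ ∨ Y = ⊤ := by
    intro Y hY
    refine or_iff_not_imp_left.2 fun hY0 => ?_
    have hst : stab ρ W ≤ stab ρ (Y.map W.subtype) := fun k hk => mem_stab_of_mem ρ (by
      rintro _ ⟨v, hv, rfl⟩
      exact ⟨r ⟨k, hk⟩ v, hY ⟨r ⟨k, hk⟩, ⟨_, rfl⟩⟩ v hv, rfl⟩)
    have hle : W ≤ Y.map W.subtype := hWmin ⟨(Submodule.map_subtype_le W Y).trans hWle,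
      fun h => hY0 (Submodule.map_injective_of_injective Subtype.val_injective (h.trans (Submodule.map_bot _).symm)), hNW.trans hst⟩
      (Submodule.map_subtype_le W Y)
    refine eq_top_iff.2 fun x _ => ?_
    obtain ⟨w, hw, hwx⟩ := hle x.2
    rwa [← Subtype.ext hwx]
  have h2r : NoTwo r.range := noTwo_of_irr Subtype.val_injective hirrW
  have h3r : NoS3 r.range := (h3.subgroup _).surj r.rangeRestrict_surjective
  have hnoW := no_offender r.range.subtype Subtype.val_injective h2r h3r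
  have hcfgW : NoCfg r.range.subtype (⊤ : Submodule (ZMod 2) W) :=
    hB r.range W r.range.subtype (by
      have := Nat.card_le_card_of_surjective _ r.rangeRestrict_surjective
      have := Subgroup.card_le_card_group (stab ρ W)
      have := Submodule.finrank_lt hWt
      omega) Subtype.val_injective h3r h2r
  have hPWW : PW ρ W := by
    intro D hD hsq hne
    have h1 := hc.pw_of_no_off Subtype.val_injective hnoW hD
      (by rwa [Submodule.range_subtype]) (by rwa [Submodule.range_subtype])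
    rwa [Submodule.range_subtype] at h1
  have hNoW : NoCfg ρ W := fun D U T h => by
    have h' := h
    rw [← Submodule.range_subtype W] at h'
    exact hc.noCfg_of_top hcfgW h.stab U T h'
  refine engine (T := IsCfg ρ) (fun A hA => (hA.choose_spec.choose_spec.el inj).isPGroup)
    (fun A g hA => hA.cjS g) (fun A hA => hA.choose_spec.choose_spec.moves) hS (fun _ => hNW)
    (fun U hU hle => (irr U hU).resolve_left fun hb => hW0 (le_bot_iff.1 (hle.trans hb.le)))
    (fun A hA hAW => ?_) (fun A L c hA hAL hc' hfix hsub hsub' _ hbad hL2 => ?_) A₀ ⟨U₀, T₀, h₀⟩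
  · obtain ⟨U, T, h⟩ := hA
    exact h.fixes inj hPW hAW (fun U' T' => hNoW A U' T')
      fun hne => hPWW A hAW (fun d hd u _ => h.sq d hd u Submodule.mem_top) hne
  · obtain ⟨U, T, h⟩ := hA
    obtain ⟨g, rfl⟩ := hc'
    by_cases hL : L = ⊤
    · subst hL
      have hcrit : Crit ρ A U T (W.map (ρ g).toLinearMap) :=
        ⟨inj, hPW, h, hfix, fun K hK hKt => hsub K hK le_top hKt,
          fun x hx => hsub' x (Subgroup.mem_top x) hx, hNoW.map g,
          fun Y hY hle => (irr Y hY).resolve_left fun hb => hW0 ?_,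
          fun h2 => hL2 (h2.to_subgroup _)⟩
      · exact hcrit.irr_false irr h3
      · have h1 := le_bot_iff.1 (hle.trans hb.le)
        exact (Submodule.map_eq_bot_iff).1 h1
    · exact false_of_proper hC h3 hlt inj hPW h hL hAL (hPWW.map g) (hNoW.map g) hsub hbad hL2

theorem bBelow_succ {n : ℕ} (hB : BBelow.{u} n) (hC : CBelow.{u} n) : BBelow.{u} (n + 1) := by
  intro X _ _ V _ _ _ ρ hlt inj h3 h2 A U T h
  classical
  have hlt' : Nat.card X + finrank (ZMod 2) V ≤ n := by omega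
  -- the members generate
  set K := genIn (IsCfg ρ) (⊤ : Subgroup X) with hKdef
  have hAK : A ≤ K := le_genIn ⟨U, T, h⟩ le_top
  have hKn : K.Normal := Subgroup.normalizer_eq_top_iff.1 (eq_top_iff.2 fun g _ =>
    genIn_normalized (fun A g hA => hA.cjS g) (mem_normalizer_iff_cjS.2 (eq_top_iff.2 fun y _ =>
      mem_cjS.2 (Subgroup.mem_top _))))
  haveI := hKn
  by_cases hKt : K = ⊤
  swap
  · have hc : Compat (MonoidHom.id K) (LinearMap.id : V →ₗ[ZMod 2] V) ρ (ρ.comp K.subtype) :=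
      ⟨fun k => ⟨k, rfl⟩, fun _ _ h => h, fun _ _ => rfl⟩
    have hno := hB K V (ρ.comp K.subtype) (by
      have := card_lt_of_ne_top hKt
      omega) (inj.comp K.subtype_injective) (h3.subgroup K) (NoTwo.normal h2 K)
    refine hno (imY (MonoidHom.id K) A) U T ((hc.cfgOn_iff hAK ⊤ U T).2 ?_)
    simpa using h
  by_cases hirr : ∀ W : Submodule (ZMod 2) V, (∀ g, ∀ v ∈ W, ρ g v ∈ W) → W = ⊥ ∨ W = ⊤
  · exact noCfg_irreducible hB hC h3 hlt' inj hirr A U T h
  push Not at hirr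
  obtain ⟨Y₁, hY₁, hY₁0, hY₁t⟩ := hirr
  haveI : Finite (Submodule (ZMod 2) V) := inferInstance
  obtain ⟨Y, ⟨hY, hY0, hYt⟩, hYmin⟩ := Set.Finite.exists_minimal
    (Set.toFinite {Y : Submodule (ZMod 2) V | (∀ g, ∀ v ∈ Y, ρ g v ∈ Y) ∧ Y ≠ ⊥ ∧ Y ≠ ⊤})
    ⟨Y₁, hY₁, hY₁0, hY₁t⟩
  have hPW : PW ρ (⊤ : Submodule (ZMod 2) V) := pw_top_of_no_off inj (no_offender ρ inj h2 h3)
  have hst : (⊤ : Subgroup X) ≤ stab ρ Y := fun g _ => mem_stab_of_mem ρ (hY g)
  haveI : Finite (Y ≃ₗ[ZMod 2] Y) := Finite.of_injective (fun e => (e : Y → Y)) DFunLike.coe_injective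
  set r := res ρ ⊤ Y hst with hr
  have hc := compat_res ⊤ Y hst
  have hirrY : ∀ W : Submodule (ZMod 2) Y, (∀ g : r.range, ∀ v ∈ W, r.range.subtype g v ∈ W) →
      W = ⊥ ∨ W = ⊤ := by
    intro W hW
    refine or_iff_not_imp_left.2 fun hW0 => ?_
    have hle : Y ≤ W.map Y.subtype := hYmin ⟨fun g v hv => by
        obtain ⟨w, hw, rfl⟩ := hv
        exact ⟨r ⟨g, Subgroup.mem_top g⟩ w, hW ⟨_, ⟨_, rfl⟩⟩ w hw, rfl⟩,
      fun h => hW0 (Submodule.map_injective_of_injective Subtype.val_injective (h.trans (Submodule.map_bot _).symm)),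
      fun h => hYt (top_le_iff.1 (h ▸ Submodule.map_subtype_le Y W))⟩ (Submodule.map_subtype_le Y W)
    refine eq_top_iff.2 fun x _ => ?_
    obtain ⟨w, hw, hwx⟩ := hle x.2
    rwa [← Subtype.ext hwx]
  have h2r : NoTwo r.range := noTwo_of_irr Subtype.val_injective hirrY
  have h3r : NoS3 r.range := (h3.subgroup _).surj r.rangeRestrict_surjective
  have hnoY := no_offender r.range.subtype Subtype.val_injective h2r h3r
  have hcfgY : NoCfg r.range.subtype (⊤ : Submodule (ZMod 2) Y) :=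
    hB r.range Y r.range.subtype (by
      have := Nat.card_le_card_of_surjective _ r.rangeRestrict_surjective
      have := Subgroup.card_le_card_group (⊤ : Subgroup X)
      have := Submodule.finrank_lt hYt
      omega) Subtype.val_injective h3r h2r
  have hfix : K ≤ fixer ρ Y := by
    refine sSup_le fun B hB' => ?_
    obtain ⟨U', T', h'⟩ := hB'.1
    refine h'.fixes inj hPW (le_top.trans hst) (fun U'' T'' h'' => ?_) fun hne => ?_
    · rw [← Submodule.range_subtype Y] at h''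
      exact hc.noCfg_of_top hcfgY le_top U'' T'' h''
    · have h1 := hc.pw_of_no_off Subtype.val_injective hnoY (le_top : B ≤ ⊤)
        (fun d hd u _ => h'.sq d hd u Submodule.mem_top) (by rwa [Submodule.range_subtype])
      rwa [Submodule.range_subtype] at h1
  rw [hKt] at hfix
  have hYT : Y ≤ T := by
    rw [← h.fx_eq inj hPW]
    exact le_fx_of_le_fixer ρ (le_top.trans hfix)
  haveI : Finite (V ⧸ Y) := Quotient.finite _
  haveI : Finite ((V ⧸ Y) ≃ₗ[ZMod 2] (V ⧸ Y)) :=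
    Finite.of_injective (fun e => (e : (V ⧸ Y) → (V ⧸ Y))) DFunLike.coe_injective
  set τ := quoTop ρ Y hY with hτ
  have hτinj : Function.Injective τ := by
    refine (injective_iff_map_eq_one τ).2 fun k hk => ?_
    set N : Subgroup X := secKer ρ Y ⊤ hY (fun g v _ => Submodule.mem_top) with hN
    have hN2 : IsPGroup 2 N := fun x => ⟨1, Subtype.ext (inj (LinearEquiv.ext fun v => by
      rw [pow_one, pow_two, Subgroup.coe_mul, apply_mul, Subgroup.coe_one, map_one]
      change _ = v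
      have h1 := hfix (Subgroup.mem_top (x : X)) _ (x.2 v Submodule.mem_top)
      rw [map_add] at h1
      rw [← add_left_inj (ρ (x : X) v), h1, add_comm]))⟩
    have hkN : k ∈ N := fun v _ => by
      have h1 := LinearEquiv.congr_fun hk (Submodule.Quotient.mk v)
      rw [hτ, quoTop_mk] at h1
      have h1' : (Submodule.Quotient.mk (ρ k v) : V ⧸ Y) = Submodule.Quotient.mk v := h1
      rw [Submodule.Quotient.eq, sub_eq_add] at h1'
      exact h1'
    rw [h2 N (secKer_normal _ _ _ _ _) hN2, Subgroup.mem_bot] at hkN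
    exact hkN
  refine hB τ.range (V ⧸ Y) τ.range.subtype ?_ Subtype.val_injective
    (h3.surj τ.rangeRestrict_surjective) (NoTwo.range h2 hτinj) _ _ _ (h.quot inj hY hYT)
  have := Nat.card_le_card_of_surjective _ τ.rangeRestrict_surjective
  have := Y.finrank_quotient_add_finrank
  have := Submodule.one_le_finrank_iff.2 hY0
  omega

theorem cBelow_succ {n : ℕ} (hB : BBelow.{u} (n + 1)) (hC : CBelow.{u} n) : CBelow.{u} (n + 1) := by
  intro X _ _ V _ _ _ ρ hlt inj h3 S W₀ hS₀ hgen₀ hPW₀ hNo₀ A₀ U₀ T₀ h₀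
  classical
  have hlt' : Nat.card X + finrank (ZMod 2) V ≤ n := by omega
  haveI : Finite (Submodule (ZMod 2) V) := inferInstance
  obtain ⟨W, ⟨hW₀, hS, hPWW, hNoW⟩, hWmax⟩ := Set.Finite.exists_maximal
    (Set.toFinite {U : Submodule (ZMod 2) V |
      W₀ ≤ U ∧ (S : Subgroup X) ≤ stab ρ U ∧ PW ρ U ∧ NoCfg ρ U})
    ⟨W₀, le_rfl, hS₀, hPW₀, hNo₀⟩
  have hgen : ∀ U : Submodule (ZMod 2) V, (∀ g, ∀ v ∈ U, ρ g v ∈ U) → W ≤ U → U = ⊤ :=
    fun U hU hle => hgen₀ U hU (hW₀.trans hle)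
  have hPW : PW ρ (⊤ : Submodule (ZMod 2) V) := pw_top_of_no_off inj (no_off inj h3 hS hgen hPWW)
  have hmax : ∀ K : Subgroup X, (S : Subgroup X) ≤ K → K ≠ ⊤ → K ≤ stab ρ W := by
    intro K hSK hK
    have hloc := local_trans hC h3 hlt' hK (S.subtype hSK) (c := W) (by
      rw [Sylow.coe_subtype, Subgroup.subgroupOf_map_subtype]
      exact inf_le_left.trans hS) hPWW hNoW
    set U := transSpan ρ K W with hU
    have hKU : K ≤ stab ρ U := le_stab_transSpan K W
    have hWU : W ≤ U := le_transSpan K W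
    have hPWU : PW ρ U := PW.of_sylow (hSK.trans hKU) fun D hD hsq hne =>
      (hloc D (hD.trans hSK)).1 hsq hne
    have hNoU : NoCfg ρ U := NoCfg.of_sylow (hSK.trans hKU) fun D U' T' hD =>
      (hloc D (hD.trans hSK)).2 U' T'
    have hUW : U ≤ W := hWmax ⟨hW₀.trans hWU, hSK.trans hKU, hPWU, hNoU⟩ hWU
    rw [le_antisymm hWU hUW]
    exact hKU
  refine engine (T := IsCfg ρ) (fun A hA => (hA.choose_spec.choose_spec.el inj).isPGroup)
    (fun A g hA => hA.cjS g) (fun A hA => hA.choose_spec.choose_spec.moves) hS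
    (fun hne => hmax _ (fun s hs => genIn_normalized (fun A g hA => hA.cjS g)
      (Subgroup.le_normalizer hs)) hne) hgen
    (fun A hA hAW => ?_) (fun A L c hA hAL hc' hfix hsub hsub' _ hbad hL2 => ?_) A₀ ⟨U₀, T₀, h₀⟩
  · obtain ⟨U, T, h⟩ := hA
    exact h.fixes inj hPW hAW (fun U' T' => hNoW A U' T')
      fun hne => hPWW A hAW (fun d hd u _ => h.sq d hd u Submodule.mem_top) hne
  obtain ⟨U, T, h⟩ := hA
  obtain ⟨g₀, rfl⟩ := hc'
  by_cases hL : L = ⊤
  swap
  · exact false_of_proper hC h3 hlt' inj hPW h hL hAL (hPWW.map g₀) (hNoW.map g₀) hsub hbad hL2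
  subst hL
  set c := W.map (ρ g₀).toLinearMap with hcdef
  have hcrit : Crit ρ A U T c :=
    ⟨inj, hPW, h, hfix, fun K hK hKt => hsub K hK le_top hKt,
      fun x hx => hsub' x (Subgroup.mem_top x) hx, hNoW.map g₀,
      fun Y hY hle => hgen Y hY fun w hw => by
        have h1 := hY g₀⁻¹ _ (hle ⟨w, hw, rfl⟩)
        change ρ g₀⁻¹ (ρ g₀ w) ∈ Y at h1
        rwa [apply_inv_apply] at h1,
      fun h2 => hL2 (h2.to_subgroup _)⟩
  set Z := fx ρ (⊤ : Subgroup X) with hZdef
  have hZi : ∀ g, ∀ v ∈ Z, ρ g v ∈ Z := fun g v hv => by rwa [hv g (Subgroup.mem_top g)]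
  obtain ⟨P, hP⟩ := (h.el inj).isPGroup.exists_le_sylow
  have hPc : (P : Subgroup X) ≤ stab ρ c := hcrit.sub _ hP fun he =>
    hcrit.not2 ((he ▸ P.2 : IsPGroup 2 (⊤ : Subgroup X)).of_equiv Subgroup.topEquiv)
  have hPZ : (P : Subgroup X) ≤ stab ρ Z := fun p _ => mem_stab_of_mem ρ (hZi p)
  obtain ⟨v, hvc, hvZ', hvP⟩ := exists_fixed_mod ρ P.2 (T := Z ⊓ c) (S := c)
    (lt_of_le_of_ne inf_le_right fun he => hcrit.not_le_fxTop (inf_eq_right.1 he))
    (fun p hp => mem_stab_of_mem ρ fun w hw => ⟨hZi p w hw.1, apply_mem_of_stab ρ (hPc hp) hw.2⟩) hPc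
  have hvZ : v ∉ Z := fun hv => hvZ' ⟨hv, hvc⟩
  set F := transSpan ρ (⊤ : Subgroup X) (Submodule.span (ZMod 2) {v} ⊔ Z) with hF
  have hFst : (⊤ : Subgroup X) ≤ stab ρ F := le_stab_transSpan _ _
  have hvF : v ∈ F :=
    le_transSpan _ _ (Submodule.mem_sup_left (Submodule.mem_span_singleton_self v))
  have hZF : Z ≤ F := le_sup_right.trans (le_transSpan _ _)
  -- `F` is not contained in the middle layer
  obtain ⟨g, hg⟩ := hcrit.exists_out
  have hFU : ¬ F ≤ U := by
    intro hle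
    have h1 : ρ g v ∈ T.map (ρ g).toLinearMap ⊓ U :=
      ⟨⟨v, hcrit.c_le_T hvc, rfl⟩, hle (apply_mem_of_stab ρ (hFst (Subgroup.mem_top g)) hvF)⟩
    have h2 := hZi g⁻¹ _ ((hcrit.free hg).2 h1)
    rw [apply_inv_apply] at h2
    exact hvZ h2
  have hAF : A ≤ stab ρ F := le_top.trans hFst
  have hres := (h.restrict inj hAF hFU).1
  haveI : Finite (F ≃ₗ[ZMod 2] F) := Finite.of_injective (fun e => (e : F → F)) DFunLike.coe_injective
  set r := res ρ ⊤ F hFst with hr
  have hc := compat_res ⊤ F hFst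
  set U₁ := (F ⊓ U).comap F.subtype with hU₁
  set T₁ := (F ⊓ T).comap F.subtype with hT₁
  set A₁ := imY r.rangeRestrict A with hA₁
  have hcfg₁ : CfgOn r.range.subtype (⊤ : Submodule (ZMod 2) F) A₁ U₁ T₁ := by
    refine (hc.cfgOn_iff le_top ⊤ U₁ T₁).2 ?_
    rw [Submodule.map_top, Submodule.range_subtype, hU₁, hT₁,
      Submodule.map_comap_eq_self (by rw [Submodule.range_subtype]; exact inf_le_left),
      Submodule.map_comap_eq_self (by rw [Submodule.range_subtype]; exact inf_le_left)]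
    exact hres
  set Z₁ := Z.comap F.subtype with hZ₁
  have hZ₁i : ∀ k : r.range, ∀ w ∈ Z₁, r.range.subtype k w ∈ Z₁ := by
    rintro ⟨_, ⟨k, rfl⟩⟩ w hw
    exact hZi (k : X) _ hw
  have hZ₁T : Z₁ ≤ T₁ := fun w hw => ⟨w.2, hcrit.fxTop_le hw⟩
  haveI : Finite (F ⧸ Z₁) := Quotient.finite _
  haveI : Finite ((F ⧸ Z₁) ≃ₗ[ZMod 2] (F ⧸ Z₁)) :=
    Finite.of_injective (fun e => (e : (F ⧸ Z₁) → (F ⧸ Z₁))) DFunLike.coe_injective
  set τ := quoTop r.range.subtype Z₁ hZ₁i with hτ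
  set π : X →* τ.range := τ.rangeRestrict.comp
    (r.rangeRestrict.comp (Subgroup.topEquiv (G := X)).symm.toMonoidHom) with hπ
  have hπs : Function.Surjective π := τ.rangeRestrict_surjective.comp
    (r.rangeRestrict_surjective.comp (Subgroup.topEquiv (G := X)).symm.surjective)
  have hact : ∀ (x : X) (w : F), τ.range.subtype (π x) (Z₁.mkQ w) =
      Z₁.mkQ (r ⟨x, Subgroup.mem_top x⟩ w) := fun x w => rfl
  have h2τ : NoTwo τ.range := by
    refine noTwo_of_generated (ρ := τ.range.subtype) Subtype.val_injective (P.mapSurjective hπs)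
      (v := Z₁.mkQ ⟨v, hvF⟩) ?_ fun Y hY hvY => ?_
    · rw [Sylow.coe_mapSurjective]
      rintro _ ⟨p, hp, rfl⟩
      rw [hact]
      refine (Submodule.Quotient.eq Z₁).2 ?_
      change ρ p v - v ∈ Z
      rw [sub_eq_add]
      exact (hvP p hp).1
    · set Y' := (Y.comap Z₁.mkQ).map F.subtype with hY'
      have hY'st : (⊤ : Subgroup X) ≤ stab ρ Y' := fun x _ => mem_stab_of_mem ρ (by
        rintro _ ⟨w, hw, rfl⟩
        refine ⟨r ⟨x, Subgroup.mem_top x⟩ w, ?_, rfl⟩
        have h1 := hY (π x) _ hw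
        rwa [hact] at h1)
      have hle : F ≤ Y' := transSpan_le hY'st (sup_le
        ((Submodule.span_singleton_le_iff_mem _ _).2 ⟨⟨v, hvF⟩, hvY, rfl⟩) fun z hz =>
          ⟨⟨z, hZF hz⟩, by
            change Z₁.mkQ ⟨z, hZF hz⟩ ∈ Y
            rw [Submodule.mkQ_apply, (Submodule.Quotient.mk_eq_zero Z₁).2 (show z ∈ Z from hz)]
            exact Y.zero_mem, rfl⟩)
      refine eq_top_iff.2 fun q _ => ?_
      obtain ⟨w, rfl⟩ := Submodule.mkQ_surjective Z₁ q
      obtain ⟨w', hw', he⟩ := hle w.2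
      rw [← Subtype.ext he]
      exact hw'
  refine hB τ.range (F ⧸ Z₁) τ.range.subtype ?_ Subtype.val_injective
    (h3.surj hπs) h2τ _ _ _ (hcfg₁.quot Subtype.val_injective hZ₁i hZ₁T)
  have := Nat.card_le_card_of_surjective _ hπs
  have := Z₁.finrank_quotient_add_finrank
  have := Submodule.finrank_le F
  omega

theorem bBelow_cBelow : ∀ n, BBelow.{u} n ∧ CBelow.{u} n := by
  intro n
  induction n with
  | zero =>
    exact ⟨fun _ _ _ _ _ _ _ _ h => absurd h (Nat.not_lt_zero _),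
      fun _ _ _ _ _ _ _ _ h => absurd h (Nat.not_lt_zero _)⟩
  | succ n ih => exact ⟨bBelow_succ ih.1 ih.2, cBelow_succ (bBelow_succ ih.1 ih.2) ih.2⟩

/-- **No configurations on faithful modules.** -/
theorem no_cfg {X : Type u} [Group X] [Finite X] {V : Type u} [AddCommGroup V] [Module (ZMod 2) V]
    [Finite V] {ρ : X →* (V ≃ₗ[ZMod 2] V)} (inj : Function.Injective ρ) (h2 : NoTwo X) (h3 : NoS3 X) :
    NoCfg ρ (⊤ : Submodule (ZMod 2) V) :=
  (bBelow_cBelow (Nat.card X + finrank (ZMod 2) V + 1)).1 X V ρ (Nat.lt_succ_self _) inj h3 h2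

/-- **No configurations on modules spanned by a good subspace.** -/
theorem noCfg_of_spans {X : Type u} [Group X] [Finite X] {V : Type u} [AddCommGroup V]
    [Module (ZMod 2) V] [Finite V] {ρ : X →* (V ≃ₗ[ZMod 2] V)} (inj : Function.Injective ρ)
    (h3 : NoS3 X) {S : Sylow 2 X} {W : Submodule (ZMod 2) V} (hS : (S : Subgroup X) ≤ stab ρ W)
    (hgen : ∀ U : Submodule (ZMod 2) V, (∀ g, ∀ v ∈ U, ρ g v ∈ U) → W ≤ U → U = ⊤)
    (hPW : PW ρ W) (hNo : NoCfg ρ W) : NoCfg ρ (⊤ : Submodule (ZMod 2) V) :=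
  (bBelow_cBelow (Nat.card X + finrank (ZMod 2) V + 1)).2 X V ρ (Nat.lt_succ_self _) inj h3 S W hS
    hgen hPW hNo

end Cfsg.Agent.SFW
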