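/-
Good subgroups on invariant subspaces.
-/
import Cfsg.Agent.Lib.S3Free.Closure.Step

set_option autoImplicit false
set_option linter.unusedSectionVars false
set_option linter.style.haveILetI false
set_option maxHeartbeats 1000000

namespace Cfsg.Agent.SFW

open Module Cfsg.Agent.S3Free

universe u

variable {X : Type u} [Group X] [Finite X] {V : Type u} [AddCommGroup V] [Module (ZMod 2) V]
variable [Finite V] {ρ : X →* (V ≃ₗ[ZMod 2] V)}

theorem fixer_top_card (inj : Function.Injective ρ) (A : Subgroup X) :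
    Nat.card ↥(A ⊓ fixer ρ (⊤ : Submodule (ZMod 2) V)) = 1 := by
  rw [fixer_top_eq_bot inj, inf_bot_eq, Subgroup.card_bot]

/-- The basic inequality of a good subgroup for a faithful action. -/
theorem GoodOn.card_le {A : Subgroup X} {U₁ : Submodule (ZMod 2) V} (inj : Function.Injective ρ)
    (h : GoodOn ρ ⊤ A U₁) : Nat.card V ≤ 2 * Nat.card A * Nat.card (fx ρ A) := by
  have h1 := h.le
  rwa [fixer_top_card inj, one_mul, card_top_sub, top_inf_eq] at h1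

theorem GoodOn.fx_le {A : Subgroup X} {U₁ : Submodule (ZMod 2) V}
    (h : GoodOn ρ ⊤ A U₁) : fx ρ A ≤ U₁ := by
  intro v hv
  by_contra hnot
  refine h.moves fun d hd => h.inj v Submodule.mem_top hnot d hd ?_
  rw [hv d hd, add_self]
  exact Submodule.zero_mem _

/-- A good subgroup stays good on an invariant subspace which it moves. -/
theorem good_restrict (inj : Function.Injective ρ) (hno : ∀ B, ¬ Off ρ B) {A : Subgroup X}
    (hEl : El A) {U₁ : Submodule (ZMod 2) V} (hG : GoodOn ρ ⊤ A U₁) {U : Submodule (ZMod 2) V}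
    (hAU : A ≤ stab ρ U) (hne : ¬ A ≤ fixer ρ U)
    (hlt : Nat.card A * Nat.card ↥(U ⊓ fx ρ A) < Nat.card ↥(A ⊓ fixer ρ U) * Nat.card U) :
    Nat.card ↥(A ⊓ fixer ρ U) = 1 ∧ GoodOn ρ U A (U ⊓ U₁) := by
  have h2a : 2 * Nat.card A * Nat.card ↥(U ⊓ fx ρ A) ≤ Nat.card ↥(A ⊓ fixer ρ U) * Nat.card U := by
    rw [hEl.card, (hEl.mono inf_le_left).card, card_sub (U ⊓ _), card_sub U, ← pow_add, ← pow_add,
      Nat.pow_lt_pow_iff_right (by norm_num)] at hlt
    rw [hEl.card, (hEl.mono inf_le_left).card, card_sub (U ⊓ _), card_sub U, ← pow_succ', ← pow_add,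
      ← pow_add, Nat.pow_le_pow_iff_right (by norm_num)]
    omega
  have hV := hG.card_le inj
  have hsum := card_sup_inf U (fx ρ A)
  have hpos : 0 < Nat.card ↥(U ⊓ fx ρ A) := Nat.card_pos
  -- the fixer of `U` in `A` is trivial
  have hA0 : A ⊓ fixer ρ U = ⊥ := by
    by_contra h0
    refine hno _ (off_iff.2 ⟨hEl.mono inf_le_left, h0, ?_⟩)
    have hfx : U ⊔ fx ρ A ≤ fx ρ (A ⊓ fixer ρ U) :=
      sup_le (le_fx_of_le_fixer ρ inf_le_right) (fx_anti ρ inf_le_left)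
    refine le_trans ?_ (Nat.mul_le_mul_left _ (card_mono hfx))
    refine Nat.le_of_mul_le_mul_right ?_ hpos
    calc Nat.card V * Nat.card ↥(U ⊓ fx ρ A)
        ≤ 2 * Nat.card A * Nat.card (fx ρ A) * Nat.card ↥(U ⊓ fx ρ A) := Nat.mul_le_mul_right _ hV
      _ = 2 * Nat.card A * Nat.card ↥(U ⊓ fx ρ A) * Nat.card (fx ρ A) := by ring
      _ ≤ Nat.card ↥(A ⊓ fixer ρ U) * Nat.card U * Nat.card (fx ρ A) := Nat.mul_le_mul_right _ h2a
      _ = _ := by rw [mul_assoc, ← hsum, mul_assoc]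
  have hA1 : Nat.card ↥(A ⊓ fixer ρ U) = 1 := by rw [hA0, Subgroup.card_bot]
  rw [hA1, one_mul] at h2a
  have htop : U ⊔ fx ρ A = ⊤ := by
    refine eq_of_card_le le_top ?_
    rw [card_top_sub]
    refine Nat.le_of_mul_le_mul_right ?_ hpos
    calc Nat.card V * Nat.card ↥(U ⊓ fx ρ A)
        ≤ 2 * Nat.card A * Nat.card (fx ρ A) * Nat.card ↥(U ⊓ fx ρ A) := Nat.mul_le_mul_right _ hV
      _ = 2 * Nat.card A * Nat.card ↥(U ⊓ fx ρ A) * Nat.card (fx ρ A) := by ring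
      _ ≤ Nat.card U * Nat.card (fx ρ A) := Nat.mul_le_mul_right _ h2a
      _ = _ := hsum.symm
  have hT : fx ρ A ≤ U₁ := hG.fx_le
  have htop' : U ⊔ U₁ = ⊤ := top_le_iff.1 (htop.ge.trans (sup_le_sup_left hT _))
  refine ⟨hA1, fun d hd u _ => hG.sq d hd u Submodule.mem_top, hne, inf_le_left, ?_, ?_, ?_, ?_, ?_⟩
  · have h1 := card_sup_inf U U₁
    rw [htop', hG.hyper] at h1
    refine Nat.eq_of_mul_eq_mul_right (Nat.card_pos (α := U₁)) ?_
    rw [← h1]; ring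
  · exact fun d hd v hv =>
      ⟨U.add_mem (apply_mem_of_stab ρ (hAU hd) hv) hv, hG.into d hd v Submodule.mem_top⟩
  · exact fun d hd v hv => hG.low d hd v hv.2
  · exact fun v hv hnot d hd hm w _ =>
      hG.inj v Submodule.mem_top (fun h => hnot ⟨hv, h⟩) d hd hm w Submodule.mem_top
  · rw [hA1, one_mul]
    have h1 : Nat.card U * Nat.card (fx ρ A) ≤
        2 * Nat.card A * Nat.card ↥(U ⊓ fx ρ A) * Nat.card (fx ρ A) := by
      rw [← hsum, htop, card_top_sub]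
      calc Nat.card V * Nat.card ↥(U ⊓ fx ρ A)
          ≤ 2 * Nat.card A * Nat.card (fx ρ A) * Nat.card ↥(U ⊓ fx ρ A) := Nat.mul_le_mul_right _ hV
        _ = _ := by ring
    exact Nat.le_of_mul_le_mul_right h1 Nat.card_pos

theorem PP.of_sylow {k : ℕ} {W : Submodule (ZMod 2) V} {S : Sylow 2 X}
    (hS : (S : Subgroup X) ≤ stab ρ W)
    (h : ∀ D : Subgroup X, D ≤ (S : Subgroup X) → k * Nat.card ↥(D ⊓ fixer ρ W) ≤ Nat.card D →
      ∀ U₁, ¬ GoodOn ρ W D U₁) : PP ρ k W := by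
  intro D hD hk U₁ hG
  obtain ⟨Q, hQD, hQ2, hcard, hfx, hsurj⟩ := exists_two_image hD hG.sq
  have hpos : 0 < Nat.card ↥(D ⊓ fixer ρ W) := Nat.card_pos
  have hGQ : GoodOn ρ W Q U₁ := by
    refine ⟨fun d hd => hG.sq d (hQD hd), fun hle => hG.moves fun d hd v hv => ?_, hG.le_W, hG.hyper,
      fun d hd => hG.into d (hQD hd), fun d hd v hv => fx_anti ρ hQD (hG.low d (hQD hd) v hv),
      fun v hv hnot d hd hm => hG.inj v hv hnot d (hQD hd) ?_, ?_⟩
    · obtain ⟨q, hq, he⟩ := hsurj d hd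
      rw [he v hv]
      exact hle hq v hv
    · exact (hfx.le ⟨W.add_mem (apply_mem_of_stab ρ (hD (hQD hd)) hv) hv, hm⟩).2
    · rw [hfx]
      refine Nat.le_of_mul_le_mul_right ?_ hpos
      calc Nat.card ↥(Q ⊓ fixer ρ W) * Nat.card W * Nat.card ↥(D ⊓ fixer ρ W)
          = Nat.card ↥(Q ⊓ fixer ρ W) * (Nat.card ↥(D ⊓ fixer ρ W) * Nat.card W) := by ring
        _ ≤ Nat.card ↥(Q ⊓ fixer ρ W) * (2 * Nat.card D * Nat.card ↥(W ⊓ fx ρ D)) :=
            Nat.mul_le_mul_left _ hG.le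
        _ = 2 * (Nat.card D * Nat.card ↥(Q ⊓ fixer ρ W)) * Nat.card ↥(W ⊓ fx ρ D) := by ring
        _ = _ := by rw [hcard]; ring
  have hkQ : k * Nat.card ↥(Q ⊓ fixer ρ W) ≤ Nat.card Q := by
    refine Nat.le_of_mul_le_mul_right ?_ hpos
    calc k * Nat.card ↥(Q ⊓ fixer ρ W) * Nat.card ↥(D ⊓ fixer ρ W)
        = k * Nat.card ↥(D ⊓ fixer ρ W) * Nat.card ↥(Q ⊓ fixer ρ W) := by ring
      _ ≤ Nat.card D * Nat.card ↥(Q ⊓ fixer ρ W) := Nat.mul_le_mul_right _ hk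
      _ = _ := hcard
  obtain ⟨m, hm, hmS⟩ := exists_conj_sylow hS hQ2 (hQD.trans hD)
  have hWm : W.map (ρ m).toLinearMap = W := (mem_stab ρ).1 hm
  have hfm : cjS m (fixer ρ W) = fixer ρ W := by rw [← fixer_map, hWm]
  have h1 := hGQ.map m
  rw [hWm] at h1
  refine h _ hmS ?_ _ h1
  rw [← hfm, ← cjS_inf, card_cjS, card_cjS]
  exact hkQ

end Cfsg.Agent.SFW
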