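/-
Solvable groups: a subspace without offenders and without good subgroups, whose conjugates span
the module, forces the module to have no good subgroups.
-/
import Cfsg.Agent.Lib.S3Free.Closure.Restrict
import Cfsg.Agent.Lib.Solvable.Basic
import Cfsg.Agent.Lib.Transfer.Basic

set_option autoImplicit false
set_option linter.unusedSectionVars false
set_option linter.style.haveILetI false
set_option maxHeartbeats 1000000

namespace Cfsg.Agent.SFW

open Module Cfsg.Agent.S3Free

universe u

/-- In a solvable group, an elementary abelian `2`-subgroup lying in only one maximal subgroup, not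
all of whose conjugates lie in it, meets a normal `2`-subgroup with index at most two. -/
theorem exists_two_core {X : Type u} [Group X] [Finite X] [Group.IsSolvable X] {A M : Subgroup X}
    (hEl : El A) (hAM : A ≤ M) (hsub : ∀ K : Subgroup X, A ≤ K → K ≠ ⊤ → K ≤ M)
    (hbad : ∃ x, ¬ cjS x A ≤ M) (h2 : ¬ IsPGroup 2 X) :
    ∃ R : Subgroup X, R.Normal ∧ IsPGroup 2 R ∧
      ∀ d ∈ A, ∀ b ∈ A, d ∉ R → b ∉ R → d * b ∈ R := by
  classical
  haveI : Fact (Nat.Prime 2) := ⟨Nat.prime_two⟩
  have hMt : M ≠ ⊤ := fun h => by obtain ⟨x, hx⟩ := hbad; exact hx (h ▸ le_top)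
  set K := M.normalCore with hK
  haveI hKn : K.Normal := Subgroup.normalCore_normal _
  have hKM : K ≤ M := Subgroup.normalCore_le _
  obtain ⟨T, hAT⟩ := hEl.isPGroup.exists_le_sylow
  have hTM : (T : Subgroup X) ≤ M := hsub _ hAT fun h =>
    h2 ((h ▸ T.2 : IsPGroup 2 (⊤ : Subgroup X)).of_equiv Subgroup.topEquiv)
  -- the Sylow subgroup of the core is normal
  set P := (T : Subgroup X) ⊓ K with hP
  obtain ⟨P', hP'⟩ := PBasic.exists_sylow_subgroupOf T K
  have hfr := Sylow.normalizer_sup_eq_top P'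
  have hPmap : (P' : Subgroup ↥K).map K.subtype = P := by
    rw [hP', Subgroup.subgroupOf_map_subtype]
  rw [hPmap] at hfr
  have hAP : A ≤ Subgroup.normalizer (P : Set X) := fun a ha =>
    Subgroup.mem_normalizer_fintype fun y hy =>
      ⟨(T : Subgroup X).mul_mem ((T : Subgroup X).mul_mem (hAT ha) hy.1)
        ((T : Subgroup X).inv_mem (hAT ha)), hKn.conj_mem y hy.2 a⟩
  have hPn : P.Normal := by
    refine Subgroup.normalizer_eq_top_iff.1 ?_
    by_contra h
    exact hMt (top_le_iff.1 (hfr.ge.trans (sup_le (hsub _ hAP h) hKM)))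
  refine ⟨P, hPn, T.2.to_le inf_le_left, fun d hd b hb hdP hbP => ?_⟩
  have hdK : d ∉ K := fun h => hdP ⟨hAT hd, h⟩
  have hbK : b ∉ K := fun h => hbP ⟨hAT hb, h⟩
  refine ⟨(T : Subgroup X).mul_mem (hAT hd) (hAT hb), ?_⟩
  -- in the quotient by the core
  set π := QuotientGroup.mk' K with hπ
  have hπs := QuotientGroup.mk'_surjective K
  haveI : Group.IsSolvable (X ⧸ K) := Group.isSolvable_of_surjective hπs
  haveI : Group.IsSolvable (⊤ : Subgroup (X ⧸ K)) :=
    Group.isSolvable_of_isSolvable_injective (⊤ : Subgroup (X ⧸ K)).subtype_injective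
  have hcomap : (M.map π).comap π = M := by
    rw [Subgroup.comap_map_eq, hπ, QuotientGroup.ker_mk', sup_eq_left]
    exact hKM
  have hcore : ∀ Y : Subgroup (X ⧸ K), Y.Normal → Y ≤ M.map π → Y = ⊥ := by
    intro Y hY hle
    have h1 : Y.comap π ≤ K := by
      haveI := hY.comap π
      exact Subgroup.normal_le_normalCore.2 ((Subgroup.comap_mono hle).trans hcomap.le)
    rw [← Subgroup.map_comap_eq_self_of_surjective hπs Y]
    refine le_bot_iff.1 ((Subgroup.map_mono h1).trans ?_)
    rw [QuotientGroup.map_mk'_self]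
  have hsubQ : ∀ Y : Subgroup (X ⧸ K), A.map π ≤ Y → Y ≠ ⊤ → Y ≤ M.map π := by
    intro Y hY hne
    have h1 : Y.comap π ≤ M := hsub _ (fun a ha => hY ⟨a, ha, rfl⟩) fun h => hne (by
      rw [← Subgroup.map_comap_eq_self_of_surjective hπs Y, h, ← MonoidHom.range_eq_map,
        MonoidHom.range_eq_top.2 hπs])
    exact (Subgroup.map_comap_eq_self_of_surjective hπs Y).ge.trans (Subgroup.map_mono h1)
  have hQne : (⊤ : Subgroup (X ⧸ K)) ≠ ⊥ := fun h => hMt (top_le_iff.1 fun x _ => hKM (by
    have h1 : (π x) ∈ (⊥ : Subgroup (X ⧸ K)) := h ▸ Subgroup.mem_top _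
    exact (QuotientGroup.eq_one_iff x).1 (Subgroup.mem_bot.1 h1)))
  obtain ⟨N, p, -, hNn, hN0, -, hNc, -, -, -⟩ :=
    SolvBasic.exists_minimal_normal_abelian (N := (⊤ : Subgroup (X ⧸ K))) inferInstance hQne
  haveI := hNn
  haveI := hNc
  have hNA : N ⊔ A.map π = ⊤ := by
    by_contra h
    exact hN0 (hcore N hNn (le_sup_left.trans (hsubQ _ le_sup_right h)))
  have hcomm : ∀ a ∈ A, ∀ c ∈ A, π a * π c = π c * π a := fun a ha c hc => by
    rw [← map_mul, hEl.comm ha hc, map_mul]
  -- no element outside the core centralizes a nontrivial element of `N`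
  have hfree : ∀ a ∈ A, a ∉ K → ∀ n ∈ N, π a * n = n * π a → n = 1 := by
    intro a ha haK n hn hcn
    set C := N ⊓ Subgroup.centralizer ({π a} : Set (X ⧸ K)) with hC
    have hCn : C.Normal := by
      refine Subgroup.normalizer_eq_top_iff.1 (top_le_iff.1 (hNA.ge.trans (sup_le ?_ ?_)))
      · intro m hm
        refine Subgroup.mem_normalizer_fintype fun c hc => ?_
        rwa [setLike_mul_comm hm hc.1, mul_inv_cancel_right]
      · rintro _ ⟨e, he, rfl⟩
        refine Subgroup.mem_normalizer_fintype fun c hc => ⟨hNn.conj_mem c hc.1 _, ?_⟩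
        have h1 : π a * π e = π e * π a := hcomm a ha e he
        have h2 : c * π a = π a * c := Subgroup.mem_centralizer_singleton_iff.1 hc.2
        refine Subgroup.mem_centralizer_singleton_iff.2 ?_
        calc π e * c * (π e)⁻¹ * π a = π e * c * ((π e)⁻¹ * (π a * π e)) * (π e)⁻¹ := by group
          _ = π e * (c * π a) * (π e)⁻¹ := by rw [h1]; group
          _ = (π e * π a) * c * (π e)⁻¹ := by rw [h2]; group
          _ = π a * (π e * c * (π e)⁻¹) := by rw [← h1]; group
    have hnC : n ∈ C := ⟨hn, Subgroup.mem_centralizer_singleton_iff.2 hcn.symm⟩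
    by_contra hn1
    have hCA : C ⊔ A.map π = ⊤ := by
      by_contra h
      have := hcore C hCn (le_sup_left.trans (hsubQ _ le_sup_right h))
      exact hn1 (Subgroup.mem_bot.1 (this ▸ hnC))
    have hcen : ∀ y : X ⧸ K, y * π a = π a * y := by
      intro y
      have hy : C ⊔ A.map π ≤ Subgroup.centralizer ({π a} : Set (X ⧸ K)) :=
        sup_le inf_le_right (by
          rintro _ ⟨e, he, rfl⟩
          exact Subgroup.mem_centralizer_singleton_iff.2 (hcomm e he a ha))
      exact Subgroup.mem_centralizer_singleton_iff.1 (hy (hCA ▸ Subgroup.mem_top y))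
    have hz : (Subgroup.zpowers (π a)).Normal := ⟨fun z hz g => by
      obtain ⟨i, rfl⟩ := Subgroup.mem_zpowers_iff.1 hz
      rw [show g * π a ^ i = π a ^ i * g from (Commute.zpow_right (hcen g) i).eq, mul_inv_cancel_right]
      exact ⟨i, rfl⟩⟩
    have h1 := hcore _ hz (Subgroup.zpowers_le.2 ⟨a, hAM ha, rfl⟩)
    rw [Subgroup.zpowers_eq_bot] at h1
    exact haK ((QuotientGroup.eq_one_iff a).1 h1)
  have hinv : ∀ a ∈ A, a ∉ K → ∀ n ∈ N, π a * n * (π a)⁻¹ = n⁻¹ := by
    intro a ha haK n hn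
    have hcn : π a * n * (π a)⁻¹ ∈ N := hNn.conj_mem n hn _
    have haa : π a * π a = 1 := by rw [← map_mul, hEl a ha, map_one]
    have h1 : n * (π a * n * (π a)⁻¹) = 1 := by
      refine hfree a ha haK _ (N.mul_mem hn hcn) ?_
      calc π a * (n * (π a * n * (π a)⁻¹))
          = (π a * n * (π a)⁻¹) * (π a * π a) * n * (π a)⁻¹ := by group
        _ = ((π a * n * (π a)⁻¹) * n) * (π a)⁻¹ := by rw [haa, mul_one]
        _ = (n * (π a * n * (π a)⁻¹)) * (π a)⁻¹ := by rw [setLike_mul_comm hcn hn]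
        _ = _ := by rw [inv_eq_of_mul_eq_one_right haa]
    exact eq_inv_of_mul_eq_one_right h1
  by_contra hdb
  obtain ⟨n, hn, hn1⟩ := (Subgroup.bot_or_exists_ne_one N).resolve_left hN0
  refine hn1 (hfree (d * b) (A.mul_mem hd hb) hdb n hn (mul_inv_eq_iff_eq_mul.1 ?_))
  rw [map_mul, show π d * π b * n * (π d * π b)⁻¹ = π d * (π b * n * (π b)⁻¹) * (π d)⁻¹ by group,
    hinv b hb hbK n hn, hinv d hd hdK n⁻¹ (N.inv_mem hn), inv_inv]

variable {X : Type u} [Group X] [Finite X] {V : Type u} [AddCommGroup V] [Module (ZMod 2) V]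
variable [Finite V] {ρ : X →* (V ≃ₗ[ZMod 2] V)}

/-- Every vector of the hyperplane of a good subgroup is a fixed vector plus a displacement. -/
theorem GoodOn.disp_cover (inj : Function.Injective ρ) {A : Subgroup X} {U₁ : Submodule (ZMod 2) V}
    (hEl : El A) (h : GoodOn ρ ⊤ A U₁) {v : V} (hv : v ∉ U₁) :
    ∀ u ∈ U₁, ∃ d ∈ A, ρ d v + v + u ∈ fx ρ A := by
  set T := (fx ρ A).submoduleOf U₁ with hT
  let f : A → U₁ ⧸ T := fun d =>
    Submodule.Quotient.mk ⟨ρ (d : X) v + v, h.into d d.2 v Submodule.mem_top⟩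
  have hf : Function.Injective f := by
    intro d e he
    have h1 : ρ (d : X) v + v - (ρ (e : X) v + v) ∈ fx ρ A := (Submodule.Quotient.eq T).1 he
    rw [sub_eq_add] at h1
    have h2 : ρ ((d : X) * (e : X)) v + v ∈ fx ρ A := by
      have h3 := h.low d d.2 _ (h.into e e.2 v Submodule.mem_top)
      have h4 : ρ ((d : X) * (e : X)) v + v =
          (ρ (d : X) (ρ (e : X) v + v) + (ρ (e : X) v + v)) + (ρ (d : X) v + v + (ρ (e : X) v + v)) := by
        rw [map_add, apply_mul]
        calc ρ (d : X) (ρ (e : X) v) + v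
            = ρ (d : X) (ρ (e : X) v) + v + (ρ (d : X) v + ρ (d : X) v) +
              ((ρ (e : X) v + v) + (ρ (e : X) v + v)) := by rw [add_self, add_self, add_zero, add_zero]
          _ = _ := by abel
      rw [h4]
      exact add_mem h3 h1
    have h5 := h.inj v Submodule.mem_top hv _ (A.mul_mem d.2 e.2) h2
    rw [fixer_top_eq_bot inj, Subgroup.mem_bot] at h5
    refine Subtype.ext ?_
    calc (d : X) = d * (e * e) := by rw [hEl e e.2, mul_one]
      _ = e := by rw [← mul_assoc, h5, one_mul]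
  haveI : Finite (U₁ ⧸ T) := Quotient.finite _
  have hcard : Nat.card (U₁ ⧸ T) ≤ Nat.card A := by
    have h1 := T.card_eq_card_quotient_mul_card
    have h2 := h.card_le inj
    have h3 : Nat.card T = Nat.card (fx ρ A) :=
      Nat.card_congr (Submodule.submoduleOfEquivOfLe h.fx_le).toEquiv
    have h4 : Nat.card V = 2 * Nat.card U₁ := by rw [← card_top_sub]; exact h.hyper
    rw [h3] at h1
    rw [h4, h1] at h2
    refine Nat.le_of_mul_le_mul_right ?_ (Nat.card_pos (α := fx ρ A))
    linarith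
  haveI : Fintype A := Fintype.ofFinite _
  haveI : Fintype (U₁ ⧸ T) := Fintype.ofFinite _
  have hsurj : Function.Surjective f := by
    have hc := le_antisymm (Nat.card_le_card_of_injective f hf) hcard
    exact ((Nat.bijective_iff_injective_and_card f).2 ⟨hf, hc⟩).2
  intro u hu
  obtain ⟨d, hd⟩ := hsurj (Submodule.Quotient.mk ⟨u, hu⟩)
  have h1 : ρ (d : X) v + v - u ∈ fx ρ A := (Submodule.Quotient.eq T).1 hd
  rw [sub_eq_add] at h1
  exact ⟨d, d.2, h1⟩

/-- The critical configuration. -/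
theorem core_top [Group.IsSolvable X] (inj : Function.Injective ρ) (h3 : NoS3 X) {A : Subgroup X}
    (hEl : El A) {U₁ : Submodule (ZMod 2) V} (hG : GoodOn ρ ⊤ A U₁) {c : Submodule (ZMod 2) V}
    (hfix : A ≤ fixer ρ c) (hsub : ∀ K : Subgroup X, A ≤ K → K ≠ ⊤ → K ≤ stab ρ c)
    (hbad : ∃ x, ¬ cjS x A ≤ stab ρ c)
    (hgen : ∀ U : Submodule (ZMod 2) V, (∀ g, ∀ v ∈ U, ρ g v ∈ U) → c ≤ U → U = ⊤)
    (h2 : ¬ IsPGroup 2 X) : False := by
  classical
  obtain ⟨R, hRn, hR2, hAR⟩ := exists_two_core hEl (hfix.trans (fixer_le_stab ρ c)) hsub hbad h2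
  haveI : Finite (Submodule (ZMod 2) V) := inferInstance
  obtain ⟨T, ⟨hTi, hTU⟩, hTmax⟩ := Set.Finite.exists_maximal
    (Set.toFinite {T : Submodule (ZMod 2) V | (∀ g, ∀ v ∈ T, ρ g v ∈ T) ∧ T ≤ U₁})
    ⟨⊥, fun g v hv => by rw [Submodule.mem_bot] at hv ⊢; rw [hv, map_zero], bot_le⟩
  have hU₁ : U₁ ≠ ⊤ := by
    intro h
    have h1 := hG.hyper
    rw [h] at h1
    have := Nat.card_pos (α := (⊤ : Submodule (ZMod 2) V))
    omega
  obtain ⟨S, ⟨hSi, hTS⟩, hSmin⟩ := Set.Finite.exists_minimal
    (Set.toFinite {S : Submodule (ZMod 2) V | (∀ g, ∀ v ∈ S, ρ g v ∈ S) ∧ T < S})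
    ⟨⊤, fun _ _ _ => Submodule.mem_top,
      lt_top_iff_ne_top.2 fun h => hU₁ (top_le_iff.1 (h ▸ hTU))⟩
  obtain ⟨v, hvS, hv⟩ : ∃ v ∈ S, v ∉ U₁ := by
    by_contra hno
    push Not at hno
    exact hTS.not_ge (hTmax ⟨hSi, hno⟩ hTS.le)
  have hsimple : ∀ U : Submodule (ZMod 2) V, (∀ l, ∀ w ∈ U, ρ l w ∈ U) → T < U → U ≤ S → U = S :=
    fun U hU hlt hle => le_antisymm hle (hSmin ⟨hU, hlt⟩ hle)
  -- the normal `2`-subgroup is trivial on the section
  have hRS : ∀ r ∈ R, ∀ w ∈ S, ρ r w + w ∈ T := by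
    obtain ⟨s, hs, hsT, hsf⟩ := exists_fixed_mod ρ hR2 hTS
      (fun r _ => mem_stab_of_mem ρ (hTi r)) (fun r _ => mem_stab_of_mem ρ (hSi r))
    set U := {carrier := {w | w ∈ S ∧ ∀ r ∈ R, ρ r w + w ∈ T}
              add_mem' := fun {a b} ha hb => ⟨S.add_mem ha.1 hb.1, fun r hr => by
                rw [map_add, add_add_add_comm]; exact T.add_mem (ha.2 r hr) (hb.2 r hr)⟩
              zero_mem' := ⟨S.zero_mem, fun r _ => by rw [map_zero, add_zero]; exact T.zero_mem⟩
              smul_mem' := fun k w hw => ⟨S.smul_mem k hw.1, fun r hr => by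
                rw [map_smul, ← smul_add]; exact T.smul_mem k (hw.2 r hr)⟩ : Submodule (ZMod 2) V}
      with hU
    have hUi : ∀ l, ∀ w ∈ U, ρ l w ∈ U := fun l w hw => ⟨hSi l w hw.1, fun r hr => by
      have h1 := hTi l _ (hw.2 (l⁻¹ * r * l) (by simpa using hRn.conj_mem r hr l⁻¹))
      rwa [map_add, ← apply_mul, ← mul_assoc, mul_inv_cancel_left, apply_mul] at h1⟩
    have hUS := hsimple U hUi (lt_of_le_of_ne
      (fun t ht => ⟨hTS.le ht, fun r _ => T.add_mem (hTi r t ht) ht⟩)
      fun he => hsT (he.symm.le ⟨hs, hsf⟩)) (fun w hw => hw.1)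
    exact fun r hr w hw => (hUS.symm.le hw).2 r hr
  -- the hyperplane is centralized on the section
  have hlow : ∀ u ∈ S, u ∈ U₁ → ∀ b ∈ A, ρ b u + u ∈ T := by
    intro u hu hu1 b hb
    obtain ⟨d, hd, hdu⟩ := hG.disp_cover inj hEl hv u hu1
    have he : ρ b u + u = ρ b (ρ d v + v) + (ρ d v + v) := by
      have h1 := hdu b hb
      rw [map_add] at h1
      calc ρ b u + u = ρ b u + u + ((ρ b (ρ d v + v) + ρ b u) + (ρ d v + v + u)) := by
            rw [h1, add_self, add_zero]
        _ = (ρ b (ρ d v + v) + (ρ d v + v)) + ((ρ b u + ρ b u) + (u + u)) := by abel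
        _ = _ := by rw [add_self, add_self, add_zero, add_zero]
    rw [he]
    set w := ρ d v + v with hw
    have hwS : w ∈ S := S.add_mem (hSi d v hvS) hvS
    by_cases hdR : d ∈ R
    · exact T.add_mem (hTi b _ (hRS d hdR v hvS)) (hRS d hdR v hvS)
    by_cases hbR : b ∈ R
    · exact hRS b hbR w hwS
    have hbd : b = d * b * d := by
      rw [hEl.comm hd hb, mul_assoc, hEl d hd, mul_one]
    have hdw : ρ d w = w := by
      rw [hw, map_add, ← apply_mul, hEl d hd, map_one, add_comm]
      rfl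
    rw [hbd, apply_mul, hdw]
    exact hRS _ (hAR d hd b hb hdR hbR) w hwS
  -- so `A` is trivial on the section
  have hker : ∀ a ∈ A, ∀ w ∈ S, ρ a w + w ∈ T := by
    by_contra hne
    push Not at hne
    obtain ⟨a, ha, w, hw, hwT⟩ := hne
    set σ := resTop ρ S hSi with hσ
    set T' := T.comap S.subtype with hT'
    have hT'i : ∀ l, ∀ z ∈ T', σ l z ∈ T' := fun l z hz => hTi l _ hz
    set τ := quoTop σ T' hT'i with hτ
    haveI : Finite (S ⧸ T') := Quotient.finite _
    have hI : IrrOn τ ⊤ (⊤ : Submodule (ZMod 2) (S ⧸ T')) := by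
      refine ⟨fun g _ => mem_stab_of_mem τ fun _ _ => Submodule.mem_top, ?_, fun U _ hU => ?_⟩
      · intro hb
        have h1 : Submodule.Quotient.mk (p := T') ⟨v, hvS⟩ ∈ (⊥ : Submodule (ZMod 2) (S ⧸ T')) :=
          hb ▸ Submodule.mem_top
        exact hv (hTU ((Submodule.Quotient.mk_eq_zero T').1 ((Submodule.mem_bot _).1 h1)))
      · set U' := (U.comap T'.mkQ).map S.subtype with hU'
        have hTU' : T ≤ U' := fun t ht => ⟨⟨t, hTS.le ht⟩, by
          change T'.mkQ ⟨t, hTS.le ht⟩ ∈ U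
          rw [Submodule.mkQ_apply, (Submodule.Quotient.mk_eq_zero T').2 ht]
          exact U.zero_mem, rfl⟩
        have hU'i : ∀ l, ∀ z ∈ U', ρ l z ∈ U' := by
          rintro l _ ⟨z, hz, rfl⟩
          refine ⟨σ l z, ?_, rfl⟩
          have := apply_mem_of_stab τ (hU (Subgroup.mem_top l)) (show T'.mkQ z ∈ U from hz)
          exact this
        rcases hTU'.eq_or_lt with he | hlt
        · left
          refine (Submodule.eq_bot_iff _).2 fun q hq => ?_
          obtain ⟨z, rfl⟩ := Submodule.mkQ_surjective T' q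
          exact (Submodule.Quotient.mk_eq_zero T').2
            (show (z : V) ∈ T from he.symm.le ⟨z, hq, rfl⟩)
        · right
          refine eq_top_iff.2 fun q _ => ?_
          obtain ⟨z, rfl⟩ := Submodule.mkQ_surjective T' q
          obtain ⟨z', hz', he⟩ := (hsimple U' hU'i hlt (Submodule.map_subtype_le S _)).ge z.2
          rw [← Subtype.ext he]
          exact hz'
    have hne' : ¬ A ≤ fixer τ (⊤ : Submodule (ZMod 2) (S ⧸ T')) := by
      intro h
      have h1 := h ha (Submodule.Quotient.mk ⟨w, hw⟩) Submodule.mem_top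
      rw [hτ, quoTop_mk, Submodule.Quotient.eq, sub_eq_add] at h1
      exact hwT h1
    have hb := (ffBelow.{u} (Nat.card X + finrank (ZMod 2) (S ⧸ T') + 1)).bound h3 hI
      (by rw [Subgroup.card_top, finrank_top]; omega) le_top hEl hne'
    have hlt : dA (A ⊓ fixer τ (⊤ : Submodule (ZMod 2) (S ⧸ T'))) < dA A :=
      hEl.dA_lt inf_le_left fun h => hne' (inf_eq_left.1 h)
    rw [finrank_top, top_inf_eq] at hb
    -- the fixed vectors contain a hyperplane
    have h5 : (U₁.comap S.subtype).map T'.mkQ ≤ fx τ A := by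
      rintro _ ⟨z, hz, rfl⟩ b hb'
      rw [Submodule.mkQ_apply, hτ, quoTop_mk, Submodule.Quotient.eq, sub_eq_add]
      exact hlow z z.2 hz b hb'
    have h6 : ⊤ ≤ (U₁.comap S.subtype).map T'.mkQ ⊔
        Submodule.span (ZMod 2) {Submodule.Quotient.mk (⟨v, hvS⟩ : S)} := by
      intro q _
      obtain ⟨z, rfl⟩ := Submodule.mkQ_surjective T' q
      by_cases hz : (z : V) ∈ U₁
      · exact Submodule.mem_sup_left ⟨z, hz, rfl⟩
      · have htop : U₁ ⊔ Submodule.span (ZMod 2) {v} = ⊤ := by
          refine eq_of_card_le le_top ?_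
          rw [hG.hyper]
          have h7 : U₁ < U₁ ⊔ Submodule.span (ZMod 2) {v} := left_lt_sup.2 fun h =>
            hv (h (Submodule.mem_span_singleton_self v))
          have h8 := Submodule.finrank_lt_finrank_of_lt h7
          rw [card_sub, card_sub (U₁ ⊔ _), ← pow_succ']
          exact Nat.pow_le_pow_right (by norm_num) h8
        obtain ⟨x, hx, y, hy, hxy⟩ := Submodule.mem_sup.1 (htop.symm.le (Submodule.mem_top (x := (z : V))))
        obtain ⟨k, rfl⟩ := Submodule.mem_span_singleton.1 hy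
        have hxS : x ∈ S := by
          rw [← sub_eq_iff_eq_add.2 hxy.symm]
          exact S.sub_mem z.2 (S.smul_mem k hvS)
        refine Submodule.mem_sup.2 ⟨_, ⟨⟨x, hxS⟩, hx, rfl⟩, k • Submodule.Quotient.mk (⟨v, hvS⟩ : S),
          Submodule.smul_mem _ _ (Submodule.mem_span_singleton_self _), ?_⟩
        rw [← Submodule.Quotient.mk_smul, Submodule.mkQ_apply, ← Submodule.Quotient.mk_add]
        exact congrArg _ (Subtype.ext hxy)
    have h9 := Submodule.finrank_mono (h6.trans (sup_le_sup_right h5 _))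
    have h10 := Submodule.finrank_add_le_finrank_add_finrank (fx τ A)
      (Submodule.span (ZMod 2) {Submodule.Quotient.mk (p := T') (⟨v, hvS⟩ : S)})
    have h11 := finrank_span_le_card (R := ZMod 2) ({Submodule.Quotient.mk (⟨v, hvS⟩ : S)} : Set (S ⧸ T'))
    rw [finrank_top] at h9
    rw [Set.toFinset_singleton, Finset.card_singleton] at h11
    omega
  -- everything is trivial on the section
  have hall : ∀ {T' S' : Submodule (ZMod 2) V} (hT : ∀ l, ∀ z ∈ T', ρ l z ∈ T')
      (hS : ∀ l, ∀ z ∈ S', ρ l z ∈ S'), (∀ a ∈ A, ∀ z ∈ S', ρ a z + z ∈ T') →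
      ∀ (l : X), ∀ z ∈ S', ρ l z + z ∈ T' := by
    intro T' S' hT hS h
    have hn := secKer_normal ρ T' S' hT hS
    have hA : A ≤ secKer ρ T' S' hT hS := fun a ha => h a ha
    have htop : secKer ρ T' S' hT hS = ⊤ := by
      by_contra hne
      obtain ⟨x, hx⟩ := hbad
      refine hx (le_trans ?_ (hsub _ hA hne))
      intro y hy
      have := hn.conj_mem _ (hA (mem_cjS.1 hy)) x
      simpa [mul_assoc] using this
    exact fun l z hz => (htop.symm.le (Subgroup.mem_top l)) z hz
  have hST := hall hTi hSi hker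
  have hSU : ∀ u ∈ S, u ∈ U₁ → u ∈ T := by
    intro u hu hu1
    by_contra huT
    set U := T ⊔ Submodule.span (ZMod 2) {u} with hU
    have hUS : U ≤ S := sup_le hTS.le ((Submodule.span_singleton_le_iff_mem _ _).2 hu)
    have hUU : U ≤ U₁ := sup_le hTU ((Submodule.span_singleton_le_iff_mem _ _).2 hu1)
    have hUi : ∀ l, ∀ z ∈ U, ρ l z ∈ U := fun l z hz => by
      have h1 : ρ l z + z ∈ U := Submodule.mem_sup_left (hST l z (hUS hz))
      have := U.add_mem h1 hz
      rwa [add_assoc, add_self, add_zero] at this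
    exact huT (hTmax ⟨hUi, hUU⟩ le_sup_left (Submodule.mem_sup_right (Submodule.mem_span_singleton_self u)))
  have hAall : ∀ a ∈ A, ∀ z ∈ (⊤ : Submodule (ZMod 2) V), ρ a z + z ∈ T := by
    intro a ha z _
    have hvT : ∀ d ∈ A, ρ d v + v ∈ T := fun d hd =>
      hSU _ (S.add_mem (hSi d v hvS) hvS) (hG.into d hd v Submodule.mem_top)
    have hU₁T : ∀ u ∈ U₁, ρ a u + u ∈ T := by
      intro u hu
      obtain ⟨d, hd, hdu⟩ := hG.disp_cover inj hEl hv u hu
      have h1 := hdu a ha
      have h2 : ρ a u + u = ρ a (ρ d v + v) + (ρ d v + v) := by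
        rw [map_add] at h1
        calc ρ a u + u = ρ a u + u + ((ρ a (ρ d v + v) + ρ a u) + (ρ d v + v + u)) := by
              rw [h1, add_self, add_zero]
          _ = (ρ a (ρ d v + v) + (ρ d v + v)) + ((ρ a u + ρ a u) + (u + u)) := by abel
          _ = _ := by rw [add_self, add_self, add_zero, add_zero]
      rw [h2]
      exact T.add_mem (hTi a _ (hvT d hd)) (hvT d hd)
    by_cases hz : z ∈ U₁
    · exact hU₁T z hz
    · have hzv : z + v ∈ U₁ := by
        have htop : U₁ ⊔ Submodule.span (ZMod 2) {v} = ⊤ := by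
          refine eq_of_card_le le_top ?_
          rw [hG.hyper]
          have h7 : U₁ < U₁ ⊔ Submodule.span (ZMod 2) {v} := left_lt_sup.2 fun h =>
            hv (h (Submodule.mem_span_singleton_self v))
          have h8 := Submodule.finrank_lt_finrank_of_lt h7
          rw [card_sub, card_sub (U₁ ⊔ _), ← pow_succ']
          exact Nat.pow_le_pow_right (by norm_num) h8
        obtain ⟨x, hx, y, hy, hxy⟩ := Submodule.mem_sup.1 (htop.symm.le (Submodule.mem_top (x := z)))
        obtain ⟨j, rfl⟩ := Submodule.mem_span_singleton.1 hy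
        rcases (by decide : ∀ j : ZMod 2, j = 0 ∨ j = 1) j with rfl | rfl
        · rw [zero_smul, add_zero] at hxy
          exact absurd (hxy ▸ hx) hz
        · rw [← hxy, one_smul, add_assoc, add_self, add_zero]
          exact hx
      have h := T.add_mem (hU₁T _ hzv) (hvT a ha)
      rwa [map_add, show ρ a z + ρ a v + (z + v) + (ρ a v + v) =
        ρ a z + z + ((ρ a v + ρ a v) + (v + v)) by abel, add_self, add_self, add_zero, add_zero] at h
  have hXT := hall hTi (fun _ _ _ => Submodule.mem_top) hAall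
  refine hU₁ (hgen U₁ (fun g z hz => ?_) ((le_fx_of_le_fixer ρ hfix).trans hG.fx_le))
  have := U₁.add_mem (hTU (hXT g z Submodule.mem_top)) hz
  rwa [add_assoc, add_self, add_zero] at this

/-- **No good subgroups**, for solvable groups. -/
theorem no_good {X : Type u} [Group X] [Finite X] [Group.IsSolvable X] {V : Type u} [AddCommGroup V]
    [Module (ZMod 2) V] [Finite V] {ρ : X →* (V ≃ₗ[ZMod 2] V)} (inj : Function.Injective ρ)
    (h3 : NoS3 X) {k : ℕ} {S : Sylow 2 X} {W : Submodule (ZMod 2) V}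
    (hS : (S : Subgroup X) ≤ stab ρ W)
    (hgen : ∀ U : Submodule (ZMod 2) V, (∀ g, ∀ v ∈ U, ρ g v ∈ U) → W ≤ U → U = ⊤)
    (hPW : PW ρ W) (hPP : PP ρ k W) : ∀ A, ¬ GoodTop ρ k A := by
  suffices key : ∀ n : ℕ, ∀ (X : Type u) [Group X] [Finite X] [Group.IsSolvable X] (V : Type u)
      [AddCommGroup V] [Module (ZMod 2) V] [Finite V] (ρ : X →* (V ≃ₗ[ZMod 2] V)), Nat.card X ≤ n →
      Function.Injective ρ → NoS3 X → ∀ (S : Sylow 2 X) (W : Submodule (ZMod 2) V),
      (S : Subgroup X) ≤ stab ρ W →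
      (∀ U : Submodule (ZMod 2) V, (∀ g, ∀ v ∈ U, ρ g v ∈ U) → W ≤ U → U = ⊤) →
      PW ρ W → PP ρ k W → ∀ A, ¬ GoodTop ρ k A from
    key _ X V ρ le_rfl inj h3 S W hS hgen hPW hPP
  clear hPP hPW hgen hS W S h3 inj ρ
  intro n
  induction n with
  | zero =>
    intro X _ _ _ V _ _ _ ρ hn
    exact absurd hn (by have := Nat.card_pos (α := X); omega)
  | succ n ih =>
    intro X _ _ _ V _ _ _ ρ hn inj h3 S W₀ hS₀ hgen₀ hPW₀ hPP₀ A₀ hA₀
    classical
    haveI : Finite (Submodule (ZMod 2) V) := inferInstance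
    obtain ⟨W, ⟨hW₀, hS, hPW, hPP⟩, hWmax⟩ := Set.Finite.exists_maximal
      (Set.toFinite {U : Submodule (ZMod 2) V |
        W₀ ≤ U ∧ (S : Subgroup X) ≤ stab ρ U ∧ PW ρ U ∧ PP ρ k U})
      ⟨W₀, le_rfl, hS₀, hPW₀, hPP₀⟩
    have hgen : ∀ U : Submodule (ZMod 2) V, (∀ g, ∀ v ∈ U, ρ g v ∈ U) → W ≤ U → U = ⊤ :=
      fun U hU hle => hgen₀ U hU (hW₀.trans hle)
    have hno : ∀ B, ¬ Off ρ B := no_off inj h3 hS hgen hPW
    -- no offenders and no good subgroups on the translates under a proper subgroup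
    have hlocal : ∀ (K : Subgroup X), K ≠ ⊤ → ∀ (P : Sylow 2 K) (c : Submodule (ZMod 2) V),
        (P : Subgroup K).map K.subtype ≤ stab ρ c → PW ρ c → PP ρ k c →
        ∃ hKU : K ≤ stab ρ (transSpan ρ K c),
          (∀ B, ¬ Off (res ρ K _ hKU).range.subtype B) ∧
          ∀ B, ¬ GoodTop (res ρ K _ hKU).range.subtype k B := by
      intro K hK P c hP hPWc hPPc
      set U := transSpan ρ K c with hU
      have hKU : K ≤ stab ρ U := le_stab_transSpan K c
      refine ⟨hKU, ?_⟩
      haveI : Finite (U ≃ₗ[ZMod 2] U) :=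
        Finite.of_injective (fun e => (e : U → U)) DFunLike.coe_injective
      set r := res ρ K U hKU with hr
      have hc := compat_res K U hKU
      have hmap : (c.comap U.subtype).map U.subtype = c :=
        Submodule.map_comap_eq_self (by rw [Submodule.range_subtype]; exact le_transSpan K c)
      haveI : Group.IsSolvable K := Group.isSolvable_of_isSolvable_injective K.subtype_injective
      haveI : Group.IsSolvable r.range := Group.isSolvable_of_surjective r.rangeRestrict_surjective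
      have hS' : ((P.mapSurjective r.rangeRestrict_surjective : Sylow 2 r.range) : Subgroup r.range) ≤
          stab r.range.subtype (c.comap U.subtype) := by
        rw [Sylow.coe_mapSurjective]
        rintro _ ⟨s, hs, rfl⟩
        rw [hc.mem_stab, hmap]
        exact hP ⟨s, hs, rfl⟩
      have hgenU : ∀ U' : Submodule (ZMod 2) U, (∀ g : r.range, ∀ v ∈ U', r.range.subtype g v ∈ U') →
          c.comap U.subtype ≤ U' → U' = ⊤ := fun U' hU' hle => by
        refine eq_top_iff.2 fun x _ => ?_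
        have hst : K ≤ stab ρ (U'.map U.subtype) := fun k hk => mem_stab_of_mem ρ (by
          rintro _ ⟨v, hv, rfl⟩
          exact ⟨r ⟨k, hk⟩ v, hU' ⟨r ⟨k, hk⟩, ⟨_, rfl⟩⟩ v hv, rfl⟩)
        have hle' : U ≤ U'.map U.subtype := transSpan_le hst (hmap.ge.trans (Submodule.map_mono hle))
        obtain ⟨w, hw, hwx⟩ := hle' x.2
        rwa [← Subtype.ext hwx]
      have h3' := (h3.subgroup K).surj r.rangeRestrict_surjective
      have hPW' : PW r.range.subtype (c.comap U.subtype) := hc.pw (by rwa [hmap])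
      refine ⟨no_off Subtype.val_injective h3' hS' hgenU hPW', ?_⟩
      exact ih r.range U r.range.subtype
        (by
          have := Nat.card_le_card_of_surjective _ r.rangeRestrict_surjective
          have := card_lt_of_ne_top hK
          omega)
        Subtype.val_injective h3' _ _ hS' hgenU hPW' (hc.pp (by rwa [hmap]))
    have hmax : ∀ K : Subgroup X, (S : Subgroup X) ≤ K → K ≠ ⊤ → K ≤ stab ρ W := by
      intro K hSK hK
      obtain ⟨hKU, hnoU, hgoodU⟩ := hlocal K hK (S.subtype hSK) W (by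
        rw [Sylow.coe_subtype, Subgroup.subgroupOf_map_subtype]
        exact inf_le_left.trans hS) hPW hPP
      set U := transSpan ρ K W with hU
      have hWU : W ≤ U := le_transSpan K W
      haveI : Finite (U ≃ₗ[ZMod 2] U) :=
        Finite.of_injective (fun e => (e : U → U)) DFunLike.coe_injective
      have hc := compat_res K U hKU
      have hPWU : PW ρ U := by
        refine PW.of_sylow (hSK.trans hKU) fun D hD hsq hne => ?_
        have h1 := hc.pw_of_no_off Subtype.val_injective hnoU (hD.trans hSK)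
          (by rwa [Submodule.range_subtype]) (by rwa [Submodule.range_subtype])
        rwa [Submodule.range_subtype] at h1
      have hPPU : PP ρ k U := by
        refine PP.of_sylow (hSK.trans hKU) fun D hD hk U₁ => ?_
        have h1 := hc.pp_of_no_good Subtype.val_injective hgoodU (hD.trans hSK)
          (by rwa [Submodule.range_subtype]) U₁
        rwa [Submodule.range_subtype] at h1
      have hUW : U ≤ W := hWmax ⟨hW₀.trans hWU, hSK.trans hKU, hPWU, hPPU⟩ hWU
      rw [le_antisymm hWU hUW]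
      exact hKU
    refine engine (T := GoodTop ρ k) (fun A hA => hA.1.isPGroup) (fun A g hA => hA.cjS g)
      (fun A hA => by obtain ⟨-, -, U₁, hG⟩ := hA; exact hG.moves) hS
      (fun hne => hmax _ (fun s hs => genIn_normalized (fun A g hA => hA.cjS g)
        (Subgroup.le_normalizer hs)) hne) hgen
      (fun A hA hAW => ?_) (fun A L c hA hAL hc hfix hsub _ hdich hbad hL2 => ?_) A₀ hA₀
    · obtain ⟨hEl, hk, U₁, hG⟩ := hA
      by_contra hne
      obtain ⟨h1, h2⟩ := good_restrict inj hno hEl hG hAW hne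
        (hPW A hAW (fun d hd u _ => by rw [hEl d hd, map_one]; rfl) hne)
      exact hPP A hAW (by rw [h1, mul_one]; exact hk) _ h2
    · obtain ⟨hEl, hk, U₁, hG⟩ := hA
      obtain ⟨g, rfl⟩ := hc
      by_cases hL : L = ⊤
      · subst hL
        refine core_top inj h3 hEl hG hfix (fun K hK hKt => hsub K hK le_top hKt)
          (by obtain ⟨l, -, hl⟩ := hbad; exact ⟨l, hl⟩) (fun U hU hle => hgen U hU ?_)
          fun h => hL2 (h.to_subgroup _)
        intro w hw
        have h1 := hU g⁻¹ _ (hle ⟨w, hw, rfl⟩)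
        change ρ g⁻¹ (ρ g w) ∈ U at h1
        rwa [apply_inv_apply] at h1
      set c := W.map (ρ g).toLinearMap with hcdef
      obtain ⟨P, hP⟩ := (hEl.isPGroup.comap_of_injective L.subtype L.subtype_injective :
        IsPGroup 2 (A.subgroupOf L)).exists_le_sylow
      have hPc : (P : Subgroup L).map L.subtype ≤ stab ρ c := by
        refine hsub _ (fun a ha => ⟨⟨a, hAL ha⟩, hP ha, rfl⟩) (Subgroup.map_subtype_le _) fun he => ?_
        exact hL2 (he ▸ (P.2.map L.subtype))
      obtain ⟨hKU, hnoU, hgoodU⟩ := hlocal L hL P c hPc (hPW.map g) (hPP.map g)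
      set U := transSpan ρ L c with hU
      haveI : Finite (U ≃ₗ[ZMod 2] U) :=
        Finite.of_injective (fun e => (e : U → U)) DFunLike.coe_injective
      have hc' := compat_res L U hKU
      have hAU : A ≤ fixer ρ U := by
        by_contra hne
        have h1 := hc'.pw_of_no_off Subtype.val_injective hnoU hAL
          (fun d hd u _ => by rw [hEl d hd, map_one]; rfl) (by rwa [Submodule.range_subtype])
        rw [Submodule.range_subtype] at h1
        obtain ⟨h2, h4⟩ := good_restrict inj hno hEl hG (hAL.trans hKU) hne h1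
        have h5 := hc'.pp_of_no_good Subtype.val_injective hgoodU hAL
          (by rw [Submodule.range_subtype, h2, mul_one]; exact hk) (U ⊓ U₁)
        rw [Submodule.range_subtype] at h5
        exact h5 h4
      obtain ⟨l, hl, hbad⟩ := hbad
      refine hbad fun y hy => ?_
      have h1 := hAU (mem_cjS.1 hy)
      refine fixer_le_stab ρ c fun u hu => ?_
      have h2 : ρ l⁻¹ u ∈ U := apply_mem_of_stab ρ (hKU (L.inv_mem hl)) (le_transSpan L c hu)
      have h3 := congrArg (ρ l) (h1 _ h2)
      rw [apply_apply_inv, ← apply_mul, ← apply_mul] at h3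
      simpa [mul_assoc] using h3

end Cfsg.Agent.SFW
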