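/-
Offenders and configurations in group-theoretic language.
-/
import Cfsg.Agent.Lib.S3Free.Closure.Group
import Cfsg.Agent.Lib.S3Free.Closure.CfgMain

set_option autoImplicit false
set_option linter.unusedSectionVars false
set_option linter.style.haveILetI false
set_option maxHeartbeats 1000000

namespace Cfsg.Agent.SFW

open Module Cfsg Cfsg.Agent.S3Free

universe u

variable {G : Type u} [Group G]

/-- A subgroup acting cubically on an elementary abelian subgroup, bijectively between the layers. -/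
structure CfgG (W D U T : Subgroup G) : Prop where
  sq : ∀ d ∈ D, d * d ∈ Subgroup.centralizer (W : Set G)
  moves : ¬ D ≤ Subgroup.centralizer (W : Set G)
  le_W : U ≤ W
  ne : U ≠ W
  T_le : T ≤ U
  T_fx : T ≤ Subgroup.centralizer (D : Set G)
  into : ∀ d ∈ D, ∀ v ∈ W, d * v * d⁻¹ * v ∈ U
  low : ∀ d ∈ D, ∀ v ∈ U, d * v * d⁻¹ * v ∈ T
  inj : ∀ v ∈ W, v ∉ U → ∀ d ∈ D, d * v * d⁻¹ * v ∈ T → d ∈ Subgroup.centralizer (W : Set G)
  card : Nat.card D * Nat.card T =
    Nat.card ↥(D ⊓ Subgroup.centralizer (W : Set G)) * Nat.card U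

/-- No subgroup of `S` is an offender or a configuration on `W`. -/
def NoBad2 (S W : Subgroup G) : Prop :=
  ∀ D : Subgroup G, D ≤ S →
    ((∀ d ∈ D, d * d ∈ Subgroup.centralizer (W : Set G)) →
      ¬ D ≤ Subgroup.centralizer (W : Set G) →
      Nat.card D * Nat.card ↥(W ⊓ Subgroup.centralizer (D : Set G)) <
        Nat.card ↥(D ⊓ Subgroup.centralizer (W : Set G)) * Nat.card W) ∧
    ∀ U T, ¬ CfgG W D U T

/-- A centralized subgroup is harmless. -/
theorem noBad2_of_centralized {S W : Subgroup G} (h : S ≤ Subgroup.centralizer (W : Set G)) :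
    NoBad2 S W :=
  fun _ hD => ⟨fun _ hne => absurd (hD.trans h) hne, fun _ _ hC => hC.moves (hD.trans h)⟩

section Map

variable {H : Type u} [Group H] {f : G →* H} (hf : Function.Injective f)

include hf

theorem cfgG_map_iff {W D U T : Subgroup G} :
    CfgG (W.map f) (D.map f) (U.map f) (T.map f) ↔ CfgG W D U T := by
  have hmem : ∀ {x : G} {A : Subgroup G}, f x ∈ A.map f ↔ x ∈ A := fun {x A} =>
    Subgroup.mem_map_iff_mem hf
  have hc : ∀ A : Subgroup G, Nat.card (A.map f) = Nat.card A := fun A =>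
    Subgroup.card_map_of_injective hf
  have hinj := Subgroup.map_injective hf
  have he : ∀ d v : G, f (d * v * d⁻¹ * v) = f d * f v * (f d)⁻¹ * f v := fun d v => by
    simp only [map_mul, map_inv]
  constructor
  · intro h
    refine ⟨fun d hd => ?_, fun hle => h.moves ((map_le_centralizer_map hf).2 hle),
      (Subgroup.map_le_map_iff_of_injective hf).1 h.le_W, fun e => h.ne (by rw [e]),
      (Subgroup.map_le_map_iff_of_injective hf).1 h.T_le, (map_le_centralizer_map hf).1 h.T_fx,
      fun d hd v hv => ?_, fun d hd v hv => ?_, fun v hv hnot d hd hm => ?_, ?_⟩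
    · have := h.sq _ (hmem.2 hd)
      rwa [← map_mul, map_mem_centralizer_map hf] at this
    · have := h.into _ (hmem.2 hd) _ (hmem.2 hv)
      rwa [← he, hmem] at this
    · have := h.low _ (hmem.2 hd) _ (hmem.2 hv)
      rwa [← he, hmem] at this
    · exact (map_mem_centralizer_map hf).1 (h.inj _ (hmem.2 hv) (fun h' => hnot (hmem.1 h')) _
        (hmem.2 hd) (by rw [← he]; exact hmem.2 hm))
    · have := h.card
      rwa [card_inf_centralizer_map hf, hc, hc, hc] at this
  · intro h
    refine ⟨?_, fun hle => h.moves ((map_le_centralizer_map hf).1 hle), Subgroup.map_mono h.le_W,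
      fun e => h.ne (hinj e), Subgroup.map_mono h.T_le, (map_le_centralizer_map hf).2 h.T_fx,
      ?_, ?_, ?_, by rw [card_inf_centralizer_map hf, hc, hc, hc]; exact h.card⟩
    · rintro _ ⟨d, hd, rfl⟩
      rw [← map_mul, map_mem_centralizer_map hf]
      exact h.sq d hd
    · rintro _ ⟨d, hd, rfl⟩ _ ⟨v, hv, rfl⟩
      rw [← he, hmem]
      exact h.into d hd v hv
    · rintro _ ⟨d, hd, rfl⟩ _ ⟨v, hv, rfl⟩
      rw [← he, hmem]
      exact h.low d hd v hv
    · rintro _ ⟨v, hv, rfl⟩ hnot _ ⟨d, hd, rfl⟩ hm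
      rw [← he, hmem] at hm
      exact (map_mem_centralizer_map hf).2 (h.inj v hv (fun h' => hnot (hmem.2 h')) d hd hm)

theorem noBad2_map_iff {S W : Subgroup G} : NoBad2 (S.map f) (W.map f) ↔ NoBad2 S W := by
  constructor
  · intro h D hD
    obtain ⟨h1, h2⟩ := h (D.map f) (Subgroup.map_mono hD)
    refine ⟨fun hsq hne => ?_, fun U T hC => h2 _ _ ((cfgG_map_iff hf).2 hC)⟩
    have h3 := h1 (by
      rintro _ ⟨d, hd, rfl⟩
      rw [← map_mul, map_mem_centralizer_map hf]
      exact hsq d hd) (fun hle => hne ((map_le_centralizer_map hf).1 hle))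
    rwa [card_inf_centralizer_map hf, card_inf_centralizer_map hf,
      Subgroup.card_map_of_injective hf, Subgroup.card_map_of_injective hf] at h3
  · intro h D' hD'
    have hD : D' = (D'.comap f).map f :=
      (Subgroup.map_comap_eq_self (hD'.trans (Subgroup.map_le_range f S))).symm
    have hle : D'.comap f ≤ S := fun x hx => (Subgroup.mem_map_iff_mem hf).1 (hD' hx)
    obtain ⟨h1, h2⟩ := h _ hle
    rw [hD]
    refine ⟨fun hsq hne => ?_, fun U' T' hC => ?_⟩
    · have h3 := h1 (fun d hd => (map_mem_centralizer_map hf).1 (by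
        rw [map_mul]; exact hsq _ ⟨d, hd, rfl⟩)) (fun hle' => hne ((map_le_centralizer_map hf).2 hle'))
      rwa [card_inf_centralizer_map hf, card_inf_centralizer_map hf,
        Subgroup.card_map_of_injective hf, Subgroup.card_map_of_injective hf]
    · have hU : U' = (U'.comap f).map f :=
        (Subgroup.map_comap_eq_self (hC.le_W.trans (Subgroup.map_le_range f W))).symm
      have hT : T' = (T'.comap f).map f :=
        (Subgroup.map_comap_eq_self ((hC.T_le.trans hC.le_W).trans (Subgroup.map_le_range f W))).symm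
      rw [hU, hT] at hC
      exact h2 _ _ ((cfgG_map_iff hf).1 hC)

end Map

/-- The properties hold for every `2`-subgroup of the normalizer. -/
theorem NoBad2.of_normalizer [Finite G] {S : Sylow 2 G} {W : Subgroup G}
    (hS : (S : Subgroup G) ≤ Subgroup.normalizer (W : Set G)) (h : NoBad2 (S : Subgroup G) W)
    {D : Subgroup G} (hD : IsPGroup 2 D) (hDW : D ≤ Subgroup.normalizer (W : Set G)) :
    NoBad2 D W := by
  obtain ⟨P, hP⟩ := (hD.comap_of_injective (Subgroup.normalizer (W : Set G)).subtype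
    Subtype.val_injective).exists_le_sylow
  obtain ⟨m, hm⟩ := MulAction.exists_smul_eq (Subgroup.normalizer (W : Set G)) P (S.subtype hS)
  have hle : cjS (m : G) D ≤ (S : Subgroup G) := by
    rintro _ ⟨x, hx, rfl⟩
    have h1 : m * ⟨x, hDW hx⟩ * m⁻¹ ∈ ((m • P : Sylow 2 _) : Subgroup _) := by
      rw [Sylow.coe_subgroup_smul]
      exact Subgroup.smul_mem_pointwise_smul _ (MulAut.conj m) _ (hP hx)
    rw [hm, Sylow.coe_subtype, Subgroup.mem_subgroupOf] at h1
    exact h1
  have hW : cjS (m : G) W = W := mem_normalizer_iff_cjS.1 m.2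
  intro E hE
  have h1 : NoBad2 (cjS (m : G) D) (cjS (m : G) W) := by
    rw [hW]; exact fun F hF => h F (hF.trans hle)
  exact (noBad2_map_iff (f := (MulAut.conj (m : G)).toMonoidHom) (MulAut.conj (m : G)).injective).1 h1 E hE

/-- **The step**: a subgroup without offenders and configurations passes this on to its normal
closure. -/
theorem gstep2 [Finite G] (h4 : ¬ Involves (Equiv.Perm (Fin 4)) G)
    {S : Sylow 2 G} {W V : Subgroup G} [hVn : V.Normal]
    (hab : ∀ x ∈ V, ∀ y ∈ V, x * y = y * x) (hsq : ∀ x ∈ V, x * x = 1)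
    (hWV : W ≤ V) (hcl : ∀ N : Subgroup G, N.Normal → W ≤ N → V ≤ N)
    (hSW : (S : Subgroup G) ≤ Subgroup.normalizer (W : Set G)) (hW : NoBad2 (S : Subgroup G) W) :
    NoBad2 (S : Subgroup G) V := by
  classical
  letI : CommGroup V :=
    { (inferInstance : Group V) with mul_comm := fun a b => Subtype.ext (hab a a.2 b b.2) }
  letI : Module (ZMod 2) (Additive V) := AddCommGroup.zmodModule (n := 2) fun v => by
    rw [two_nsmul]
    exact Additive.toMul.injective (Subtype.ext (hsq _ (Additive.toMul v : V).2))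
  haveI : Finite (Additive V) := inferInstanceAs (Finite V)
  let ρ : G →* (Additive V ≃ₗ[ZMod 2] Additive V) :=
    { toFun := fun g =>
        { (MulAut.conjNormal g : V ≃* V).toAdditive with
          map_smul' := fun c v => ZMod.map_smul ((MulAut.conjNormal g : V ≃* V).toAdditive).toAddMonoidHom c v }
      map_one' := LinearEquiv.ext fun v => Additive.toMul.injective (by
        change MulAut.conjNormal (1 : G) (Additive.toMul v) = Additive.toMul v
        rw [map_one]; rfl)
      map_mul' := fun g h => LinearEquiv.ext fun v => Additive.toMul.injective (Subtype.ext (by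
        change ((MulAut.conjNormal (g * h) (Additive.toMul v) : V) : G) =
          ((MulAut.conjNormal g (MulAut.conjNormal h (Additive.toMul v)) : V) : G)
        rw [map_mul]; rfl)) }
  let co : Additive V → G := fun v => ((Additive.toMul v : V) : G)
  have hco : Function.Injective co := fun a b h => Additive.toMul.injective (Subtype.ext h)
  have hcoV : ∀ v, co v ∈ V := fun v => (Additive.toMul v : V).2
  have hρ : ∀ (g : G) (v : Additive V), co (ρ g v) = g * co v * g⁻¹ := fun g v =>
    MulAut.conjNormal_apply g (Additive.toMul v)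
  have hadd : ∀ v w : Additive V, co (v + w) = co v * co w := fun v w => rfl
  -- subgroups as subspaces
  let Sb : Subgroup G → Submodule (ZMod 2) (Additive V) := fun K =>
    { carrier := {v | co v ∈ K}
      add_mem' := fun {a b} ha hb => K.mul_mem ha hb
      zero_mem' := K.one_mem
      smul_mem' := fun c v hv => by
        rcases (by decide : ∀ j : ZMod 2, j = 0 ∨ j = 1) c with rfl | rfl
        · change co ((0 : ZMod 2) • v) ∈ K
          rw [zero_smul]; exact K.one_mem
        · change co ((1 : ZMod 2) • v) ∈ K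
          rw [one_smul]; exact hv }
  have hSb : ∀ {K : Subgroup G} {v : Additive V}, v ∈ Sb K ↔ co v ∈ K := fun {_ _} => Iff.rfl
  let lift : ∀ x ∈ V, Additive V := fun x hx => Additive.ofMul ⟨x, hx⟩
  have hcard : ∀ K : Subgroup G, Nat.card (Sb K) = Nat.card ↥(V ⊓ K) := fun K =>
    Nat.card_congr
      { toFun := fun v => ⟨co v, hcoV v, v.2⟩
        invFun := fun x => ⟨lift x x.2.1, x.2.2⟩
        left_inv := fun v => rfl
        right_inv := fun x => rfl }
  have hcard' : ∀ {K : Subgroup G}, K ≤ V → Nat.card (Sb K) = Nat.card K := fun {K} h => by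
    rw [hcard, inf_eq_right.2 h]
  have hfx : ∀ D : Subgroup G, fx ρ D = Sb (Subgroup.centralizer (D : Set G)) := fun D =>
    Submodule.ext fun v => by
      rw [hSb, Subgroup.mem_centralizer_iff]
      refine ⟨fun h d hd => ?_, fun h d hd => hco ?_⟩
      · have h1 := congrArg co (h d hd)
        rw [hρ] at h1
        exact mul_inv_eq_iff_eq_mul.1 h1
      · rw [hρ]
        exact mul_inv_eq_iff_eq_mul.2 (h d hd)
  have hinfx : ∀ {K : Subgroup G} (D : Subgroup G), K ≤ V →
      Nat.card ↥(Sb K ⊓ fx ρ D) = Nat.card ↥(K ⊓ Subgroup.centralizer (D : Set G)) := fun {K} D h => by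
    rw [hfx, show Sb K ⊓ Sb (Subgroup.centralizer (D : Set G)) = Sb (K ⊓ Subgroup.centralizer (D : Set G))
      from Submodule.ext fun _ => Iff.rfl, hcard' (inf_le_left.trans h)]
  have hfixer : ∀ {K : Subgroup G}, K ≤ V → fixer ρ (Sb K) = Subgroup.centralizer (K : Set G) := by
    intro K hK
    ext g
    rw [mem_fixer, Subgroup.mem_centralizer_iff]
    refine ⟨fun h x hx => ?_, fun h v hv => hco ?_⟩
    · have h1 := congrArg co (h (lift x (hK hx)) hx)
      rw [hρ] at h1
      exact (mul_inv_eq_iff_eq_mul.1 h1).symm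
    · rw [hρ]
      exact mul_inv_eq_iff_eq_mul.2 (h _ hv).symm
  have hcomm : ∀ (d : G) (v : Additive V), co (ρ d v + v) = d * co v * d⁻¹ * co v := fun d v => by
    rw [hadd, hρ]
  have hcfg : ∀ {K U T : Subgroup G} (D : Subgroup G), K ≤ V → U ≤ K → T ≤ U → D ≤ stab ρ (Sb K) →
      (CfgG K D U T ↔ CfgOn ρ (Sb K) D (Sb U) (Sb T)) := by
    intro K U T D hK hU hT hDK
    have hTV : T ≤ V := hT.trans (hU.trans hK)
    constructor
    · intro h
      refine ⟨hDK, fun d hd u hu => ?_, fun hle => h.moves (hle.trans (hfixer hK).le), fun v hv => hU hv,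
        fun he => h.ne (le_antisymm hU fun x hx => ?_), fun v hv => hT hv,
        fun v hv => ?_, fun d hd v hv => ?_, fun d hd v hv => ?_,
        fun v hv hnot d hd hm => (hfixer hK).ge (h.inj _ hv hnot d hd ?_), ?_⟩
      · exact (hfixer hK).ge (h.sq d hd) u hu
      · have h1 : lift x (hK hx) ∈ Sb U := he.ge hx
        exact h1
      · rw [hfx, hSb]; exact h.T_fx hv
      · rw [hSb, hcomm]; exact h.into d hd _ hv
      · rw [hSb, hcomm]; exact h.low d hd _ hv
      · rw [hSb, hcomm] at hm; exact hm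
      · rw [hfixer hK, hcard' hTV, hcard' (hU.trans hK)]; exact h.card
    · intro h
      refine ⟨fun d hd => (hfixer hK).le fun u hu => h.sq d hd u hu,
        fun hle => h.moves (hle.trans (hfixer hK).ge), hU, fun he => h.ne (by rw [he]), hT,
        fun x hx => ?_, fun d hd v hv => ?_, fun d hd v hv => ?_,
        fun v hv hnot d hd hm => (hfixer hK).le (h.inj (lift v (hK hv)) hv hnot d hd ?_), ?_⟩
      · have h1 : lift x (hTV hx) ∈ fx ρ D := h.T_fx (show lift x (hTV hx) ∈ Sb T from hx)
        rw [hfx] at h1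
        exact h1
      · have h1 := h.into d hd (lift v (hK hv)) hv
        rw [hSb, hcomm] at h1
        exact h1
      · have h1 := h.low d hd (lift v (hK (hU hv))) hv
        rw [hSb, hcomm] at h1
        exact h1
      · rw [hSb, hcomm]; exact hm
      · have := h.card; rwa [hfixer hK, hcard' hTV, hcard' (hU.trans hK)] at this
  -- pulling back subspaces
  let pull : Submodule (ZMod 2) (Additive V) → Subgroup G := fun U₁ =>
    { carrier := {x | ∃ hx : x ∈ V, lift x hx ∈ U₁}
      one_mem' := ⟨V.one_mem, U₁.zero_mem⟩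
      mul_mem' := fun {a b} ha hb => ⟨V.mul_mem ha.1 hb.1, U₁.add_mem ha.2 hb.2⟩
      inv_mem' := fun {a} ha => ⟨V.inv_mem ha.1, by
        have : a⁻¹ = a := inv_eq_of_mul_eq_one_right (hsq a ha.1)
        simp only [this]
        exact ha.2⟩ }
  have hpull : ∀ U₁, Sb (pull U₁) = U₁ := fun U₁ =>
    Submodule.ext fun v => ⟨fun ⟨_, h⟩ => h, fun h => ⟨hcoV v, h⟩⟩
  -- `W` is harmless
  have hstab : (S : Subgroup G) ≤ stab ρ (Sb W) := fun s hs => mem_stab_of_mem ρ fun v hv => by
    rw [hSb, hρ]
    exact (Subgroup.mem_normalizer_iff.1 (hSW hs) _).1 hv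
  have hPW : PW ρ (Sb W) := PW.of_sylow hstab fun D hD hsqD hne => by
    rw [hinfx D hWV, hfixer hWV, hcard' hWV]
    exact (hW D hD).1 (fun d hd => (hfixer hWV).le fun u hu => hsqD d hd u hu)
      (fun hle => hne (hle.trans (hfixer hWV).ge))
  have hNo : NoCfg ρ (Sb W) := NoCfg.of_sylow hstab fun D U₁ T₁ hD hC => by
    have hU' : pull U₁ ≤ W := fun x ⟨hxV, hx⟩ => hC.le_W hx
    have hT' : pull T₁ ≤ pull U₁ := fun x ⟨hxV, hx⟩ => ⟨hxV, hC.T_le hx⟩
    rw [← hpull U₁, ← hpull T₁] at hC
    exact (hW D hD).2 _ _ ((hcfg D hWV hU' hT' (hD.trans hstab)).2 hC)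
  -- the faithful group
  have htopS : Sb V = ⊤ := eq_top_iff.2 fun v _ => hcoV v
  set U : Submodule (ZMod 2) (Additive V) := ⊤ with hU
  have hKU : (⊤ : Subgroup G) ≤ stab ρ U := fun g _ => mem_stab_top g
  haveI : Finite (U ≃ₗ[ZMod 2] U) :=
    Finite.of_injective (fun e => (e : U → U)) DFunLike.coe_injective
  set r := res ρ ⊤ U hKU with hr
  have hc := compat_res ⊤ U hKU
  have hmap : ((Sb W).comap U.subtype).map U.subtype = Sb W :=
    Submodule.map_comap_eq_self (by rw [Submodule.range_subtype]; exact le_top)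
  have h3 : NoS3 r.range := by
    set C := Subgroup.centralizer (V : Set G) with hC
    let φ : G →* r.range := r.rangeRestrict.comp Subgroup.topEquiv.symm.toMonoidHom
    have hφ : C ≤ φ.ker := fun g hg => by
      refine Subtype.ext (LinearEquiv.ext fun v => Subtype.ext (hco ?_))
      change co (ρ g (v : Additive V)) = co (v : Additive V)
      rw [hρ]
      exact mul_inv_eq_iff_eq_mul.2 (Subgroup.mem_centralizer_iff.1 hg _ (hcoV _)).symm
    refine (noS3_of_not_involves h4 hab hsq).surj (f := QuotientGroup.lift C φ hφ) ?_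
    refine QuotientGroup.lift_surjective_of_surjective _ _ (fun y => ?_) _
    obtain ⟨k, hk⟩ := r.rangeRestrict_surjective y
    exact ⟨k, hk⟩
  have hS' : (((S.subtype le_top).mapSurjective r.rangeRestrict_surjective : Sylow 2 r.range) :
      Subgroup r.range) ≤ stab r.range.subtype ((Sb W).comap U.subtype) := by
    rw [Sylow.coe_mapSurjective]
    rintro _ ⟨s, hs, rfl⟩
    rw [hc.mem_stab, hmap]
    exact hstab hs
  have hgenU : ∀ U' : Submodule (ZMod 2) U, (∀ g : r.range, ∀ v ∈ U', r.range.subtype g v ∈ U') →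
      (Sb W).comap U.subtype ≤ U' → U' = ⊤ := by
    intro U' hU' hle
    let N : Subgroup G :=
      { carrier := {x | ∃ hx : x ∈ V, (⟨lift x hx, Submodule.mem_top⟩ : U) ∈ U'}
        one_mem' := ⟨V.one_mem, U'.zero_mem⟩
        mul_mem' := fun {a b} ha hb => ⟨V.mul_mem ha.1 hb.1, U'.add_mem ha.2 hb.2⟩
        inv_mem' := fun {a} ha => ⟨V.inv_mem ha.1, by
          have : a⁻¹ = a := inv_eq_of_mul_eq_one_right (hsq a ha.1)
          simp only [this]
          exact ha.2⟩ }
    have hN : N.Normal := ⟨fun x hx g => ⟨hVn.conj_mem x hx.1 g, by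
      have h1 := hU' ⟨r ⟨g, Subgroup.mem_top g⟩, ⟨_, rfl⟩⟩ _ hx.2
      convert h1 using 1
      exact Subtype.ext (hco (hρ g (lift x hx.1)).symm)⟩⟩
    refine eq_top_iff.2 fun v _ => ?_
    obtain ⟨_, h⟩ := hcl N hN (fun x hx => ⟨hWV hx, hle hx⟩) (hcoV (v : Additive V))
    exact h
  have hno := no_off Subtype.val_injective h3 hS' hgenU (hc.pw (by rwa [hmap]))
  have hgo := noCfg_of_spans Subtype.val_injective h3 hS' hgenU (hc.pw (by rwa [hmap]))
    (hc.noCfg (by rwa [hmap]))
  intro D hD
  refine ⟨fun hsqD hne => ?_, fun U₁ T₁ hC => ?_⟩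
  · have h1 := hc.pw_of_no_off Subtype.val_injective hno (D := D) le_top
      (fun d hd u _ => hco (by
        rw [hρ]
        exact mul_inv_eq_iff_eq_mul.2 (Subgroup.mem_centralizer_iff.1 (hsqD d hd) _ (hcoV u)).symm))
      (fun hle => hne (hle.trans (by rw [Submodule.range_subtype, ← htopS, hfixer le_rfl])))
    rwa [Submodule.range_subtype, ← htopS, hinfx D le_rfl, hfixer le_rfl, hcard' le_rfl] at h1
  · have h1 := hc.noCfg_of_top hgo (D := D) le_top (Sb U₁) (Sb T₁)
    rw [Submodule.range_subtype, ← htopS] at h1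
    exact h1 ((hcfg D le_rfl hC.le_W hC.T_le fun _ _ => htopS.symm ▸ mem_stab_top _).1 hC)

end Cfsg.Agent.SFW
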