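/-
**A characteristic subgroup of a `2`-group that is normal in every solvable `S₄`-free group of
characteristic two in which the `2`-group is a Sylow subgroup.**
-/
import Cfsg.Agent.Lib.S3Free.Closure.Group
import Cfsg.Agent.Lib.Solvable.Coprime
import Cfsg.Agent.Lib.Solvable.Fitting
import Cfsg.Agent.Lib.Transfer.Basic
import Cfsg.Prelude.Def_CaseTheorems

set_option autoImplicit false
set_option linter.unusedSectionVars false
set_option linter.style.haveILetI false
set_option maxHeartbeats 1000000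

namespace Cfsg.Agent.SFW

open Cfsg Cfsg.Agent.S3Free

universe u

variable {Q : Type u} [Group Q]

/-- The solvable groups used to define the subgroup. -/
structure SolClass {H : Type u} [Group H] (τ : Q →* H) : Prop where
  fin : Finite H
  sol : Group.IsSolvable H
  s4 : ¬ Involves (Equiv.Perm (Fin 4)) H
  inj : Function.Injective τ
  sylow : ∃ P : Sylow 2 H, (P : Subgroup H) = τ.range
  normal : (Cfsg.thompsonSubgroupOf 2 τ.range).Normal

variable (Q)

/-- The involutions of the centre. -/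
def z1 : Subgroup Q where
  carrier := {x | x ∈ Subgroup.center Q ∧ x * x = 1}
  one_mem' := ⟨one_mem _, one_mul 1⟩
  mul_mem' := fun {a b} ha hb => ⟨mul_mem ha.1 hb.1, by
    rw [show a * b * (a * b) = a * (b * a) * b by group, Subgroup.mem_center_iff.1 ha.1 b,
      show a * (a * b) * b = (a * a) * (b * b) by group, ha.2, hb.2, one_mul]⟩
  inv_mem' := fun {a} ha => ⟨inv_mem ha.1, by rw [← mul_inv_rev, ha.2, inv_one]⟩

/-- The involutions of the centre of the Thompson subgroup. -/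
def zJ1 : Subgroup Q where
  carrier := {x | x ∈ Cfsg.thompsonSubgroup 2 Q ∧
    x ∈ Subgroup.centralizer (Cfsg.thompsonSubgroup 2 Q : Set Q) ∧ x * x = 1}
  one_mem' := ⟨one_mem _, one_mem _, one_mul 1⟩
  mul_mem' := fun {a b} ha hb => ⟨mul_mem ha.1 hb.1, mul_mem ha.2.1 hb.2.1, by
    rw [show a * b * (a * b) = a * (b * a) * b by group,
      Subgroup.mem_centralizer_iff.1 ha.2.1 b hb.1,
      show a * (a * b) * b = (a * a) * (b * b) by group, ha.2.2, hb.2.2, one_mul]⟩
  inv_mem' := fun {a} ha => ⟨inv_mem ha.1, inv_mem ha.2.1, by rw [← mul_inv_rev, ha.2.2, inv_one]⟩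

/-- The admissible subgroups. -/
def Admissible (W : Subgroup Q) : Prop :=
  z1 Q ≤ W ∧ W ≤ zJ1 Q ∧
    ∀ (H : Type u) [Group H] (τ : Q →* H), SolClass τ → (W.map τ).Normal

/-- The smallest admissible subgroup. -/
noncomputable def wSol : Subgroup Q := sInf {W | Admissible Q W}

variable {Q}

theorem zJ1_comm {x y : Q} (hx : x ∈ zJ1 Q) (hy : y ∈ zJ1 Q) : x * y = y * x :=
  (Subgroup.mem_centralizer_iff.1 hx.2.1 y hy.1).symm

theorem z1_le_zJ1 [Finite Q] : z1 Q ≤ zJ1 Q := by
  intro x hx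
  have hxc : ∀ y, y * x = x * y := Subgroup.mem_center_iff.1 hx.1
  refine ⟨?_, Subgroup.mem_centralizer_iff.2 fun y _ => hxc y, hx.2⟩
  obtain ⟨A, hA⟩ := Thompson.exists_isMaxEAIn 2 (⊤ : Subgroup Q)
  have hAm := Thompson.isMaxEAIn_top_iff.1 hA
  let B : Subgroup Q :=
    { carrier := {b | ∃ a ∈ A, b = a ∨ b = a * x}
      one_mem' := ⟨1, one_mem _, Or.inl rfl⟩
      mul_mem' := by
        rintro b c ⟨a, ha, hb⟩ ⟨a', ha', hc⟩
        refine ⟨a * a', mul_mem ha ha', ?_⟩
        rcases hb with hb | hb <;> rcases hc with hc | hc <;> rw [hb, hc]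
        · exact Or.inl rfl
        · exact Or.inr (mul_assoc _ _ _).symm
        · exact Or.inr (by rw [mul_assoc, ← hxc a', mul_assoc])
        · exact Or.inl (by
            rw [show a * x * (a' * x) = a * (x * a') * x by group, ← hxc a',
              show a * (a' * x) * x = a * a' * (x * x) by group, hx.2, mul_one])
      inv_mem' := by
        rintro b ⟨a, ha, hb⟩
        refine ⟨a⁻¹, inv_mem ha, ?_⟩
        rcases hb with rfl | rfl
        · exact Or.inl rfl
        · exact Or.inr (by rw [mul_inv_rev, inv_eq_of_mul_eq_one_right hx.2, ← hxc]) }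
  have hB : Cfsg.IsElementaryAbelian 2 B := by
    have hc : ∀ a ∈ A, ∀ a' ∈ A, a * a' = a' * a := fun a ha a' ha' =>
      Thompson.commute_of_isElementaryAbelian hA.2.1 ha ha'
    refine ⟨.of_setLike_mul_comm ?_, ?_⟩
    · rintro b ⟨a, ha, hb⟩ c ⟨a', ha', hc'⟩
      have hh : Commute a a' := hc a ha a' ha'
      have h1 : Commute a x := hxc a
      have h2 : Commute x a' := (hxc a').symm
      rcases hb with rfl | rfl <;> rcases hc' with rfl | rfl
      · exact hh.eq
      · exact (hh.mul_right h1).eq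
      · exact (hh.mul_left h2).eq
      · exact ((hh.mul_right h1).mul_left (h2.mul_right (Commute.refl x))).eq
    · rintro b ⟨a, ha, hb⟩
      have h1 : Commute a x := hxc a
      rcases hb with rfl | rfl
      · exact hA.2.1.2 _ ha
      · rw [h1.mul_pow, hA.2.1.2 a ha, pow_two, hx.2, one_mul]
  have hAB : A ≤ B := fun a ha => ⟨a, ha, Or.inl rfl⟩
  have hxB : x ∈ B := ⟨1, one_mem _, Or.inr (one_mul x).symm⟩
  exact le_sSup (α := Subgroup Q) hAm
    ((Subgroup.eq_of_le_of_card_ge hAB (hA.2.2 B le_top hB)).symm.le hxB)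

theorem zJ1_admissible [Finite Q] : Admissible Q (zJ1 Q) := by
  refine ⟨z1_le_zJ1, le_rfl, fun H _ τ hτ => ?_⟩
  set J := Cfsg.thompsonSubgroupOf 2 τ.range
  have hJ : J = (Cfsg.thompsonSubgroup 2 Q).map τ := by
    rw [show J = Cfsg.thompsonSubgroupOf 2 ((⊤ : Subgroup Q).map τ) by rw [← MonoidHom.range_eq_map],
      Thompson.thompsonSubgroupOf_map_of_injective _ _ hτ.inj, Thompson.thompsonSubgroupOf_top]
  have hJn : J.Normal := hτ.normal
  refine ⟨?_⟩
  rintro _ ⟨x, hx, rfl⟩ g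
  have h1 : g * τ x * g⁻¹ ∈ J := hJn.conj_mem _ (hJ ▸ ⟨x, hx.1, rfl⟩) g
  rw [hJ] at h1
  obtain ⟨y, hy, hye⟩ := h1
  refine ⟨y, ⟨hy, Subgroup.mem_centralizer_iff.2 fun z hz => hτ.inj ?_, hτ.inj ?_⟩, hye⟩
  · rw [map_mul, map_mul, hye]
    have h2 : g⁻¹ * τ z * g ∈ J := by
      have := hJn.conj_mem _ (show τ z ∈ J by rw [hJ]; exact ⟨z, hz, rfl⟩) g⁻¹
      rwa [inv_inv] at this
    rw [hJ] at h2
    obtain ⟨w, hw, hwe⟩ := h2
    have h3 := congrArg τ (Subgroup.mem_centralizer_iff.1 hx.2.1 w hw)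
    rw [map_mul, map_mul, hwe] at h3
    calc τ z * (g * τ x * g⁻¹) = g * ((g⁻¹ * τ z * g) * τ x) * g⁻¹ := by group
      _ = g * (τ x * (g⁻¹ * τ z * g)) * g⁻¹ := by rw [h3]
      _ = _ := by group
  · rw [map_mul, hye, map_one, show g * τ x * g⁻¹ * (g * τ x * g⁻¹) = g * τ (x * x) * g⁻¹ by
      rw [map_mul]; group, hx.2.2, map_one, mul_one, mul_inv_cancel]

theorem wSol_le [Finite Q] : wSol Q ≤ zJ1 Q := sInf_le zJ1_admissible

theorem z1_le_wSol : z1 Q ≤ wSol Q := le_sInf fun _ h => h.1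

theorem wSol_map_normal [Finite Q] {H : Type u} [Group H] {τ : Q →* H} (hτ : SolClass τ) :
    ((wSol Q).map τ).Normal := by
  refine ⟨?_⟩
  rintro _ ⟨x, hx, rfl⟩ g
  obtain ⟨y, -, hy⟩ := (zJ1_admissible.2.2 H τ hτ).conj_mem _ ⟨x, wSol_le hx, rfl⟩ g
  refine ⟨y, Subgroup.mem_sInf.2 fun W hW => ?_, hy⟩
  obtain ⟨z, hz, hzy⟩ := (hW.2.2 H τ hτ).conj_mem _ ⟨x, Subgroup.mem_sInf.1 hx W hW, rfl⟩ g
  rw [← hy, hτ.inj.eq_iff] at hzy
  exact hzy ▸ hz

theorem wSol_ne_bot [Finite Q] [Nontrivial Q] (hQ : IsPGroup 2 Q) : wSol Q ≠ ⊥ := by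
  haveI : Fact (Nat.Prime 2) := ⟨Nat.prime_two⟩
  haveI := hQ.center_nontrivial
  obtain ⟨k, hk, hc⟩ := (hQ.to_subgroup (Subgroup.center Q)).nontrivial_iff_card.1 inferInstance
  obtain ⟨z, hz⟩ := exists_prime_orderOf_dvd_card' (G := Subgroup.center Q) 2
    (hc ▸ dvd_pow_self 2 hk.ne')
  intro h
  have h1 : (z : Q) ∈ z1 Q := ⟨z.2, by
    have := pow_orderOf_eq_one z
    rw [hz, pow_two] at this
    exact congrArg Subtype.val this⟩
  have h2 : (z : Q) ∈ (⊥ : Subgroup Q) := h ▸ z1_le_wSol h1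
  rw [show z = 1 from Subtype.ext (Subgroup.mem_bot.1 h2), orderOf_one] at hz
  omega

theorem wSol_map {R : Type u} [Group R] (e : Q ≃* R) : (wSol Q).map e.toMonoidHom = wSol R := by
  have key : ∀ {Q R : Type u} [Group Q] [Group R] (e : Q ≃* R) (W : Subgroup Q),
      Admissible Q W → Admissible R (W.map e.toMonoidHom) := by
    intro Q R _ _ e W hW
    have hJ := Thompson.thompsonSubgroup_map_equiv (p := 2) e
    have hmemJ : ∀ x : Q, e x ∈ Cfsg.thompsonSubgroup 2 R ↔ x ∈ Cfsg.thompsonSubgroup 2 Q := fun x => by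
      rw [← hJ]
      exact Subgroup.mem_map_iff_mem e.injective
    refine ⟨fun r hr => ⟨e.symm r, hW.1 ⟨Subgroup.mem_center_iff.2 fun q => e.injective ?_, e.injective ?_⟩,
      e.apply_symm_apply r⟩, ?_, fun H _ τ hτ => ?_⟩
    · rw [map_mul, map_mul, e.apply_symm_apply]
      exact Subgroup.mem_center_iff.1 hr.1 _
    · rw [map_mul, e.apply_symm_apply, map_one]
      exact hr.2
    · rintro _ ⟨x, hx, rfl⟩
      obtain ⟨h1, h2, h3⟩ := hW.2.1 hx
      refine ⟨(hmemJ x).2 h1, Subgroup.mem_centralizer_iff.2 fun r hr => ?_, ?_⟩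
      · obtain ⟨y, rfl⟩ := e.surjective r
        change e y * e x = e x * e y
        rw [← map_mul, ← map_mul, Subgroup.mem_centralizer_iff.1 h2 y ((hmemJ y).1 hr)]
      · change e x * e x = 1
        rw [← map_mul, h3, map_one]
    · rw [Subgroup.map_map]
      have hr : (τ.comp e.toMonoidHom).range = τ.range := by
        rw [MonoidHom.range_comp, MonoidHom.range_eq_top.2 e.surjective, ← MonoidHom.range_eq_map]
      exact hW.2.2 H _
        ⟨hτ.fin, hτ.sol, hτ.s4, hτ.inj.comp e.injective, by rw [hr]; exact hτ.sylow,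
          by rw [hr]; exact hτ.normal⟩
  refine le_antisymm ?_ ?_
  · rintro _ ⟨x, hx, rfl⟩
    refine Subgroup.mem_sInf.2 fun W hW => ?_
    obtain ⟨y, hy, hye⟩ := Subgroup.mem_sInf.1 hx _ (key e.symm W hW)
    change e x ∈ W
    rw [← hye]
    change e (e.symm y) ∈ W
    rwa [e.apply_symm_apply]
  · intro r hr
    refine ⟨e.symm r, Subgroup.mem_sInf.2 fun W hW => ?_, e.apply_symm_apply r⟩
    obtain ⟨y, hy, hye⟩ := Subgroup.mem_sInf.1 hr _ (key e W hW)
    rw [← hye]
    change e.symm (e y) ∈ W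
    rwa [e.symm_apply_apply]

instance wSol_characteristic : (wSol Q).Characteristic :=
  Subgroup.characteristic_iff_map_eq.2 fun e => wSol_map e

/-- The subgroup is harmless. -/
theorem noBad_wSol [Finite Q] : NoBad (⊤ : Subgroup Q) (wSol Q) := by
  classical
  have hz : NoBad (⊤ : Subgroup Q) (z1 Q) := noBad_of_centralized fun g _ =>
    Subgroup.mem_centralizer_iff.2 fun z hz => (Subgroup.mem_center_iff.1 hz.1 g).symm
  obtain ⟨W, ⟨hzW, hWle, hWn, hW⟩, hmax⟩ := Set.Finite.exists_maximal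
    (Set.toFinite {W : Subgroup Q | z1 Q ≤ W ∧ W ≤ wSol Q ∧ W.Normal ∧ NoBad (⊤ : Subgroup Q) W})
    ⟨z1 Q, le_rfl, z1_le_wSol, ⟨fun x hx g => by
      rw [Subgroup.mem_center_iff.1 hx.1 g, mul_inv_cancel_right]; exact hx⟩, hz⟩
  suffices hadm : Admissible Q W by
    rw [show wSol Q = W from le_antisymm (sInf_le (a := W) hadm) hWle]
    exact hW
  refine ⟨hzW, hWle.trans wSol_le, fun H _ τ hτ => ?_⟩
  haveI := hτ.fin
  haveI := hτ.sol
  obtain ⟨P, hP⟩ := hτ.sylow
  have hT := wSol_map_normal hτ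
  set U := Subgroup.normalClosure ((W.map τ : Subgroup H) : Set H) with hU
  have hUT : U ≤ (wSol Q).map τ := Subgroup.normalClosure_le_normal (Subgroup.map_mono hWle)
  have hPW : (P : Subgroup H) ≤ Subgroup.normalizer (W.map τ : Set H) := by
    rw [hP]
    rintro _ ⟨q, rfl⟩
    refine Subgroup.mem_normalizer_fintype ?_
    rintro _ ⟨w, hw, rfl⟩
    exact ⟨q * w * q⁻¹, hWn.conj_mem w hw q, by simp⟩
  have h1 : NoBad (P : Subgroup H) (W.map τ) := by
    rw [hP, MonoidHom.range_eq_map, noBad_map_iff hτ.inj]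
    exact hW
  have h2 := gstep hτ.s4 (V := U)
    (by
      intro x hx y hy
      obtain ⟨a, ha, rfl⟩ := hUT hx
      obtain ⟨b, hb, rfl⟩ := hUT hy
      rw [← map_mul, ← map_mul, zJ1_comm (wSol_le ha) (wSol_le hb)])
    (by
      intro x hx
      obtain ⟨a, ha, rfl⟩ := hUT hx
      rw [← map_mul, (wSol_le ha).2.2, map_one])
    Subgroup.le_normalClosure (fun N hN hle => by haveI := hN; exact Subgroup.normalClosure_le_normal hle)
    hPW h1
  have hUr : U ≤ τ.range := hUT.trans (Subgroup.map_le_range _ _)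
  have hUe : (U.comap τ).map τ = U := Subgroup.map_comap_eq_self hUr
  rw [hP, MonoidHom.range_eq_map, ← hUe, noBad_map_iff hτ.inj] at h2
  have hWU : W ≤ U.comap τ := fun w hw => Subgroup.le_normalClosure ⟨w, hw, rfl⟩
  have h3 : U.comap τ ≤ W := hmax ⟨hzW.trans hWU, fun x hx => by
    obtain ⟨a, ha, he⟩ := hUT hx
    exact hτ.inj he ▸ ha, Subgroup.Normal.comap Subgroup.normalClosure_normal τ, h2⟩ hWU
  rw [le_antisymm hWU h3, hUe]
  exact Subgroup.normalClosure_normal

/-! ### In a group -/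

variable {G : Type u} [Group G]

/-- The subgroup, inside a group. -/
noncomputable def wIn (S : Subgroup G) : Subgroup G := (wSol S).map S.subtype

theorem wIn_le (S : Subgroup G) : wIn S ≤ S := Subgroup.map_subtype_le _

theorem wIn_map {G' : Type u} [Group G'] (f : G →* G') (hf : Function.Injective f) (S : Subgroup G) :
    wIn (S.map f) = (wIn S).map f := by
  rw [wIn, wIn, ← wSol_map (S.equivMapOfInjective f hf), Subgroup.map_map, Subgroup.map_map]
  rfl

theorem wIn_normalizer [Finite G] (S : Subgroup G) :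
    Subgroup.normalizer (S : Set G) ≤ Subgroup.normalizer (wIn S : Set G) := by
  intro g hg
  rw [mem_normalizer_iff_cjS] at hg ⊢
  have h := wIn_map (MulAut.conj g).toMonoidHom (MulAut.conj g).injective S
  change wIn (cjS g S) = cjS g (wIn S) at h
  rw [hg] at h
  exact h.symm

theorem wIn_ne_bot [Finite G] {S : Subgroup G} (hS : IsPGroup 2 S) (hne : S ≠ ⊥) : wIn S ≠ ⊥ := by
  haveI : Nontrivial S := (Subgroup.nontrivial_iff_ne_bot S).2 hne
  exact fun h => wSol_ne_bot hS ((Subgroup.map_eq_bot_iff_of_injective _ S.subtype_injective).1 h)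

theorem wIn_elem {S : Subgroup G} [Finite G] {x : G} (hx : x ∈ wIn S) :
    x * x = 1 ∧ ∀ a ∈ Cfsg.thompsonSubgroupOf 2 S, a * x = x * a := by
  obtain ⟨w, hw, rfl⟩ := hx
  obtain ⟨-, h2, h3⟩ := wSol_le hw
  refine ⟨by rw [← map_mul, h3, map_one], ?_⟩
  rintro _ ⟨a, ha, rfl⟩
  rw [← map_mul, ← map_mul, Subgroup.mem_centralizer_iff.1 h2 a ha]

theorem wIn_comm {S : Subgroup G} [Finite G] {x y : G} (hx : x ∈ wIn S) (hy : y ∈ wIn S) :
    x * y = y * x := by
  obtain ⟨a, ha, rfl⟩ := hx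
  obtain ⟨b, hb, rfl⟩ := hy
  rw [← map_mul, ← map_mul, zJ1_comm (wSol_le ha) (wSol_le hb)]

theorem noBad_wIn [Finite G] (S : Subgroup G) : NoBad S (wIn S) := by
  have h := (noBad_map_iff (f := S.subtype) S.subtype_injective).2 (noBad_wSol (Q := S))
  rwa [← MonoidHom.range_eq_map, Subgroup.range_subtype] at h

theorem two_pow_le_of_lt {i j : ℕ} (h : 2 ^ i < 2 * 2 ^ j) : 2 ^ i ≤ 2 ^ j := by
  rw [← pow_succ', Nat.pow_lt_pow_iff_right (by norm_num)] at h
  exact Nat.pow_le_pow_right (by norm_num) (by omega)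

/-- The square root of an element of odd order. -/
theorem exists_sqrt {y : G} {n : ℕ} (hn : Odd n) (hy : y ^ n = 1) :
    ∃ g, g * g = y ∧ (∀ b : G, b * y = y * b → b * g = g * b) ∧
      (∀ x : G, x * y * x⁻¹ = y⁻¹ → x * g * x⁻¹ = g⁻¹) ∧ ∃ m : ℕ, g = y ^ m := by
  obtain ⟨m, rfl⟩ := hn
  refine ⟨y ^ (m + 1), ?_, fun b hb => (Commute.pow_right hb _).eq, fun x hx => ?_, _, rfl⟩
  · rw [← pow_add, show m + 1 + (m + 1) = 2 * m + 1 + 1 by omega, pow_succ, hy, one_mul]
  · rw [← conj_pow, hx, inv_pow]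

variable [Finite G] [Group.IsSolvable G]

/-- The subgroup lies in the `2`-core. -/
theorem wIn_le_pCore (h4 : ¬ Involves (Equiv.Perm (Fin 4)) G)
    (hC : Subgroup.centralizer (Cfsg.pCore 2 G : Set G) ≤ Cfsg.pCore 2 G) (S : Sylow 2 G) :
    wIn (S : Subgroup G) ≤ Cfsg.pCore 2 G := by
  classical
  haveI : Fact (Nat.Prime 2) := ⟨Nat.prime_two⟩
  by_contra hWQ
  set W := wIn (S : Subgroup G) with hW
  set O := Cfsg.pCore 2 G with hO
  haveI hOn : O.Normal := Cfsg.pCore_normal 2 G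
  have hOS : O ≤ (S : Subgroup G) := PBasic.pCore_le_sylow S
  have hO2 : IsPGroup 2 O := S.2.to_le hOS
  have hWS : W ≤ (S : Subgroup G) := wIn_le _
  have hSW : (S : Subgroup G) ≤ Subgroup.normalizer (W : Set G) :=
    Subgroup.le_normalizer.trans (wIn_normalizer _)
  have hinvo : ∀ w ∈ W, w * w = 1 := fun w hw => (wIn_elem hw).1
  set π := QuotientGroup.mk' O with hπ
  have hπs := QuotientGroup.mk'_surjective O
  have hπ1 : ∀ {g : G}, π g = 1 ↔ g ∈ O := fun {g} => QuotientGroup.eq_one_iff g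
  set K := Cfsg.pPrimeCore 2 (G ⧸ O) with hK
  haveI hKn : K.Normal := FittingCores.pPrimeCore_normal 2
  haveI : Group.IsSolvable (G ⧸ O) := Group.isSolvable_of_surjective hπs
  have hKodd : ∀ k ∈ K, Odd (orderOf k) := by
    intro k hk
    have h1 : orderOf k ∣ Nat.card K := by
      rw [← Subgroup.orderOf_mk k hk]
      exact orderOf_dvd_natCard _
    have h2 : (Nat.card K).Coprime 2 := FittingCores.pPrimeCore_coprime (G := G ⧸ O) 2
    exact (Nat.coprime_two_right.1 h2).of_dvd_nat h1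
  have hCK : Subgroup.centralizer (K : Set (G ⧸ O)) ≤ K := by
    have hF : Cfsg.fittingSubgroup (G ⧸ O) ≤ K := by
      refine (FittingCores.fitting_le_pCore_sup_pPrimeCore Nat.prime_two).trans ?_
      exact sup_le ((PBasic.pCore_quotient_pCore 2 G).le.trans bot_le) le_rfl
    exact (Subgroup.centralizer_le hF).trans (FittingCores.centralizer_fitting_le.trans hF)
  set Wb := W.map π with hWb
  have hWbsq : ∀ a ∈ Wb, a * a = 1 := by
    rintro _ ⟨w, hw, rfl⟩
    rw [← map_mul, hinvo w hw, map_one]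
  have hWbc : ∀ a ∈ Wb, ∀ b ∈ Wb, a * b = b * a := by
    rintro _ ⟨a, ha, rfl⟩ _ ⟨b, hb, rfl⟩
    rw [← map_mul, wIn_comm ha hb, map_mul]
  -- a hyperplane with a larger centralizer
  obtain ⟨B, ⟨hBW, hBC⟩, hBmax⟩ := Set.Finite.exists_maximal
    (Set.toFinite {B : Subgroup (G ⧸ O) |
      B ≤ Wb ∧ ¬ K ⊓ Subgroup.centralizer (B : Set (G ⧸ O)) ≤ Subgroup.centralizer (Wb : Set (G ⧸ O))})
    ⟨⊥, bot_le, fun h => hWQ fun w hw => by
      have hle : Wb ≤ Subgroup.centralizer (K : Set (G ⧸ O)) := fun a ha =>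
        Subgroup.mem_centralizer_iff.2 fun k hk =>
          (Subgroup.mem_centralizer_iff.1 (h ⟨hk, Subgroup.mem_centralizer_iff.2 fun b hb => by
            rw [Subgroup.mem_bot.1 hb, one_mul, mul_one]⟩) a ha).symm
      have h1 : π w ∈ K := hCK (hle ⟨w, hw, rfl⟩)
      have h2 := hKodd _ h1
      have h3 : orderOf (π w) ∣ 2 := orderOf_dvd_of_pow_eq_one (by
        rw [pow_two]; exact hWbsq _ ⟨w, hw, rfl⟩)
      refine hπ1.1 (orderOf_eq_one_iff.1 ?_)
      rcases (Nat.dvd_prime Nat.prime_two).1 h3 with h4 | h4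
      · exact h4
      · rw [h4] at h2; exact absurd h2 (by decide)⟩
  set C := K ⊓ Subgroup.centralizer (B : Set (G ⧸ O)) with hCdef
  have hWC : Wb ≤ Subgroup.normalizer (C : Set (G ⧸ O)) := fun a ha =>
    Subgroup.mem_normalizer_fintype fun k hk => ⟨hKn.conj_mem k hk.1 a,
      Subgroup.mem_centralizer_iff.2 fun b hb => by
        have hba : Commute b a := hWbc b (hBW hb) a ha
        have hbk : Commute b k := Subgroup.mem_centralizer_iff.1 hk.2 b hb
        exact ((hba.mul_right hbk).mul_right hba.inv_right).eq⟩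
  -- the hyperplane has index two
  obtain ⟨a, ha, haB, hcov⟩ : ∃ a ∈ Wb, a ∉ B ∧ ∀ c ∈ Wb, c ∈ B ∨ c * a ∈ B := by
    obtain ⟨a, ha, haB⟩ : ∃ a ∈ Wb, a ∉ B := by
      by_contra hno
      push Not at hno
      exact hBC (inf_le_right.trans (Subgroup.centralizer_le hno))
    refine ⟨a, ha, haB, fun c hc => ?_⟩
    by_contra hcon
    push Not at hcon
    obtain ⟨hcB, hcaB⟩ := hcon
    have hca : c * a = a * c := hWbc c hc a ha
    let A : Subgroup (G ⧸ O) :=
      { carrier := {z | z = 1 ∨ z = a ∨ z = c ∨ z = c * a}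
        one_mem' := Or.inl rfl
        mul_mem' := by
          have haa := hWbsq a ha
          have hcc := hWbsq c hc
          have e1 : a * (c * a) = c := by rw [hca, ← mul_assoc, haa, one_mul]
          have e2 : c * (c * a) = a := by rw [← mul_assoc, hcc, one_mul]
          have e3 : c * a * a = c := by rw [mul_assoc, haa, mul_one]
          have e4 : c * a * c = a := by rw [hca, mul_assoc, hcc, mul_one]
          have e5 : a * c = c * a := hca.symm
          have e6 : c * a * (c * a) = 1 := hWbsq _ (mul_mem hc ha)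
          intro z z' hz hz'
          rcases hz with h | h | h | h <;> rcases hz' with h' | h' | h' | h' <;> rw [h, h'] <;>
            simp [haa, hcc, e1, e2, e3, e4, e5, e6]
        inv_mem' := by
          intro z hz
          have hzW : z ∈ Wb := by
            rcases hz with rfl | rfl | rfl | rfl
            exacts [one_mem _, ha, hc, mul_mem hc ha]
          rwa [inv_eq_of_mul_eq_one_right (hWbsq z hzW)] }
    have hAW : A ≤ Wb := by
      rintro z (rfl | rfl | rfl | rfl)
      exacts [one_mem _, ha, hc, mul_mem hc ha]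
    haveI : IsMulCommutative A := .of_setLike_mul_comm fun x hx y hy => hWbc x (hAW hx) y (hAW hy)
    have hA2 : IsPGroup 2 A := fun z => ⟨1, Subtype.ext (by
      rw [pow_one, pow_two]; exact hWbsq _ (hAW z.2))⟩
    have hnc : ¬ IsCyclic A := by
      intro hcy
      obtain ⟨z, hz⟩ := hcy.exists_generator
      have hz2 : (z : G ⧸ O) * z = 1 := hWbsq _ (hAW z.2)
      have hall : ∀ w : A, w = 1 ∨ w = z := by
        intro w
        obtain ⟨i, rfl⟩ := Subgroup.mem_zpowers_iff.1 (hz w)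
        have h2 : z ^ (2 : ℤ) = 1 := Subtype.ext (by rw [zpow_two]; exact hz2)
        rcases Int.emod_two_eq_zero_or_one i with h | h
        · left
          rw [← Int.mul_ediv_add_emod i 2, h, add_zero, zpow_mul, h2, one_zpow]
        · right
          rw [← Int.mul_ediv_add_emod i 2, h, zpow_add, zpow_mul, h2, one_zpow, one_mul, zpow_one]
      have h1 : (⟨a, Or.inr (Or.inl rfl)⟩ : A) ≠ 1 := fun h => haB (by
        rw [show a = 1 from congrArg Subtype.val h]; exact B.one_mem)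
      have h2 : (⟨c, Or.inr (Or.inr (Or.inl rfl))⟩ : A) ≠ 1 := fun h => hcB (by
        rw [show c = 1 from congrArg Subtype.val h]; exact B.one_mem)
      have h3 := ((hall _).resolve_left h1).trans ((hall _).resolve_left h2).symm
      refine hcaB ?_
      rw [show a = c from congrArg Subtype.val h3, hWbsq c hc]
      exact B.one_mem
    have hcop : (Nat.card A).Coprime (Nat.card C) := by
      obtain ⟨k, hk⟩ := IsPGroup.iff_card.1 hA2
      rw [hk]
      refine Nat.Coprime.pow_left _ (Nat.coprime_two_left.2 ?_)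
      exact (Nat.coprime_two_right.1 (FittingCores.pPrimeCore_coprime (G := G ⧸ O) 2)).of_dvd_nat
        (Subgroup.card_dvd_of_le inf_le_left)
    refine hBC ?_
    rw [← CoprimeAct.generated_by_centralizers (A := A) (K := C) hnc (hAW.trans hWC) hcop]
    refine iSup₂_le fun z hz => ?_
    have hzB : z ∉ B := by
      rcases hz.1 with rfl | rfl | rfl | rfl
      exacts [absurd rfl hz.2, haB, hcB, hcaB]
    by_contra hne
    refine hzB (hBmax ⟨sup_le hBW (Subgroup.zpowers_le.2 (hAW hz.1)), fun hle => hne fun k hk => hle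
      ⟨hk.1.1, Subgroup.le_centralizer_iff.1 (sup_le (fun b hb => Subgroup.mem_centralizer_iff.2 ?_)
        (Subgroup.zpowers_le.2 (Subgroup.mem_centralizer_iff.2 ?_))) (Subgroup.mem_zpowers k)⟩⟩
      le_sup_left (Subgroup.mem_sup_right (Subgroup.mem_zpowers z)))
    · intro k' hk'
      obtain ⟨i, rfl⟩ := Subgroup.mem_zpowers_iff.1 hk'
      exact ((Commute.zpow_left (Subgroup.mem_centralizer_iff.1 hk.1.2 b hb).symm i)).eq
    · intro k' hk'
      obtain ⟨i, rfl⟩ := Subgroup.mem_zpowers_iff.1 hk'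
      exact ((Commute.zpow_left (Subgroup.mem_centralizer_singleton_iff.1 hk.2) i)).eq
  obtain ⟨k, hk, hka⟩ : ∃ k ∈ C, a * k ≠ k * a := by
    by_contra hno
    push Not at hno
    refine hBC fun k hk => Subgroup.mem_centralizer_iff.2 fun c hc => ?_
    have hb : ∀ b ∈ B, Commute b k := fun b hb => Subgroup.mem_centralizer_iff.1 hk.2 b hb
    rcases hcov c hc with h | h
    · exact (hb c h).eq
    · have h1 : c = (c * a) * a := by rw [mul_assoc, hWbsq a ha, mul_one]
      rw [h1]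
      exact ((hb _ h).mul_left (show Commute a k from hno k hk)).eq
  have ha' : a⁻¹ = a := inv_eq_of_mul_eq_one_right (hWbsq a ha)
  set yb := a * k * a * k⁻¹ with hyb
  have hybC : yb ∈ C := C.mul_mem (by
    have := (Subgroup.mem_normalizer_iff.1 (hWC ha) k).1 hk
    rwa [ha'] at this) (C.inv_mem hk)
  have hyb1 : yb ≠ 1 := fun h => hka (by
    calc a * k = a * k * a * k⁻¹ * k * a⁻¹ := by group
      _ = k * a := by rw [← hyb, h, one_mul, ha'])
  -- lifting
  set W₁ := W ⊓ B.comap π with hW₁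
  have hBimg : ∀ b ∈ B, ∃ w ∈ W₁, π w = b := fun b hb => by
    obtain ⟨w, hw, rfl⟩ := hBW hb
    exact ⟨w, ⟨hw, hb⟩, rfl⟩
  obtain ⟨x, hx, hxa⟩ := ha
  have hxW₁ : x ∉ W₁ := fun h => haB (hxa ▸ h.2)
  have hx2 : x * x = 1 := hinvo x hx
  obtain ⟨k₀, hk₀⟩ := hπs k
  set e := x * (k₀ * x * k₀⁻¹) with he
  have heb : π e = yb := by
    have hk₀' : π k₀ = k := hk₀
    rw [he, hyb]; simp only [map_mul, map_inv, hxa, hk₀', mul_assoc]
  have hxinv : x * e * x⁻¹ = e⁻¹ := by
    have hxi : x⁻¹ = x := inv_eq_of_mul_eq_one_right hx2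
    rw [he]
    calc x * (x * (k₀ * x * k₀⁻¹)) * x⁻¹ = (x * x) * (k₀ * x * k₀⁻¹) * x⁻¹ := by group
      _ = k₀ * x⁻¹ * k₀⁻¹ * x⁻¹ := by rw [hx2, one_mul, hxi]
      _ = _ := by group
  obtain ⟨i, o, ho, hio⟩ : ∃ i o : ℕ, Odd o ∧ orderOf e = 2 ^ i * o := by
    obtain ⟨i, o, ho, h⟩ := Nat.exists_eq_pow_mul_and_not_dvd (orderOf_pos e).ne' 2 (by norm_num)
    exact ⟨i, o, Nat.odd_iff.2 (by omega), h⟩
  have hcop : Nat.Coprime (2 ^ i) o := Nat.Coprime.pow_left _ (Nat.coprime_two_left.2 ho)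
  obtain ⟨j, hj2, hj1⟩ := Nat.chineseRemainder hcop 0 1
  set y := e ^ j with hy
  have hyo : y ^ o = 1 := by
    obtain ⟨t, ht⟩ := Nat.modEq_zero_iff_dvd.1 hj2
    rw [hy, ← pow_mul, ht, mul_right_comm, ← hio, pow_mul, pow_orderOf_eq_one, one_pow]
  have hyb' : π y = yb := by
    have h1 : orderOf yb ∣ o := by
      refine Nat.Coprime.dvd_of_dvd_mul_left ?_ (m := 2 ^ i) (hio ▸ heb ▸ orderOf_map_dvd π e)
      exact Nat.Coprime.pow_right _ (Nat.coprime_two_right.2 (hKodd yb hybC.1))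
    rw [hy, map_pow, heb]
    conv_rhs => rw [← pow_one yb]
    exact (pow_eq_pow_iff_modEq.2 (hj1.of_dvd h1))
  have hxy : x * y * x⁻¹ = y⁻¹ := by rw [hy, ← conj_pow, hxinv, inv_pow]
  obtain ⟨g, hg, hgc, hgx, hgpow⟩ := exists_sqrt ho hyo
  have hgx' := hgx x hxy
  -- `W₁` centralizes `g` modulo the core
  have hgW₁ : ∀ w ∈ W₁, g * w * g⁻¹ * w⁻¹ ∈ O ∧ g⁻¹ * w * g * w⁻¹ ∈ O := by
    intro w hw
    obtain ⟨m, hm⟩ := hgpow
    have h1 : Commute (π w) (π g) := by
      rw [hm, map_pow]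
      exact Commute.pow_right (show Commute (π w) (π y) by
        rw [hyb']; exact Subgroup.mem_centralizer_iff.1 hybC.2 _ hw.2) _
    constructor
    · rw [← hπ1]
      simp only [map_mul, map_inv]
      rw [h1.symm.eq]; group
    · rw [← hπ1]
      simp only [map_mul, map_inv]
      rw [mul_assoc (π g)⁻¹, h1.eq]; group
  have hW₁S : ∀ w ∈ W₁, g * w * g⁻¹ ∈ (S : Subgroup G) ∧ g⁻¹ * w * g ∈ (S : Subgroup G) := by
    intro w hw
    obtain ⟨h1, h2⟩ := hgW₁ w hw
    constructor
    · simpa [mul_assoc] using (S : Subgroup G).mul_mem (hOS h1) (hWS hw.1)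
    · simpa [mul_assoc] using (S : Subgroup G).mul_mem (hOS h2) (hWS hw.1)
  have hgy : g * y = y * g := by rw [← hg, mul_assoc]
  set x' := g * x * g⁻¹ with hx'
  have hx'yx : x' = y * x := by
    calc x' = g * (x * g⁻¹ * x⁻¹) * x := by rw [hx']; group
      _ = g * (x * g * x⁻¹)⁻¹ * x := by group
      _ = y * x := by rw [hgx', inv_inv, hg]
  set W' := cjS g W with hW'
  set D := cjS g W₁ with hD
  have hDS : D ≤ (S : Subgroup G) := by
    rintro _ ⟨w, hw, rfl⟩
    exact (hW₁S w hw).1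
  have hDS' : cjS g⁻¹ W₁ ≤ (S : Subgroup G) := by
    rintro _ ⟨w, hw, rfl⟩
    simpa [MulAut.conj_apply] using (hW₁S w hw).2
  have hDW' : D ≤ W' := cjS_mono g inf_le_left
  have hW'c : ∀ u ∈ W', ∀ v ∈ W', u * v = v * u := by
    rintro _ ⟨u, hu, rfl⟩ _ ⟨v, hv, rfl⟩
    rw [← map_mul, wIn_comm hu hv, map_mul]
  have hT0 : ∀ t ∈ W, t ∈ W' → t ∈ W₁ := by
    rintro _ ht ⟨u, hu, rfl⟩
    refine ⟨ht, ?_⟩
    have hu₁ : u ∈ W₁ := by
      refine ⟨hu, ?_⟩
      rcases hcov (π u) ⟨u, hu, rfl⟩ with h | h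
      · exact h
      exfalso
      have hux : u * x ∈ W₁ := ⟨mul_mem hu hx, by
        change π (u * x) ∈ B
        rw [map_mul, hxa]; exact h⟩
      have h1 : g * (u * x) * g⁻¹ * (u * x)⁻¹ ∈ O := (hgW₁ _ hux).1
      -- then `y` lies in `W O`
      have h2 : π y ∈ Wb := by
        have h3 : π (g * u * g⁻¹) * π x' = π (u * x) := by
          rw [← map_mul, ← mul_inv_eq_one, ← map_inv, ← map_mul, hπ1, hx']
          simpa [mul_assoc] using h1
        have hgu : π (g * u * g⁻¹) ∈ Wb := ⟨_, ht, rfl⟩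
        have h5 : π x' ∈ Wb := by
          have h6 : π x' = (π (g * u * g⁻¹))⁻¹ * π (u * x) := by rw [← h3]; group
          rw [h6]
          exact mul_mem (inv_mem hgu) ⟨_, mul_mem hu hx, rfl⟩
        have h7 : π y = π x' * π x := by
          rw [hx'yx, ← map_mul, mul_assoc, hx2, mul_one]
        rw [h7]
        exact mul_mem h5 ⟨x, hx, rfl⟩
      rw [hyb'] at h2
      have h8 : orderOf yb ∣ 2 := orderOf_dvd_of_pow_eq_one (by rw [pow_two]; exact hWbsq _ h2)
      rcases (Nat.dvd_prime Nat.prime_two).1 h8 with h9 | h9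
      · exact hyb1 (orderOf_eq_one_iff.1 h9)
      · exact absurd (h9 ▸ hKodd yb hybC.1) (by decide)
    change π (g * u * g⁻¹) ∈ B
    have h1 : π (g * u * g⁻¹) = π u := by
      rw [← mul_inv_eq_one, ← map_inv, ← map_mul, hπ1]
      exact (hgW₁ u hu₁).1
    rw [h1]
    exact hu₁.2
  -- commutators
  have hWW : ∀ d ∈ D, ∀ v ∈ W₁, d * v * d⁻¹ * v ∈ W ∧ d * v * d⁻¹ * v ∈ W' := by
    intro d hd v hv
    refine ⟨W.mul_mem ((Subgroup.mem_normalizer_iff.1 (hSW (hDS hd)) v).1 hv.1) hv.1, ?_⟩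
    have hvN : v ∈ Subgroup.normalizer (W' : Set G) := by
      refine Subgroup.mem_normalizer_fintype fun u hu => ?_
      obtain ⟨w, hw, rfl⟩ := hu
      have h1 : g⁻¹ * v * g ∈ Subgroup.normalizer (W : Set G) := hSW (hW₁S v hv).2
      refine ⟨_, (Subgroup.mem_normalizer_iff.1 h1 w).1 hw, ?_⟩
      simp [MulAut.conj_apply, mul_assoc]
    have h2 := W'.mul_mem (hDW' hd) ((Subgroup.mem_normalizer_iff.1 hvN _).1 (W'.inv_mem (hDW' hd)))
    rw [inv_eq_of_mul_eq_one_right (hinvo v hv.1)] at h2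
    simpa [mul_assoc] using h2
  have hcW₁ : Nat.card W = 2 * Nat.card W₁ := by
    have hidx : W₁.relIndex W = 2 := by
      rw [Subgroup.relIndex, Subgroup.index_eq_two_iff]
      refine ⟨⟨x, hx⟩, fun w => ?_⟩
      rcases hcov (π w) ⟨w, w.2, rfl⟩ with h | h
      · refine Or.inr ⟨⟨w.2, h⟩, fun h' => hxW₁ ?_⟩
        have := W₁.mul_mem (W₁.inv_mem (show (w : G) ∈ W₁ from ⟨w.2, h⟩)) h'
        simpa [Subgroup.mem_subgroupOf, mul_assoc] using this
      · refine Or.inl ⟨⟨mul_mem w.2 hx, by change π ((w : G) * x) ∈ B; rw [map_mul, hxa]; exact h⟩,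
          fun h' => ?_⟩
        have h1 : (w : G) * x ∈ W₁ := ⟨mul_mem w.2 hx, by
          change π ((w : G) * x) ∈ B; rw [map_mul, hxa]; exact h⟩
        have := W₁.mul_mem (W₁.inv_mem h') h1
        exact hxW₁ (by simpa [mul_assoc] using this)
    rw [← hidx, Nat.mul_comm, ← Nat.card_congr (Subgroup.subgroupOfEquivOfLe (inf_le_left : W₁ ≤ W)).toEquiv]
    exact (Subgroup.card_mul_index _).symm
  have hcD : Nat.card D = Nat.card W₁ := Subgroup.card_map_of_injective (MulAut.conj g).injective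
  have hcW' : Nat.card W' = Nat.card W := Subgroup.card_map_of_injective (MulAut.conj g).injective
  have hpow : ∀ {T : Subgroup G}, T ≤ (S : Subgroup G) → ∃ i, Nat.card T = 2 ^ i := fun h =>
    IsPGroup.iff_card.1 (S.2.to_le h)
  have hPW := noBad_wIn (S : Subgroup G)
  rw [← hW] at hPW
  set CW := Subgroup.centralizer (W : Set G)
  set CD := Subgroup.centralizer (D : Set G)
  set CW₁ := Subgroup.centralizer (W₁ : Set G)
  set CW' := Subgroup.centralizer (W' : Set G)
  have hsqD : ∀ d ∈ D, d * d ∈ CW := by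
    rintro _ ⟨w, hw, rfl⟩
    rw [← map_mul, hinvo w hw.1, map_one]
    exact one_mem _
  have hmem : ∀ {t : G} {A : Subgroup G}, g * t * g⁻¹ ∈ Subgroup.centralizer (cjS g A : Set G) ↔
      t ∈ Subgroup.centralizer (A : Set G) := fun {t A} =>
    map_mem_centralizer_map (f := (MulAut.conj g).toMonoidHom) (MulAut.conj g).injective
  set D₀ := cjS g⁻¹ W₁ with hD₀
  have hD₀g : cjS g D₀ = W₁ := by rw [hD₀, ← cjS_mul, mul_inv_cancel, cjS_one]
  -- the two inequalities
  have key1 : ¬ D ≤ CW → Nat.card ↥(W ⊓ CD) ≤ Nat.card ↥(D ⊓ CW) := by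
    intro hne
    have h1 := (hPW D hDS).1 hsqD hne
    rw [hcD, hcW₁] at h1
    obtain ⟨i, hi⟩ := hpow ((inf_le_left : W ⊓ CD ≤ W).trans hWS)
    obtain ⟨j, hj⟩ := hpow ((inf_le_left : D ⊓ CW ≤ D).trans hDS)
    rw [hi, hj] at h1 ⊢
    refine two_pow_le_of_lt ?_
    refine Nat.lt_of_mul_lt_mul_left (a := Nat.card W₁) ?_
    linarith
  have key2 : ¬ W₁ ≤ CW' → Nat.card ↥(W' ⊓ CW₁) ≤ Nat.card ↥(W₁ ⊓ CW') := by
    intro hne
    have hne0 : ¬ D₀ ≤ CW := fun h => hne (by
      rw [← hD₀g]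
      exact (map_le_centralizer_map (f := (MulAut.conj g).toMonoidHom) (MulAut.conj g).injective).2 h)
    have h1 := (hPW D₀ hDS').1 (by
      rintro _ ⟨w, hw, rfl⟩
      rw [← map_mul, hinvo w hw.1, map_one]
      exact one_mem _) hne0
    have hc1 : Nat.card ↥(W' ⊓ CW₁) = Nat.card ↥(W ⊓ Subgroup.centralizer (D₀ : Set G)) := by
      have := card_inf_centralizer_map (f := (MulAut.conj g).toMonoidHom) (MulAut.conj g).injective W D₀
      change Nat.card ↥(cjS g W ⊓ Subgroup.centralizer (cjS g D₀ : Set G)) = _ at this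
      rwa [hD₀g] at this
    have hc2 : Nat.card ↥(W₁ ⊓ CW') = Nat.card ↥(D₀ ⊓ CW) := by
      have := card_inf_centralizer_map (f := (MulAut.conj g).toMonoidHom) (MulAut.conj g).injective D₀ W
      change Nat.card ↥(cjS g D₀ ⊓ Subgroup.centralizer (cjS g W : Set G)) = _ at this
      rwa [hD₀g] at this
    rw [show Nat.card D₀ = Nat.card W₁ from Subgroup.card_map_of_injective (MulAut.conj g⁻¹).injective,
      hcW₁] at h1
    obtain ⟨i, hi⟩ := hpow ((inf_le_left : W ⊓ Subgroup.centralizer (D₀ : Set G) ≤ W).trans hWS)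
    obtain ⟨j, hj⟩ := hpow ((inf_le_left : D₀ ⊓ CW ≤ D₀).trans hDS')
    rw [hc1, hc2]
    rw [hi, hj] at h1 ⊢
    refine two_pow_le_of_lt ?_
    refine Nat.lt_of_mul_lt_mul_left (a := Nat.card W₁) ?_
    linarith
  have c1 : D ⊓ CW ≤ D ⊓ CW₁ := inf_le_inf_left _ (Subgroup.centralizer_le fun v hv => hv.1)
  have c2 : D ⊓ CW₁ ≤ W' ⊓ CW₁ := inf_le_inf_right _ hDW'
  have c3 : W₁ ⊓ CW' ≤ W₁ ⊓ CD := inf_le_inf_left _ (Subgroup.centralizer_le hDW')
  have c4 : W₁ ⊓ CD ≤ W ⊓ CD := inf_le_inf_right _ inf_le_left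
  by_cases hDc : D ≤ CW
  · -- then the whole configuration centralizes the core
    have hW₁c : W₁ ≤ CW' := by
      by_contra hne
      have h1 := key2 hne
      have h2 := Subgroup.card_le_of_le (c1.trans c2)
      rw [inf_eq_left.2 hDc, hcD] at h2
      exact hne ((Subgroup.eq_of_le_of_card_ge inf_le_left (h2.trans h1)).symm.le.trans inf_le_right)
    have hq : ∀ q ∈ O, y * q * y⁻¹ = q := by
      intro q hq
      have hstep : ∀ q ∈ O, ∃ z₀ ∈ O ⊓ W, ∃ z₁ ∈ O ⊓ W', y * q * y⁻¹ = z₁ * z₀ * q := by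
        intro q hq
        have hq' : g⁻¹ * q * g ∈ O := by simpa using hOn.conj_mem q hq g⁻¹
        have hxi : x⁻¹ = x := inv_eq_of_mul_eq_one_right hx2
        have h0 : ∀ q ∈ O, x * q * x⁻¹ * q⁻¹ ∈ O ⊓ W := fun q hq =>
          ⟨O.mul_mem (hOn.conj_mem q hq x) (O.inv_mem hq), by
            have h2 := W.mul_mem hx ((Subgroup.mem_normalizer_iff.1 (hSW (hOS hq)) _).1 (W.inv_mem hx))
            simpa [mul_assoc] using h2⟩
        set z₀ := x * q * x⁻¹ * q⁻¹ with hz₀
        have hz₀m := h0 q hq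
        set p := g⁻¹ * (x * q * x⁻¹) * g with hp
        have hpO : p ∈ O := by
          rw [hp]; simpa [mul_assoc] using hOn.conj_mem _ (hOn.conj_mem q hq x) g⁻¹
        have hz₁ := h0 p hpO
        refine ⟨z₀, hz₀m, g * (x * p * x⁻¹ * p⁻¹) * g⁻¹, ⟨hOn.conj_mem _ hz₁.1 g,
          ⟨_, hz₁.2, rfl⟩⟩, ?_⟩
        have hyx : y = x' * x := by rw [hx'yx, mul_assoc, hx2, mul_one]
        rw [hyx, hz₀, hp, hx']
        group
      obtain ⟨z₀, hz₀, z₁, hz₁, he⟩ := hstep q hq
      have hz₀W₁ : z₀ ∈ W₁ := ⟨hz₀.2, by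
        change π z₀ ∈ B
        rw [hπ1.2 hz₀.1]; exact one_mem _⟩
      have hz₁D : z₁ ∈ D := by
        obtain ⟨w, hw, hwe⟩ := hz₁.2
        refine ⟨w, ⟨hw, ?_⟩, hwe⟩
        have hwO : w ∈ O := by
          have := hOn.conj_mem z₁ hz₁.1 g⁻¹
          rw [← hwe] at this
          simpa [MulAut.conj_apply, mul_assoc] using this
        change π w ∈ B
        rw [hπ1.2 hwO]; exact one_mem _
      have hx'W' : x' ∈ W' := ⟨x, hx, rfl⟩
      have hz₀y : Commute y z₀ := by
        have h1 : Commute x' z₀ := Subgroup.mem_centralizer_iff.1 (hW₁c hz₀W₁) x' hx'W'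
        have h2 : Commute x z₀ := wIn_comm hx hz₀.2
        rw [show y = x' * x by rw [hx'yx, mul_assoc, hx2, mul_one]]
        exact h1.mul_left h2
      have hz₁y : Commute y z₁ := by
        have h1 : Commute x' z₁ := hW'c x' hx'W' z₁ hz₁.2
        have h2 : Commute x z₁ := Subgroup.mem_centralizer_iff.1 (hDc hz₁D) x hx
        rw [show y = x' * x by rw [hx'yx, mul_assoc, hx2, mul_one]]
        exact h1.mul_left h2
      set z := z₁ * z₀ with hz
      have hzy : Commute y z := hz₁y.mul_right hz₀y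
      have hn : ∀ n : ℕ, y ^ n * q * (y ^ n)⁻¹ = z ^ n * q := by
        intro n
        induction n with
        | zero => simp
        | succ n ih =>
          calc y ^ (n + 1) * q * (y ^ (n + 1))⁻¹ = y * (y ^ n * q * (y ^ n)⁻¹) * y⁻¹ := by
                rw [pow_succ']; group
            _ = (y * z ^ n) * q * y⁻¹ := by rw [ih]; group
            _ = z ^ n * (y * q * y⁻¹) := by rw [(hzy.pow_right n).eq]; group
            _ = _ := by rw [he, pow_succ]; group
      have hzo : z ^ o = 1 := by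
        have := hn o
        rw [hyo] at this
        simpa using this.symm
      have hzO : z ∈ O := O.mul_mem hz₁.1 hz₀.1
      obtain ⟨m, hm⟩ := hO2 ⟨z, hzO⟩
      have hzm : z ^ 2 ^ m = 1 := congrArg Subtype.val hm
      have h1 : orderOf z = 1 := Nat.eq_one_of_dvd_coprimes
        (Nat.Coprime.pow_left m (Nat.coprime_two_left.2 ho))
        (orderOf_dvd_of_pow_eq_one hzm) (orderOf_dvd_of_pow_eq_one hzo)
      rw [he, orderOf_eq_one_iff.1 h1, one_mul]
    have hyO : y ∈ O := hC (Subgroup.mem_centralizer_iff.2 fun q h => (mul_inv_eq_iff_eq_mul.1 (hq q h)).symm)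
    exact hyb1 (hyb' ▸ hπ1.2 hyO)
  -- all the numbers agree
  have h1 := key1 hDc
  have hW₁c : ¬ W₁ ≤ CW' := by
    intro h
    have h2 := Subgroup.card_le_of_le (c3.trans c4)
    rw [inf_eq_left.2 h, ← hcD] at h2
    exact hDc ((Subgroup.eq_of_le_of_card_ge inf_le_left (h2.trans h1)).symm.le.trans inf_le_right)
  have h2 := key2 hW₁c
  have k1 := Subgroup.card_le_of_le c1
  have k2 := Subgroup.card_le_of_le c2
  have k3 := Subgroup.card_le_of_le c3
  have k4 := Subgroup.card_le_of_le c4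
  have e4 : W₁ ⊓ CD = W ⊓ CD := Subgroup.eq_of_le_of_card_ge c4 (by omega)
  have e3 : W₁ ⊓ CW' = W₁ ⊓ CD := Subgroup.eq_of_le_of_card_ge c3 (by omega)
  refine (hPW D hDS).2 W₁ ⟨hsqD, hDc, inf_le_left, hcW₁, fun d hd v hv => ?_, fun d hd v hv => ?_,
    fun v hv hnot d hd hm => ?_, ?_⟩
  · refine ⟨W.mul_mem ((Subgroup.mem_normalizer_iff.1 (hSW (hDS hd)) v).1 hv) hv, ?_⟩
    change π (d * v * d⁻¹ * v) ∈ B
    obtain ⟨w, hw, rfl⟩ := hd
    have h3 : π (MulAut.conj g w) = π w := by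
      rw [← mul_inv_eq_one, ← map_inv, ← map_mul, hπ1]
      exact (hgW₁ w hw).1
    rw [show (MulAut.conj g).toMonoidHom w = MulAut.conj g w from rfl, map_mul, map_mul, map_mul,
      map_inv, h3, ← map_mul π w v, wIn_comm hw.1 hv, map_mul, mul_inv_cancel_right, ← map_mul,
      hinvo v hv, map_one]
    exact one_mem _
  · exact Subgroup.mem_centralizer_iff.2 fun d' hd' => hW'c d' (hDW' hd') _ (hWW d hd v hv).2
  · -- `d` commutes with `x`, hence lies in `W`
    have hvx : v * x ∈ W₁ := by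
      refine ⟨mul_mem hv hx, ?_⟩
      change π (v * x) ∈ B
      rw [map_mul, hxa]
      exact (hcov (π v) ⟨v, hv, rfl⟩).resolve_left fun h => hnot ⟨hv, h⟩
    have hd2 : d⁻¹ = d := by
      refine inv_eq_of_mul_eq_one_right ?_
      obtain ⟨w, hw, rfl⟩ := hd
      rw [← map_mul, hinvo w hw.1, map_one]
    set c := d * x * d⁻¹ * x with hc
    have hcWc : c ∈ W := W.mul_mem ((Subgroup.mem_normalizer_iff.1 (hSW (hDS hd)) x).1 hx) hx
    have hcD' : c ∈ CD := by
      have h3 : c = (d * v * d⁻¹ * v) * (d * (v * x) * d⁻¹ * (v * x)) := by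
        have hdv : d * v * d⁻¹ ∈ W := (Subgroup.mem_normalizer_iff.1 (hSW (hDS hd)) v).1 hv
        have hdvx : d * (v * x) * d⁻¹ ∈ W :=
          (Subgroup.mem_normalizer_iff.1 (hSW (hDS hd)) _).1 (mul_mem hv hx)
        calc c = (d * v * d⁻¹) * (d * v * d⁻¹) * (d * x * d⁻¹) * x * (v * v) := by
              rw [hinvo _ hdv, hinvo v hv, one_mul, mul_one]
          _ = (d * v * d⁻¹) * ((d * (v * x) * d⁻¹) * (x * v)) * v := by group
          _ = (d * v * d⁻¹) * ((d * (v * x) * d⁻¹ * (v * x)) * v) := by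
              rw [wIn_comm hx hv]; group
          _ = (d * v * d⁻¹) * (v * (d * (v * x) * d⁻¹ * (v * x))) := by
              rw [wIn_comm (W.mul_mem hdvx (mul_mem hv hx)) hv]
          _ = _ := by group
      rw [h3]
      refine CD.mul_mem hm ?_
      exact Subgroup.mem_centralizer_iff.2 fun d' hd' => hW'c d' (hDW' hd') _ (hWW d hd _ hvx).2
    have hc1 : c ∈ W₁ ⊓ CW' := e3.symm ▸ e4.symm ▸ (⟨hcWc, hcD'⟩ : c ∈ W ⊓ CD)
    have hcx : Commute x c := wIn_comm hx hcWc
    have hcx' : Commute x' c := Subgroup.mem_centralizer_iff.1 hc1.2 x' ⟨x, hx, rfl⟩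
    have hdx' : Commute x' d := hW'c x' ⟨x, hx, rfl⟩ d (hDW' hd)
    have hyd : y * d * y⁻¹ = c * d := by
      have hxi : x⁻¹ = x := inv_eq_of_mul_eq_one_right hx2
      have h5 : x * d * x⁻¹ = c * d := by
        calc x * d * x⁻¹ = x * (d * x * d⁻¹) * d := by rw [hxi]; group
          _ = x * (c * x) * d := by rw [hc, mul_assoc (d * x * d⁻¹) x x, hx2, mul_one]
          _ = (x * x) * c * d := by rw [show c * x = x * c from hcx.eq.symm]; group
          _ = c * d := by rw [hx2, one_mul]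
      rw [show y = x' * x by rw [hx'yx, mul_assoc, hx2, mul_one],
        show x' * x * d * (x' * x)⁻¹ = x' * (x * d * x⁻¹) * x'⁻¹ by group, h5,
        (hcx'.mul_right hdx').eq, mul_inv_cancel_right]
    have hcy : Commute y c := by
      rw [show y = x' * x by rw [hx'yx, mul_assoc, hx2, mul_one]]
      exact hcx'.mul_left hcx
    have hn : ∀ n : ℕ, y ^ n * d * (y ^ n)⁻¹ = c ^ n * d := by
      intro n
      induction n with
      | zero => simp
      | succ n ih =>
        calc y ^ (n + 1) * d * (y ^ (n + 1))⁻¹ = y * (y ^ n * d * (y ^ n)⁻¹) * y⁻¹ := by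
              rw [pow_succ']; group
          _ = (y * c ^ n) * d * y⁻¹ := by rw [ih]; group
          _ = c ^ n * (y * d * y⁻¹) := by rw [(hcy.pow_right n).eq]; group
          _ = _ := by rw [hyd, pow_succ]; group
    have hc0 : c = 1 := by
      have h6 := hn o
      rw [hyo] at h6
      have h7 : c ^ o = 1 := by simpa using h6.symm
      obtain ⟨m, rfl⟩ := ho
      rwa [pow_succ, pow_mul, pow_two, hinvo c hcWc, one_pow, one_mul] at h7
    rw [hc0, one_mul] at hyd
    have hgd : g * d = d * g := (hgc d (mul_inv_eq_iff_eq_mul.1 hyd).symm).symm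
    obtain ⟨w, hw, hwd⟩ := id hd
    have h8 : w = d := by
      change g * w * g⁻¹ = d at hwd
      calc w = g⁻¹ * (g * w * g⁻¹) * g := by group
        _ = g⁻¹ * (g * d) := by rw [hwd, mul_assoc, hgd]
        _ = d := inv_mul_cancel_left g d
    exact Subgroup.mem_centralizer_iff.2 fun u hu => wIn_comm hu (h8 ▸ hw.1)
  · rw [hcD, hcW₁]
    have h5 : Nat.card ↥(D ⊓ CW) ≤ Nat.card ↥(W ⊓ CD) := by omega
    calc Nat.card ↥(D ⊓ CW) * (2 * Nat.card W₁) ≤ Nat.card ↥(W ⊓ CD) * (2 * Nat.card W₁) :=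
          Nat.mul_le_mul_right _ h5
      _ = _ := by ring

/-- **The subgroup is normal** in solvable `S₄`-free groups of characteristic two. -/
theorem wIn_normal (h4 : ¬ Involves (Equiv.Perm (Fin 4)) G)
    (hC : Subgroup.centralizer (Cfsg.pCore 2 G : Set G) ≤ Cfsg.pCore 2 G) (S : Sylow 2 G) :
    (wIn (S : Subgroup G)).Normal := by
  classical
  haveI : Fact (Nat.Prime 2) := ⟨Nat.prime_two⟩
  set W := wIn (S : Subgroup G) with hW
  have hWQ : W ≤ Cfsg.pCore 2 G := wIn_le_pCore h4 hC S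
  haveI hQn : (Cfsg.pCore 2 G).Normal := Cfsg.pCore_normal 2 G
  have hQS : Cfsg.pCore 2 G ≤ (S : Subgroup G) := PBasic.pCore_le_sylow S
  have hWS : W ≤ (S : Subgroup G) := wIn_le _
  have hSW : (S : Subgroup G) ≤ Subgroup.normalizer (W : Set G) :=
    Subgroup.le_normalizer.trans (wIn_normalizer _)
  have hP := noBad_wIn (S : Subgroup G)
  rw [← hW] at hP
  -- conjugates commute
  have hcom : ∀ g, cjS g W ≤ Subgroup.centralizer (W : Set G) := by
    intro g
    by_contra hne
    have hle : ∀ g, cjS g W ≤ (S : Subgroup G) := fun g => by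
      rintro _ ⟨w, hw, rfl⟩
      exact hQS (hQn.conj_mem w (hWQ hw) g)
    have hsq : ∀ g, ∀ d ∈ cjS g W, d * d ∈ Subgroup.centralizer (W : Set G) := fun g => by
      rintro _ ⟨w, hw, rfl⟩
      rw [← map_mul, (wIn_elem hw).1, map_one]
      exact one_mem _
    have h1 := (hP _ (hle g)).1 (hsq g) hne
    have hne' : ¬ cjS g⁻¹ W ≤ Subgroup.centralizer (W : Set G) := fun h => hne (by
      have h' := (map_le_centralizer_map (f := (MulAut.conj g).toMonoidHom) (MulAut.conj g).injective).2 h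
      change cjS g (cjS g⁻¹ W) ≤ Subgroup.centralizer (cjS g W : Set G) at h'
      rw [← cjS_mul, mul_inv_cancel, cjS_one] at h'
      exact Subgroup.le_centralizer_iff.1 h')
    have h2 := (hP _ (hle g⁻¹)).1 (hsq g⁻¹) hne'
    have hc1 := card_inf_centralizer_map (f := (MulAut.conj g).toMonoidHom) (MulAut.conj g).injective
      W (cjS g⁻¹ W)
    have hc2 := card_inf_centralizer_map (f := (MulAut.conj g).toMonoidHom) (MulAut.conj g).injective
      (cjS g⁻¹ W) W
    change Nat.card ↥(cjS g W ⊓ Subgroup.centralizer (cjS g (cjS g⁻¹ W) : Set G)) = _ at hc1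
    change Nat.card ↥(cjS g (cjS g⁻¹ W) ⊓ Subgroup.centralizer (cjS g W : Set G)) = _ at hc2
    rw [← cjS_mul, mul_inv_cancel, cjS_one] at hc1 hc2
    rw [← hc1, ← hc2, show Nat.card (cjS g⁻¹ W) = Nat.card W from
      Subgroup.card_map_of_injective (MulAut.conj g⁻¹).injective] at h2
    rw [show Nat.card (cjS g W) = Nat.card W from
      Subgroup.card_map_of_injective (MulAut.conj g).injective] at h1
    have h1' := Nat.lt_of_mul_lt_mul_left (a := Nat.card W) (h1.trans_le (Nat.mul_comm _ _).le)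
    have h2' := Nat.lt_of_mul_lt_mul_left (a := Nat.card W) (h2.trans_le (Nat.mul_comm _ _).le)
    omega
  set U := Subgroup.normalClosure (W : Set G) with hU
  have hconj : ∀ x ∈ Group.conjugatesOfSet (W : Set G), ∃ g, x ∈ cjS g W := by
    intro x hx
    obtain ⟨w, hw, hwx⟩ := Group.mem_conjugatesOfSet_iff.1 hx
    obtain ⟨g, rfl⟩ := isConj_iff.1 hwx
    exact ⟨g, w, hw, rfl⟩
  have hUQ : U ≤ Cfsg.pCore 2 G := Subgroup.normalClosure_le_normal hWQ
  have hgenc : ∀ x ∈ Group.conjugatesOfSet (W : Set G), ∀ y ∈ Group.conjugatesOfSet (W : Set G),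
      Commute x y := by
    intro x hx y hy
    obtain ⟨g, hg⟩ := hconj x hx
    obtain ⟨h, hh⟩ := hconj y hy
    have h1 := (map_le_centralizer_map (f := (MulAut.conj h).toMonoidHom) (MulAut.conj h).injective).2
      (hcom (h⁻¹ * g))
    change cjS h (cjS (h⁻¹ * g) W) ≤ Subgroup.centralizer (cjS h W : Set G) at h1
    rw [← cjS_mul, mul_inv_cancel_left] at h1
    exact (Subgroup.mem_centralizer_iff.1 (h1 hg) y hh).symm
  have hUc : ∀ x ∈ U, ∀ y ∈ U, Commute x y := by
    intro x hx y hy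
    induction hx using Subgroup.closure_induction with
    | mem x hx =>
      induction hy using Subgroup.closure_induction with
      | mem y hy => exact hgenc x hx y hy
      | one => exact Commute.one_right x
      | mul a b _ _ ha hb => exact ha.mul_right hb
      | inv a _ ha => exact ha.inv_right
    | one => exact Commute.one_left y
    | mul a b _ _ ha hb => exact ha.mul_left hb
    | inv a _ ha => exact ha.inv_left
  have hUsq : ∀ x ∈ U, x * x = 1 := by
    intro x hx
    induction hx using Subgroup.closure_induction with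
    | mem x hx =>
      obtain ⟨g, w, hw, rfl⟩ := hconj x hx
      rw [← map_mul, (wIn_elem hw).1, map_one]
    | one => exact one_mul 1
    | mul a b ha' hb' ha hb =>
      rw [show a * b * (a * b) = a * (b * a) * b by group, (hUc b hb' a ha').eq,
        show a * (a * b) * b = (a * a) * (b * b) by group, ha, hb, one_mul]
    | inv a _ ha => rw [← mul_inv_rev, ha, inv_one]
  haveI hUn : U.Normal := Subgroup.normalClosure_normal
  have hPU := gstep h4 (S := S) (W := W) (V := U) (fun x hx y hy => (hUc x hx y hy).eq) hUsq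
    Subgroup.le_normalClosure (fun N hN hle => by haveI := hN; exact Subgroup.normalClosure_le_normal hle)
    hSW hP
  -- the Thompson subgroup centralizes `U`
  set CU := Subgroup.centralizer (U : Set G) with hCU
  have hJ : Cfsg.thompsonSubgroupOf 2 (S : Subgroup G) ≤ CU := by
    rw [Thompson.thompsonSubgroupOf_eq]
    refine sSup_le fun A hA => ?_
    obtain ⟨hAS, hAe, hmax⟩ := hA
    by_contra hne
    have hA2 : ∀ a ∈ A, a * a = 1 := fun a ha => by rw [← pow_two]; exact hAe.2 a ha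
    have hAc : ∀ a ∈ A, ∀ b ∈ A, Commute a b := fun a ha b hb =>
      Thompson.commute_of_isElementaryAbelian hAe ha hb
    have h1 := (hPU A hAS).1 (fun a ha => by rw [hA2 a ha]; exact one_mem _) hne
    set A₀ := A ⊓ CU with hA₀
    set B := A₀ ⊔ U with hB
    have hmem : ∀ x ∈ B, ∃ v ∈ U, ∃ a ∈ A₀, x = v * a := by
      intro x hx
      rw [hB, sup_comm] at hx
      exact (SolvBasic.mem_sup_iff_of_le_normalizer
        (le_top.trans_eq (Subgroup.normalizer_eq_top (H := U)).symm)).1 hx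
    have hva : ∀ v ∈ U, ∀ a ∈ A₀, Commute v a := fun v hv a ha =>
      Subgroup.mem_centralizer_iff.1 ha.2 v hv
    have hBe : Cfsg.IsElementaryAbelian 2 B := by
      refine ⟨.of_setLike_mul_comm fun x hx y hy => ?_, fun x hx => ?_⟩
      · obtain ⟨v, hv, a, ha, rfl⟩ := hmem x hx
        obtain ⟨w, hw, c, hc, rfl⟩ := hmem y hy
        exact (((hUc v hv w hw).mul_right (hva v hv c hc)).mul_left
          ((hva w hw a ha).symm.mul_right (hAc a ha.1 c hc.1))).eq
      · obtain ⟨v, hv, a, ha, rfl⟩ := hmem x hx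
        rw [(hva v hv a ha).mul_pow, pow_two, pow_two, hUsq v hv, hA2 a ha.1, one_mul]
    have h2 := hmax B (sup_le (inf_le_left.trans hAS) (hUQ.trans hQS)) hBe
    have h3 := SolvBasic.card_sup_mul_card_inf (N := U) (H := A₀)
      (le_top.trans_eq (Subgroup.normalizer_eq_top (H := U)).symm)
    rw [sup_comm, ← hB] at h3
    have h4' : Nat.card ↥(U ⊓ A₀) ≤ Nat.card ↥(U ⊓ Subgroup.centralizer (A : Set G)) :=
      Subgroup.card_le_of_le fun x hx => ⟨hx.1,
        Subgroup.mem_centralizer_iff.2 fun a ha => (hAc a ha x hx.2.1).eq⟩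
    have h5 := Nat.mul_le_mul h2 h4'
    rw [h3] at h5
    linarith
  -- factorization
  haveI : CU.Normal := inferInstance
  obtain ⟨P, hPe⟩ := PBasic.exists_sylow_subgroupOf S CU
  set T := (S : Subgroup G) ⊓ CU with hT
  have hPmap : (P : Subgroup ↥CU).map CU.subtype = T := by
    rw [hPe, Subgroup.subgroupOf_map_subtype]
  have hfr := Sylow.normalizer_sup_eq_top P
  rw [hPmap] at hfr
  have hJT : Cfsg.thompsonSubgroupOf 2 T = Cfsg.thompsonSubgroupOf 2 (S : Subgroup G) :=
    Thompson.thompsonSubgroupOf_eq_of_le (le_inf (Thompson.thompsonSubgroupOf_le 2 _) hJ) inf_le_left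
  set N := Subgroup.normalizer (Cfsg.thompsonSubgroupOf 2 (S : Subgroup G) : Set G) with hN
  have hTN : Subgroup.normalizer (T : Set G) ≤ N := by
    have := Thompson.normalizer_le_normalizer_thompsonSubgroupOf 2 T
    rwa [hJT] at this
  have hSN : (S : Subgroup G) ≤ N :=
    Subgroup.le_normalizer.trans (Thompson.normalizer_le_normalizer_thompsonSubgroupOf 2 _)
  -- `W` is normal in `N`
  have hNW : N ≤ Subgroup.normalizer (W : Set G) := by
    set τ := Subgroup.inclusion hSN with hτ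
    have hr : τ.range = (S : Subgroup G).subgroupOf N := Subgroup.inclusion_range hSN
    have hcl : SolClass τ := by
      refine ⟨inferInstance, Group.isSolvable_of_isSolvable_injective N.subtype_injective,
        fun h => h4 (SFourFree.involves_mono N.subtype N.subtype_injective h),
        Subgroup.inclusion_injective hSN, ⟨S.subtype hSN, by rw [hr]; rfl⟩, ?_⟩
      have h1 : Cfsg.thompsonSubgroupOf 2 τ.range =
          (Cfsg.thompsonSubgroupOf 2 (S : Subgroup G)).subgroupOf N := by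
        refine Subgroup.map_injective N.subtype_injective ?_
        rw [← Thompson.thompsonSubgroupOf_map_of_injective _ _ N.subtype_injective,
          Subgroup.subgroupOf_map_subtype, inf_eq_left.2 (Subgroup.le_normalizer), hr,
          Subgroup.subgroupOf_map_subtype, inf_eq_left.2 hSN]
      rw [h1, hN]
      exact Subgroup.normal_subgroupOf_of_le_normalizer le_rfl
    have hn := wSol_map_normal hcl
    have he : ((wSol (S : Subgroup G)).map τ).map N.subtype = W := by
      rw [Subgroup.map_map, hW, wIn]; rfl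
    intro n hn'
    refine Subgroup.mem_normalizer_fintype fun w hw => ?_
    rw [← he] at hw
    obtain ⟨z, hz, rfl⟩ := hw
    rw [← he]
    exact ⟨⟨n, hn'⟩ * z * ⟨n, hn'⟩⁻¹, hn.conj_mem z hz _, rfl⟩
  refine Subgroup.normalizer_eq_top_iff.1 (top_le_iff.1 (hfr.ge.trans (sup_le (hTN.trans hNW) ?_)))
  exact fun c hc => Subgroup.centralizer_le_normalizer _
    (Subgroup.centralizer_le (Subgroup.le_normalClosure) hc)

end Cfsg.Agent.SFW
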