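/-
**A characteristic subgroup of a `2`-group that is normal in every `S₄`-free group of characteristic
two in which the `2`-group is a Sylow subgroup**: definition.
-/
import Cfsg.Agent.Lib.S3Free.Closure.GroupCfg
import Cfsg.Agent.Lib.S3Free.Closure.Solvable

set_option autoImplicit false
set_option linter.unusedSectionVars false
set_option linter.style.haveILetI false
set_option maxHeartbeats 1000000

namespace Cfsg.Agent.SFW

open Cfsg Cfsg.Agent.S3Free

universe u

variable {Q : Type u} [Group Q]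

/-- The groups used to define the subgroup. -/
structure GenClass {H : Type u} [Group H] (τ : Q →* H) : Prop where
  fin : Finite H
  s4 : ¬ Involves (Equiv.Perm (Fin 4)) H
  inj : Function.Injective τ
  sylow : ∃ P : Sylow 2 H, (P : Subgroup H) = τ.range
  normal : (Cfsg.thompsonSubgroupOf 2 τ.range).Normal

variable (Q)

/-- The admissible subgroups. -/
def AdmGen (W : Subgroup Q) : Prop :=
  z1 Q ≤ W ∧ W ≤ zJ1 Q ∧
    ∀ (H : Type u) [Group H] (τ : Q →* H), GenClass τ → (W.map τ).Normal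

/-- The smallest admissible subgroup. -/
noncomputable def wGen : Subgroup Q := sInf {W | AdmGen Q W}

variable {Q}

theorem zJ1_admGen [Finite Q] : AdmGen Q (zJ1 Q) := by
  refine ⟨z1_le_zJ1, le_rfl, fun H _ τ hτ => ?_⟩
  set J := Cfsg.thompsonSubgroupOf 2 τ.range
  have hJ : J = (Cfsg.thompsonSubgroup 2 Q).map τ := by
    rw [show J = Cfsg.thompsonSubgroupOf 2 ((⊤ : Subgroup Q).map τ) by rw [← MonoidHom.range_eq_map],
      Thompson.thompsonSubgroupOf_map_of_injective _ _ hτ.inj, Thompson.thompsonSubgroupOf_top]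
  have hJn : J.Normal := hτ.normal
  refine ⟨?_⟩
  rintro _ ⟨x, hx, rfl⟩ g
  have h1 : g * τ x * g⁻¹ ∈ J := hJn.conj_mem _ (hJ ▸ ⟨x, hx.1, rfl⟩) g
  rw [hJ] at h1
  obtain ⟨y, hy, hye⟩ := h1
  refine ⟨y, ⟨hy, Subgroup.mem_centralizer_iff.2 fun z hz => hτ.inj ?_, hτ.inj ?_⟩, hye⟩
  · rw [map_mul, map_mul, hye]
    have h2 : g⁻¹ * τ z * g ∈ J := by
      have := hJn.conj_mem _ (show τ z ∈ J by rw [hJ]; exact ⟨z, hz, rfl⟩) g⁻¹
      rwa [inv_inv] at this
    rw [hJ] at h2
    obtain ⟨w, hw, hwe⟩ := h2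
    have h3 := congrArg τ (Subgroup.mem_centralizer_iff.1 hx.2.1 w hw)
    rw [map_mul, map_mul, hwe] at h3
    calc τ z * (g * τ x * g⁻¹) = g * ((g⁻¹ * τ z * g) * τ x) * g⁻¹ := by group
      _ = g * (τ x * (g⁻¹ * τ z * g)) * g⁻¹ := by rw [h3]
      _ = _ := by group
  · rw [map_mul, hye, map_one, show g * τ x * g⁻¹ * (g * τ x * g⁻¹) = g * τ (x * x) * g⁻¹ by
      rw [map_mul]; group, hx.2.2, map_one, mul_one, mul_inv_cancel]

theorem wGen_le [Finite Q] : wGen Q ≤ zJ1 Q := sInf_le zJ1_admGen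

theorem z1_le_wGen : z1 Q ≤ wGen Q := le_sInf fun _ h => h.1

theorem wGen_map_normal [Finite Q] {H : Type u} [Group H] {τ : Q →* H} (hτ : GenClass τ) :
    ((wGen Q).map τ).Normal := by
  refine ⟨?_⟩
  rintro _ ⟨x, hx, rfl⟩ g
  obtain ⟨y, -, hy⟩ := (zJ1_admGen.2.2 H τ hτ).conj_mem _ ⟨x, wGen_le hx, rfl⟩ g
  refine ⟨y, Subgroup.mem_sInf.2 fun W hW => ?_, hy⟩
  obtain ⟨z, hz, hzy⟩ := (hW.2.2 H τ hτ).conj_mem _ ⟨x, Subgroup.mem_sInf.1 hx W hW, rfl⟩ g
  rw [← hy, hτ.inj.eq_iff] at hzy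
  exact hzy ▸ hz

theorem wGen_ne_bot [Finite Q] [Nontrivial Q] (hQ : IsPGroup 2 Q) : wGen Q ≠ ⊥ := by
  haveI : Fact (Nat.Prime 2) := ⟨Nat.prime_two⟩
  haveI := hQ.center_nontrivial
  obtain ⟨k, hk, hc⟩ := (hQ.to_subgroup (Subgroup.center Q)).nontrivial_iff_card.1 inferInstance
  obtain ⟨z, hz⟩ := exists_prime_orderOf_dvd_card' (G := Subgroup.center Q) 2
    (hc ▸ dvd_pow_self 2 hk.ne')
  intro h
  have h1 : (z : Q) ∈ z1 Q := ⟨z.2, by
    have := pow_orderOf_eq_one z
    rw [hz, pow_two] at this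
    exact congrArg Subtype.val this⟩
  have h2 : (z : Q) ∈ (⊥ : Subgroup Q) := h ▸ z1_le_wGen h1
  rw [show z = 1 from Subtype.ext (Subgroup.mem_bot.1 h2), orderOf_one] at hz
  omega

theorem wGen_map {R : Type u} [Group R] (e : Q ≃* R) : (wGen Q).map e.toMonoidHom = wGen R := by
  have key : ∀ {Q R : Type u} [Group Q] [Group R] (e : Q ≃* R) (W : Subgroup Q),
      AdmGen Q W → AdmGen R (W.map e.toMonoidHom) := by
    intro Q R _ _ e W hW
    have hJ := Thompson.thompsonSubgroup_map_equiv (p := 2) e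
    have hmemJ : ∀ x : Q, e x ∈ Cfsg.thompsonSubgroup 2 R ↔ x ∈ Cfsg.thompsonSubgroup 2 Q := fun x => by
      rw [← hJ]
      exact Subgroup.mem_map_iff_mem e.injective
    refine ⟨fun r hr => ⟨e.symm r, hW.1 ⟨Subgroup.mem_center_iff.2 fun q => e.injective ?_, e.injective ?_⟩,
      e.apply_symm_apply r⟩, ?_, fun H _ τ hτ => ?_⟩
    · rw [map_mul, map_mul, e.apply_symm_apply]
      exact Subgroup.mem_center_iff.1 hr.1 _
    · rw [map_mul, e.apply_symm_apply, map_one]
      exact hr.2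
    · rintro _ ⟨x, hx, rfl⟩
      obtain ⟨h1, h2, h3⟩ := hW.2.1 hx
      refine ⟨(hmemJ x).2 h1, Subgroup.mem_centralizer_iff.2 fun r hr => ?_, ?_⟩
      · obtain ⟨y, rfl⟩ := e.surjective r
        change e y * e x = e x * e y
        rw [← map_mul, ← map_mul, Subgroup.mem_centralizer_iff.1 h2 y ((hmemJ y).1 hr)]
      · change e x * e x = 1
        rw [← map_mul, h3, map_one]
    · rw [Subgroup.map_map]
      have hr : (τ.comp e.toMonoidHom).range = τ.range := by
        rw [MonoidHom.range_comp, MonoidHom.range_eq_top.2 e.surjective, ← MonoidHom.range_eq_map]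
      exact hW.2.2 H _
        ⟨hτ.fin, hτ.s4, hτ.inj.comp e.injective, by rw [hr]; exact hτ.sylow,
          by rw [hr]; exact hτ.normal⟩
  refine le_antisymm ?_ ?_
  · rintro _ ⟨x, hx, rfl⟩
    refine Subgroup.mem_sInf.2 fun W hW => ?_
    obtain ⟨y, hy, hye⟩ := Subgroup.mem_sInf.1 hx _ (key e.symm W hW)
    change e x ∈ W
    rw [← hye]
    change e (e.symm y) ∈ W
    rwa [e.apply_symm_apply]
  · intro r hr
    refine ⟨e.symm r, Subgroup.mem_sInf.2 fun W hW => ?_, e.apply_symm_apply r⟩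
    obtain ⟨y, hy, hye⟩ := Subgroup.mem_sInf.1 hr _ (key e W hW)
    rw [← hye]
    change e.symm (e y) ∈ W
    rwa [e.symm_apply_apply]

instance wGen_characteristic : (wGen Q).Characteristic :=
  Subgroup.characteristic_iff_map_eq.2 fun e => wGen_map e

/-- The subgroup is harmless. -/
theorem noBad2_wGen [Finite Q] : NoBad2 (⊤ : Subgroup Q) (wGen Q) := by
  classical
  have hz : NoBad2 (⊤ : Subgroup Q) (z1 Q) := noBad2_of_centralized fun g _ =>
    Subgroup.mem_centralizer_iff.2 fun z hz => (Subgroup.mem_center_iff.1 hz.1 g).symm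
  obtain ⟨W, ⟨hzW, hWle, hWn, hW⟩, hmax⟩ := Set.Finite.exists_maximal
    (Set.toFinite {W : Subgroup Q | z1 Q ≤ W ∧ W ≤ wGen Q ∧ W.Normal ∧ NoBad2 (⊤ : Subgroup Q) W})
    ⟨z1 Q, le_rfl, z1_le_wGen, ⟨fun x hx g => by
      rw [Subgroup.mem_center_iff.1 hx.1 g, mul_inv_cancel_right]; exact hx⟩, hz⟩
  suffices hadm : AdmGen Q W by
    rw [show wGen Q = W from le_antisymm (sInf_le (a := W) hadm) hWle]
    exact hW
  refine ⟨hzW, hWle.trans wGen_le, fun H _ τ hτ => ?_⟩
  haveI := hτ.fin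
  obtain ⟨P, hP⟩ := hτ.sylow
  have hT := wGen_map_normal hτ
  set U := Subgroup.normalClosure ((W.map τ : Subgroup H) : Set H) with hU
  have hUT : U ≤ (wGen Q).map τ := Subgroup.normalClosure_le_normal (Subgroup.map_mono hWle)
  have hPW : (P : Subgroup H) ≤ Subgroup.normalizer (W.map τ : Set H) := by
    rw [hP]
    rintro _ ⟨q, rfl⟩
    refine Subgroup.mem_normalizer_fintype ?_
    rintro _ ⟨w, hw, rfl⟩
    exact ⟨q * w * q⁻¹, hWn.conj_mem w hw q, by simp⟩
  have h1 : NoBad2 (P : Subgroup H) (W.map τ) := by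
    rw [hP, MonoidHom.range_eq_map, noBad2_map_iff hτ.inj]
    exact hW
  have h2 := gstep2 hτ.s4 (V := U)
    (by
      intro x hx y hy
      obtain ⟨a, ha, rfl⟩ := hUT hx
      obtain ⟨b, hb, rfl⟩ := hUT hy
      rw [← map_mul, ← map_mul, zJ1_comm (wGen_le ha) (wGen_le hb)])
    (by
      intro x hx
      obtain ⟨a, ha, rfl⟩ := hUT hx
      rw [← map_mul, (wGen_le ha).2.2, map_one])
    Subgroup.le_normalClosure (fun N hN hle => by haveI := hN; exact Subgroup.normalClosure_le_normal hle)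
    hPW h1
  have hUr : U ≤ τ.range := hUT.trans (Subgroup.map_le_range _ _)
  have hUe : (U.comap τ).map τ = U := Subgroup.map_comap_eq_self hUr
  rw [hP, MonoidHom.range_eq_map, ← hUe, noBad2_map_iff hτ.inj] at h2
  have hWU : W ≤ U.comap τ := fun w hw => Subgroup.le_normalClosure ⟨w, hw, rfl⟩
  have h3 : U.comap τ ≤ W := hmax ⟨hzW.trans hWU, fun x hx => by
    obtain ⟨a, ha, he⟩ := hUT hx
    exact hτ.inj he ▸ ha, Subgroup.Normal.comap Subgroup.normalClosure_normal τ, h2⟩ hWU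
  rw [le_antisymm hWU h3, hUe]
  exact Subgroup.normalClosure_normal

/-! ### In a group -/

variable {G : Type u} [Group G]

/-- The subgroup, inside a group. -/
noncomputable def wOf (S : Subgroup G) : Subgroup G := (wGen S).map S.subtype

theorem wOf_le (S : Subgroup G) : wOf S ≤ S := Subgroup.map_subtype_le _

theorem wOf_map {G' : Type u} [Group G'] (f : G →* G') (hf : Function.Injective f) (S : Subgroup G) :
    wOf (S.map f) = (wOf S).map f := by
  rw [wOf, wOf, ← wGen_map (S.equivMapOfInjective f hf), Subgroup.map_map, Subgroup.map_map]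
  rfl

theorem wOf_normalizer [Finite G] (S : Subgroup G) :
    Subgroup.normalizer (S : Set G) ≤ Subgroup.normalizer (wOf S : Set G) := by
  intro g hg
  rw [mem_normalizer_iff_cjS] at hg ⊢
  have h := wOf_map (MulAut.conj g).toMonoidHom (MulAut.conj g).injective S
  change wOf (cjS g S) = cjS g (wOf S) at h
  rw [hg] at h
  exact h.symm

theorem wOf_ne_bot [Finite G] {S : Subgroup G} (hS : IsPGroup 2 S) (hne : S ≠ ⊥) : wOf S ≠ ⊥ := by
  haveI : Nontrivial S := (Subgroup.nontrivial_iff_ne_bot S).2 hne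
  exact fun h => wGen_ne_bot hS ((Subgroup.map_eq_bot_iff_of_injective _ S.subtype_injective).1 h)

theorem wOf_elem {S : Subgroup G} [Finite G] {x : G} (hx : x ∈ wOf S) :
    x * x = 1 ∧ ∀ a ∈ Cfsg.thompsonSubgroupOf 2 S, a * x = x * a := by
  obtain ⟨w, hw, rfl⟩ := hx
  obtain ⟨-, h2, h3⟩ := wGen_le hw
  refine ⟨by rw [← map_mul, h3, map_one], ?_⟩
  rintro _ ⟨a, ha, rfl⟩
  rw [← map_mul, ← map_mul, Subgroup.mem_centralizer_iff.1 h2 a ha]

theorem wOf_comm {S : Subgroup G} [Finite G] {x y : G} (hx : x ∈ wOf S) (hy : y ∈ wOf S) :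
    x * y = y * x := by
  obtain ⟨a, ha, rfl⟩ := hx
  obtain ⟨b, hb, rfl⟩ := hy
  rw [← map_mul, ← map_mul, zJ1_comm (wGen_le ha) (wGen_le hb)]

theorem noBad2_wOf [Finite G] (S : Subgroup G) : NoBad2 S (wOf S) := by
  have h := (noBad2_map_iff (f := S.subtype) S.subtype_injective).2 (noBad2_wGen (Q := S))
  rwa [← MonoidHom.range_eq_map, Subgroup.range_subtype] at h


end Cfsg.Agent.SFW
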