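/-
**A characteristic subgroup of a `2`-group that is normal in every `S₄`-free group of characteristic
two in which the `2`-group is a Sylow subgroup.**
-/
import Cfsg.Agent.Lib.S3Free.Closure.GeneralDef
import Cfsg.Agent.Lib.Functors.SectionInduction
import Cfsg.Agent.Lib.Functors.SectionApps
import Cfsg.Agent.Lib.PStable.FusionControl
import Cfsg.Agent.Lib.Involutions.BaerSuzuki

set_option autoImplicit false
set_option linter.unusedSectionVars false
set_option linter.style.haveILetI false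
set_option maxHeartbeats 1000000

namespace Cfsg.Agent.SFW

open Cfsg Cfsg.Agent.S3Free

universe u

/-- The subgroup, as a functor. -/
noncomputable def wFun : ∀ (Q : Type u) [Group Q], Subgroup Q := fun Q _ => wGen Q

theorem isCharPFunctor_wFun : IsCharPFunctor.{u} 2 wFun :=
  ⟨fun _ _ _ hQ _ => wGen_ne_bot hQ, fun _ _ _ _ _ _ φ => wGen_map φ⟩

theorem inducedFunctor_wFun {G : Type u} [Group G] (P : Subgroup G) :
    inducedFunctor wFun P = wOf P := rfl

/-- Normality in all smaller groups. -/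
def NormalBelow (n : ℕ) : Prop :=
  ∀ (Y : Type u) [Group Y] [Finite Y], Nat.card Y < n → ¬ Involves (Equiv.Perm (Fin 4)) Y →
    Functors.PConstr 2 Y → ∀ T : Sylow 2 Y, (wOf (T : Subgroup Y)).Normal

theorem ctlSF_wFun {G : Type u} [Group G] [Finite G] (h4 : ¬ Involves (Equiv.Perm (Fin 4)) G)
    (hn : ∀ (Y : Type u) [Group Y] [Finite Y], Functors.IsSectionOf G Y →
      ¬ Involves (Equiv.Perm (Fin 4)) Y → Functors.PConstr 2 Y →
      ∀ T : Sylow 2 Y, (wOf (T : Subgroup Y)).Normal) :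
    Functors.CtlSF 2 {wFun.{u}} G := by
  haveI : Fact (Nat.Prime 2) := ⟨Nat.prime_two⟩
  refine Functors.ctlSF_of_sections (𝓦 := {wFun.{u}}) (by simpa using isCharPFunctor_wFun) G
    fun Y _ _ hY hC => ?_
  obtain ⟨S⟩ : Nonempty (Sylow 2 Y) := inferInstance
  haveI := hn Y hY (PStable.not_involves_section h4 hY) hC S
  refine Functors.familySF_top_of_reach (S := S) fun A g hA hgA => ?_
  refine Functors.Reach.single hA ⟨_, ⟨_, ⟨_, rfl, rfl⟩, rfl⟩, ?_⟩ hgA
  dsimp only
  rw [inducedFunctor_wFun, Subgroup.normalizer_eq_top]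
  exact Subgroup.mem_top g

variable {G : Type u} [Group G]

/-- Elements centralizing `T` whose commutator with `q` lies in `T`. -/
def modSub (T : Subgroup G) (q : G) : Subgroup G where
  carrier := {x | x ∈ Subgroup.centralizer (T : Set G) ∧ q * x * q⁻¹ * x⁻¹ ∈ T}
  one_mem' := ⟨one_mem _, by simp⟩
  mul_mem' := fun {x y} hx hy => ⟨mul_mem hx.1 hy.1, by
    have h1 := Subgroup.mem_centralizer_iff.1 hx.1 _ hy.2
    have h2 : q * (x * y) * q⁻¹ * (x * y)⁻¹ =
        (q * x * q⁻¹ * x⁻¹) * (q * y * q⁻¹ * y⁻¹) := by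
      calc q * (x * y) * q⁻¹ * (x * y)⁻¹
          = (q * x * q⁻¹ * x⁻¹) * (x * (q * y * q⁻¹ * y⁻¹)) * x⁻¹ := by group
        _ = _ := by rw [← h1]; group
    rw [h2]
    exact mul_mem hx.2 hy.2⟩
  inv_mem' := fun {x} hx => ⟨inv_mem hx.1, by
    have h1 := Subgroup.mem_centralizer_iff.1 hx.1 _ (inv_mem hx.2)
    have h2 : q * x⁻¹ * q⁻¹ * x⁻¹⁻¹ = (q * x * q⁻¹ * x⁻¹)⁻¹ := by
      calc q * x⁻¹ * q⁻¹ * x⁻¹⁻¹ = x⁻¹ * ((q * x * q⁻¹ * x⁻¹)⁻¹ * x) := by group
        _ = _ := by rw [h1]; group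
    rw [h2]
    exact inv_mem hx.2⟩

theorem cjS_self_of_mem [Finite G] {H : Subgroup G} {g : G} (hg : g ∈ H) : cjS g H = H :=
  mem_normalizer_iff_cjS.1 (Subgroup.le_normalizer hg)

theorem cjS_sup (g : G) (A B : Subgroup G) : cjS g (A ⊔ B) = cjS g A ⊔ cjS g B :=
  Subgroup.map_sup A B _

/-- An involution of a subgroup normalized by `d` gives a commutator in it. -/
theorem comm_mem_of_normalizer {X : Subgroup G} {d v : G} (hd : d ∈ Subgroup.normalizer (X : Set G))
    (hv : v ∈ X) : d * v * d⁻¹ * v ∈ X :=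
  X.mul_mem ((Subgroup.mem_normalizer_iff.1 hd v).1 hv) hv

theorem comm_mem_of_normalizer' {X : Subgroup G} {d v : G} (hv : v ∈ Subgroup.normalizer (X : Set G))
    (hd : d ∈ X) (hv2 : v * v = 1) : d * v * d⁻¹ * v ∈ X := by
  have h1 := X.mul_mem hd ((Subgroup.mem_normalizer_iff.1 hv _).1 (X.inv_mem hd))
  rw [inv_eq_of_mul_eq_one_right hv2] at h1
  simpa [mul_assoc] using h1

variable [Finite G]

/-- Proper subgroups over a Sylow subgroup normalize the subgroup. -/
theorem le_normalizer_wOf {n : ℕ} (hn : NormalBelow.{u} n) (hG : Nat.card G ≤ n)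
    (h4 : ¬ Involves (Equiv.Perm (Fin 4)) G) (hC : Functors.PConstr 2 G) (S : Sylow 2 G)
    {H : Subgroup G} (hSH : (S : Subgroup G) ≤ H) (hH : H ≠ ⊤) :
    H ≤ Subgroup.normalizer (wOf (S : Subgroup G) : Set G) := by
  haveI : Fact (Nat.Prime 2) := ⟨Nat.prime_two⟩
  haveI hOn : (Cfsg.pCore 2 G).Normal := Cfsg.pCore_normal 2 G
  have hOH : Cfsg.pCore 2 G ≤ H := (PBasic.pCore_le_sylow S).trans hSH
  have hO' : (Cfsg.pCore 2 G).subgroupOf H ≤ Cfsg.pCore 2 H :=
    PBasic.le_pCore inferInstance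
      ((S.2.to_le (PBasic.pCore_le_sylow S)).comap_of_injective H.subtype H.subtype_injective)
  have hCH : Functors.PConstr 2 H := by
    intro x hx
    refine hO' (Subgroup.mem_subgroupOf.2 (hC (Subgroup.mem_centralizer_iff.2 fun q hq => ?_)))
    have h1 := Subgroup.mem_centralizer_iff.1 hx ⟨q, hOH hq⟩ (hO' (Subgroup.mem_subgroupOf.2 hq))
    exact congrArg Subtype.val h1
  haveI hN := hn H ((card_lt_of_ne_top hH).trans_le hG)
    (fun h => h4 (SFourFree.involves_mono H.subtype H.subtype_injective h)) hCH (S.subtype hSH)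
  have hmap : (wOf ((S.subtype hSH : Sylow 2 H) : Subgroup H)).map H.subtype =
      wOf (S : Subgroup G) := by
    rw [← wOf_map H.subtype H.subtype_injective, Sylow.coe_subtype, Subgroup.subgroupOf_map_subtype,
      inf_eq_left.2 hSH]
  intro x hx
  refine Subgroup.mem_normalizer_fintype fun w hw => ?_
  rw [← hmap] at hw ⊢
  obtain ⟨z, hz, rfl⟩ := hw
  exact ⟨⟨x, hx⟩ * z * ⟨x, hx⟩⁻¹, hN.conj_mem z hz _, rfl⟩

/-- Outside the `2`-core the subgroup is weakly closed. -/
theorem wOf_weak {n : ℕ} (hn : NormalBelow.{u} n) (hG : Nat.card G ≤ n)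
    (h4 : ¬ Involves (Equiv.Perm (Fin 4)) G) (hC : Functors.PConstr 2 G) (S : Sylow 2 G)
    (hWO : ¬ wOf (S : Subgroup G) ≤ Cfsg.pCore 2 G) {g : G}
    (hg : cjS g (wOf (S : Subgroup G)) ≤ (S : Subgroup G)) :
    cjS g (wOf (S : Subgroup G)) = wOf (S : Subgroup G) := by
  haveI : Fact (Nat.Prime 2) := ⟨Nat.prime_two⟩
  set W := wOf (S : Subgroup G) with hW
  set O := Cfsg.pCore 2 G with hO
  haveI hOn : O.Normal := Cfsg.pCore_normal 2 G
  have hWS : W ≤ (S : Subgroup G) := wOf_le _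
  have hOS : O ≤ (S : Subgroup G) := PBasic.pCore_le_sylow S
  have hSW : (S : Subgroup G) ≤ Subgroup.normalizer (W : Set G) :=
    Subgroup.le_normalizer.trans (wOf_normalizer _)
  have hO0 : O ≠ ⊥ := fun h => hWO fun w _ => hC (Subgroup.mem_centralizer_iff.2 fun q hq => by
    have hq' : q = 1 := Subgroup.mem_bot.1 (h ▸ hq)
    rw [hq', one_mul, mul_one])
  set π := QuotientGroup.mk' O with hπ
  have hπs := QuotientGroup.mk'_surjective O
  set Sb : Sylow 2 (G ⧸ O) := S.mapSurjective hπs with hSb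
  have hctl : Functors.CtlSF 2 {wFun.{u}} (G ⧸ O) := by
    refine ctlSF_wFun (PStable.not_involves_section h4
      (Functors.IsSectionOf.of_surjective hπs Functors.IsSectionOf.refl)) fun Y _ _ hY h4Y hCY T => ?_
    obtain ⟨K, f, hf⟩ := hY
    refine hn Y ?_ h4Y hCY T
    have := Nat.card_le_card_of_surjective f hf
    have := Subgroup.card_le_card_group K
    have := Functors.card_quotient_lt hO0
    omega
  have hsf := Functors.sfAt_top_of_ctl (by simpa using isCharPFunctor_wFun) Sb hctl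
  rw [Functors.indSet_singleton] at hsf
  obtain ⟨x, hx, hxa⟩ := Functors.exists_of_sfAt_singleton hsf (Subgroup.mem_top (π g))
    (A := π '' (W : Set G))
    (by rintro _ ⟨w, hw, rfl⟩; exact ⟨w, hWS hw, rfl⟩)
    (by
      rintro _ ⟨_, ⟨w, hw, rfl⟩, rfl⟩
      exact ⟨g * w * g⁻¹, hg (conj_mem_cjS hw), rfl⟩)
  obtain ⟨m, rfl⟩ := hπs x
  set J := wOf (Sb : Subgroup (G ⧸ O)) with hJ
  have hmJ : π m ∈ Subgroup.normalizer (J : Set (G ⧸ O)) := (Subgroup.mem_inf.1 hx).2
  set N := (Subgroup.normalizer (J : Set (G ⧸ O))).comap π with hN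
  have hSN : (S : Subgroup G) ≤ N := fun s hs =>
    (Subgroup.le_normalizer.trans (wOf_normalizer _)) (show π s ∈ (Sb : Subgroup (G ⧸ O)) from ⟨s, hs, rfl⟩)
  have hNt : N ≠ ⊤ := by
    intro h
    have hJn : Subgroup.normalizer (J : Set (G ⧸ O)) = ⊤ := eq_top_iff.2 fun y _ => by
      obtain ⟨y, rfl⟩ := hπs y
      have h1 : y ∈ N := h ▸ Subgroup.mem_top y
      exact h1
    have hJ1 : J ≤ Cfsg.pCore 2 (G ⧸ O) :=
      PBasic.le_pCore (Subgroup.normalizer_eq_top_iff.1 hJn) (Sb.2.to_le (wOf_le _))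
    replace hJ1 := le_bot_iff.1 (hJ1.trans (PBasic.pCore_quotient_pCore 2 G).le)
    refine wOf_ne_bot Sb.2 (fun hb => hWO fun w hw => ?_) hJ1
    have h1 : π w ∈ (Sb : Subgroup (G ⧸ O)) := ⟨w, hWS hw, rfl⟩
    rw [hb, Subgroup.mem_bot] at h1
    exact (QuotientGroup.eq_one_iff w).1 h1
  have hmM := le_normalizer_wOf hn hG h4 hC S hSN hNt hmJ
  have hsub : cjS g W ≤ W ⊔ O := by
    rintro _ ⟨w, hw, rfl⟩
    change g * w * g⁻¹ ∈ W ⊔ O
    have h1 := hxa _ ⟨w, hw, rfl⟩
    rw [← map_inv, ← map_inv, ← map_mul, ← map_mul, ← map_mul, ← map_mul] at h1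
    have h2 : (m * w * m⁻¹)⁻¹ * (g * w * g⁻¹) ∈ O := QuotientGroup.eq.1 h1
    have h3 := Subgroup.mul_mem_sup ((Subgroup.mem_normalizer_iff.1 hmM w).1 hw) h2
    rwa [mul_inv_cancel_left] at h3
  have hgO : cjS g O = O := mem_normalizer_iff_cjS.1 (by
    rw [Subgroup.normalizer_eq_top]; exact Subgroup.mem_top g)
  have hgN : g ∈ Subgroup.normalizer ((W ⊔ O : Subgroup G) : Set G) := by
    rw [mem_normalizer_iff_cjS]
    exact Subgroup.eq_of_le_of_card_ge (by rw [cjS_sup, hgO]; exact sup_le hsub le_sup_right)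
      (card_cjS g _).ge
  refine mem_normalizer_iff_cjS.1 (le_normalizer_wOf hn hG h4 hC S (fun s hs => ?_) ?_ hgN)
  · rw [mem_normalizer_iff_cjS, cjS_sup, mem_normalizer_iff_cjS.1 (hSW hs),
      mem_normalizer_iff_cjS.1 (by rw [Subgroup.normalizer_eq_top]; exact Subgroup.mem_top s :
        s ∈ Subgroup.normalizer (O : Set G))]
  · intro h
    exact hWO (le_sup_left.trans (PBasic.le_pCore (Subgroup.normalizer_eq_top_iff.1 h)
      (S.2.to_le (sup_le hWS hOS))))

/-- The subgroup lies in the `2`-core. -/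
theorem wOf_le_pCore {n : ℕ} (hn : NormalBelow.{u} n) (hG : Nat.card G ≤ n)
    (h4 : ¬ Involves (Equiv.Perm (Fin 4)) G) (hC : Functors.PConstr 2 G) (S : Sylow 2 G) :
    wOf (S : Subgroup G) ≤ Cfsg.pCore 2 G := by
  classical
  haveI : Fact (Nat.Prime 2) := ⟨Nat.prime_two⟩
  by_contra hWO
  have hweak := @wOf_weak G _ _ n hn hG h4 hC S hWO
  set W := wOf (S : Subgroup G) with hW
  set O := Cfsg.pCore 2 G with hO
  haveI hOn : O.Normal := Cfsg.pCore_normal 2 G
  have hOS : O ≤ (S : Subgroup G) := PBasic.pCore_le_sylow S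
  have hO2 : IsPGroup 2 O := S.2.to_le hOS
  have hWS : W ≤ (S : Subgroup G) := wOf_le _
  have hW2 : IsPGroup 2 W := S.2.to_le hWS
  have hSW : (S : Subgroup G) ≤ Subgroup.normalizer (W : Set G) :=
    Subgroup.le_normalizer.trans (wOf_normalizer _)
  have hinvo : ∀ w ∈ W, w * w = 1 := fun w hw => (wOf_elem hw).1
  -- two conjugates in a common `2`-subgroup are equal
  have hweak2 : ∀ (P : Subgroup G), IsPGroup 2 P → ∀ a b : G, cjS a W ≤ P → cjS b W ≤ P →
      cjS a W = cjS b W := by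
    intro P hP a b ha hb
    obtain ⟨Q, hQ⟩ := hP.exists_le_sylow
    obtain ⟨k, hk⟩ := MulAction.exists_smul_eq G Q S
    have hle : ∀ {c : G}, cjS c W ≤ P → cjS (k * c) W = W := fun {c} hc => by
      refine hweak ?_
      rw [← hk, Sylow.coe_subgroup_smul]
      rintro _ ⟨w, hw, rfl⟩
      rw [show (MulAut.conj (k * c)).toMonoidHom w = k * (c * w * c⁻¹) * k⁻¹ by
        simp [mul_assoc]]
      exact Subgroup.smul_mem_pointwise_smul _ (MulAut.conj k) _ (hQ (hc (conj_mem_cjS hw)))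
    have h1 := congrArg (cjS k⁻¹) ((hle ha).trans (hle hb).symm)
    rwa [← cjS_mul, ← cjS_mul, inv_mul_cancel_left, inv_mul_cancel_left] at h1
  -- a minimal pair
  obtain ⟨g, hg2, hgmin⟩ : ∃ g, ¬ IsPGroup 2 ↥(W ⊔ cjS g W) ∧ ∀ h, ¬ IsPGroup 2 ↥(W ⊔ cjS h W) →
      Nat.card ↥(W ⊔ cjS g W) ≤ Nat.card ↥(W ⊔ cjS h W) := by
    refine Set.exists_min_image {g | ¬ IsPGroup 2 ↥(W ⊔ cjS g W)}
      (fun g => Nat.card ↥(W ⊔ cjS g W)) (Set.toFinite _) ?_
    by_contra hno
    obtain ⟨N, hN, hN2, hWN⟩ := BaerSuzuki.baerSuzuki W hW2 fun g => by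
      by_contra hg
      exact hno ⟨g, hg⟩
    exact hWO (hWN.trans (PBasic.le_pCore hN hN2))
  set W' := cjS g W with hW'
  set L := W ⊔ W' with hL
  have hWL : W ≤ L := le_sup_left
  have hW'L : W' ≤ L := le_sup_right
  have hW'c : ∀ u ∈ W', ∀ v ∈ W', u * v = v * u := by
    rintro _ ⟨u, hu, rfl⟩ _ ⟨v, hv, rfl⟩
    rw [← map_mul, wOf_comm hu hv, map_mul]
  have hcjL : ∀ {h : G}, h ∈ L → cjS h W ≤ L := fun hh =>
    (cjS_mono _ hWL).trans (cjS_self_of_mem hh).le
  -- the pair is conjugate in the group it generates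
  obtain ⟨l, hl, hlW⟩ : ∃ l ∈ L, cjS l W = W' := by
    obtain ⟨P, hP⟩ := (hW2.comap_of_injective L.subtype L.subtype_injective :
      IsPGroup 2 (W.subgroupOf L)).exists_le_sylow
    obtain ⟨Q, hQ⟩ := ((hW2.map (MulAut.conj g).toMonoidHom).comap_of_injective L.subtype
      L.subtype_injective : IsPGroup 2 (W'.subgroupOf L)).exists_le_sylow
    obtain ⟨k, hk⟩ := MulAction.exists_smul_eq L Q P
    refine ⟨(k : G)⁻¹, L.inv_mem k.2, ?_⟩
    have h1 : cjS ((k : G) * g) W ≤ (P : Subgroup L).map L.subtype := by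
      rw [cjS_mul]
      rintro _ ⟨y, hy, rfl⟩
      refine ⟨k * ⟨y, hW'L hy⟩ * k⁻¹, ?_, rfl⟩
      rw [← hk, Sylow.coe_subgroup_smul]
      exact Subgroup.smul_mem_pointwise_smul _ (MulAut.conj k) _ (hQ hy)
    have h2 := hweak2 _ (P.2.map _) ((k : G) * g) 1 h1
      (by rw [cjS_one]; exact fun w hw => ⟨⟨w, hWL hw⟩, hP hw, rfl⟩)
    have h3 := congrArg (cjS (k : G)⁻¹) h2
    rw [cjS_one, ← cjS_mul, inv_mul_cancel_left] at h3
    exact h3.symm
  -- minimality
  have hgen : ∀ h ∈ L, cjS h W ≠ W → W ⊔ cjS h W = L := by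
    intro h hh hne
    refine Subgroup.eq_of_le_of_card_ge (sup_le hWL (hcjL hh)) (hgmin h fun h2 => hne ?_)
    exact (hweak2 _ h2 h 1 le_sup_right (by rw [cjS_one]; exact le_sup_left)).trans (cjS_one W)
  -- the core of the pair
  set R := (Cfsg.pCore 2 L).map L.subtype with hR
  have hRL : R ≤ L := Subgroup.map_subtype_le _
  have hR2 : IsPGroup 2 R := (PBasic.pCore_isPGroup 2 L).map _
  have hRn : L ≤ Subgroup.normalizer (R : Set G) := fun x hx => Subgroup.mem_normalizer_fintype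
    (by
      rintro _ ⟨r, hr, rfl⟩
      exact ⟨⟨x, hx⟩ * r * ⟨x, hx⟩⁻¹, (Cfsg.pCore_normal 2 L).conj_mem r hr _, rfl⟩)
  have hRmax : ∀ N : Subgroup G, N ≤ L → IsPGroup 2 N → L ≤ Subgroup.normalizer (N : Set G) →
      N ≤ R := fun N hNL hN2 hLN x hx => by
    have h1 : N.subgroupOf L ≤ Cfsg.pCore 2 L :=
      PBasic.le_pCore (Subgroup.normal_subgroupOf_of_le_normalizer hLN)
        (hN2.comap_of_injective L.subtype L.subtype_injective)
    exact ⟨⟨x, hNL hx⟩, h1 hx, rfl⟩
  have hRN : ∀ h ∈ L, R ≤ Subgroup.normalizer (cjS h W : Set G) := by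
    intro h hh r hr
    rw [mem_normalizer_iff_cjS]
    have h2 : IsPGroup 2 (cjS h W ⊔ R : Subgroup G) :=
      (hW2.map _).to_sup_of_normal_right' hR2 ((hcjL hh).trans hRn)
    rw [← cjS_mul]
    refine hweak2 _ h2 (r * h) h ?_ le_sup_left
    rw [cjS_mul]
    exact (cjS_mono r le_sup_left).trans (cjS_self_of_mem (Subgroup.mem_sup_right hr)).le
  have hRW : R ≤ Subgroup.normalizer (W : Set G) := by
    have := hRN 1 (one_mem _)
    rwa [cjS_one] at this
  have hRW' : R ≤ Subgroup.normalizer (W' : Set G) := hlW ▸ hRN l hl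
  set W0 := W ⊓ R with hW0
  set W0' := W' ⊓ R with hW0'
  set T := W ⊓ W' with hT
  have hTc : L ≤ Subgroup.centralizer (T : Set G) :=
    sup_le (fun w hw => Subgroup.mem_centralizer_iff.2 fun t ht => wOf_comm ht.1 hw)
      (fun w hw => Subgroup.mem_centralizer_iff.2 fun t ht => hW'c t ht.2 w hw)
  have hTR : T ≤ R := hRmax T (inf_le_left.trans hWL) (hW2.to_le inf_le_left) fun x hx =>
    Subgroup.centralizer_le_normalizer _ (hTc hx)
  have hlW0 : cjS l W0 = W0' := by
    rw [hW0, cjS_inf, hlW, mem_normalizer_iff_cjS.1 (hRn hl)]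
  have hdT : ∀ d ∈ W', d ∈ Subgroup.centralizer (W : Set G) → d ∈ T := by
    intro d hd hdc
    refine ⟨?_, hd⟩
    have hLd : L ≤ Subgroup.centralizer ({d} : Set G) :=
      sup_le (fun w hw => Subgroup.mem_centralizer_singleton_iff.2
        (Subgroup.mem_centralizer_iff.1 hdc w hw))
        (fun w hw => Subgroup.mem_centralizer_singleton_iff.2 (hW'c w hw d hd))
    rw [← hlW] at hd
    have h1 := mem_cjS.1 hd
    have h2 : d * l = l * d := (Subgroup.mem_centralizer_singleton_iff.1 (hLd hl)).symm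
    rwa [mul_assoc, h2, inv_mul_cancel_left] at h1
  -- the other trace moves `W`
  have hmoves : ¬ W0' ≤ Subgroup.centralizer (W : Set G) := by
    intro hcen
    have h1 : W0' ≤ T := fun d hd => hdT d hd.1 (hcen hd)
    have h2 : W0 ≤ T := fun x hx => by
      have h3 : l * x * l⁻¹ ∈ T := h1 (hlW0 ▸ conj_mem_cjS hx)
      have h4 := Subgroup.mem_centralizer_iff.1 (hTc hl) _ h3
      have h5 : x = l * x * l⁻¹ := by
        refine mul_left_cancel (a := l) ?_
        rw [← h4]; group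
      exact h5 ▸ h3
    have hOL : O ⊓ L ≤ R := hRmax _ inf_le_right (hO2.to_le inf_le_left) fun x hx =>
      Subgroup.mem_normalizer_fintype fun y hy =>
        ⟨hOn.conj_mem y hy.1 x, L.mul_mem (L.mul_mem hx hy.2) (L.inv_mem hx)⟩
    refine hg2 ?_
    change IsPGroup 2 ↥L
    refine PBasic.isPGroup_iff_forall_coprime.2 fun y hy => ?_
    have hyL : (y : G) ∈ L := y.2
    have hyc : (orderOf (y : G)).Coprime 2 := by rwa [Subgroup.orderOf_coe]
    have hyO : (y : G) ∈ O := hC (Subgroup.mem_centralizer_iff.2 fun q hq => by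
      have hq' : ∀ X : Subgroup G, X ≤ L → q ∈ Subgroup.normalizer (X : Set G) → ∀ x ∈ X,
          q * x * q⁻¹ * x⁻¹ ∈ X ⊓ R := fun X hXL hqX x hx => by
        have hm := X.mul_mem ((Subgroup.mem_normalizer_iff.1 hqX x).1 hx) (X.inv_mem hx)
        refine ⟨hm, hOL ⟨?_, hXL hm⟩⟩
        have h := O.mul_mem hq (hOn.conj_mem _ (O.inv_mem hq) x)
        simpa [mul_assoc] using h
      have hqW' : q ∈ Subgroup.normalizer (W' : Set G) := by
        have h : g⁻¹ * q * g ∈ Subgroup.normalizer (W : Set G) :=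
          hSW (hOS (by simpa using hOn.conj_mem q hq g⁻¹))
        rw [mem_normalizer_iff_cjS] at h ⊢
        rw [hW', ← cjS_mul]
        have h' := congrArg (cjS g) h
        rwa [← cjS_mul, show g * (g⁻¹ * q * g) = q * g by group] at h'
      have hLq : L ≤ modSub T q := sup_le
        (fun w hw => ⟨hTc (hWL hw), h2 (hq' W hWL (hSW (hOS hq)) w hw)⟩)
        (fun w hw => ⟨hTc (hW'L hw), h1 (hq' W' hW'L hqW' w hw)⟩)
      obtain ⟨hyT, hcy⟩ := hLq hyL
      set c := q * (y : G) * q⁻¹ * (y : G)⁻¹ with hc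
      have hcomm : Commute c (y : G) := Subgroup.mem_centralizer_iff.1 hyT c hcy
      have hpow : q * (y : G) ^ orderOf (y : G) * q⁻¹ =
          c ^ orderOf (y : G) * (y : G) ^ orderOf (y : G) := by
        rw [← hcomm.mul_pow, ← conj_pow, hc, inv_mul_cancel_right]
      rw [pow_orderOf_eq_one, mul_one, mul_one, mul_inv_cancel] at hpow
      have hc1 : c = 1 := by
        obtain ⟨k, hk⟩ := Nat.coprime_two_right.1 hyc
        rw [hk, pow_succ, pow_mul, pow_two, hinvo c hcy.1, one_pow, one_mul] at hpow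
        exact hpow.symm
      rw [hc, mul_inv_eq_one] at hc1
      exact mul_inv_eq_iff_eq_mul.1 hc1)
    obtain ⟨k, hk⟩ := hO2 ⟨(y : G), hyO⟩
    have h9 : orderOf (y : G) ∣ 2 ^ k := orderOf_dvd_of_pow_eq_one (congrArg Subtype.val hk)
    exact Subtype.ext (orderOf_eq_one_iff.1
      (Nat.eq_one_of_dvd_coprimes (Nat.Coprime.pow_left k hyc.symm) h9 dvd_rfl))
  -- injectivity
  have hinj : ∀ v ∈ W, v ∉ W0 → ∀ d ∈ W0', d * v * d⁻¹ * v ∈ T →
      d ∈ Subgroup.centralizer (W : Set G) := by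
    intro v hv hv0 d hd hm
    have hv2 := hinvo v hv
    obtain ⟨h, hh, hvh⟩ : ∃ h ∈ L, v ∉ Subgroup.normalizer (cjS h W : Set G) := by
      by_contra hno
      push Not at hno
      set Nk := L ⊓ ⨅ h : L, Subgroup.normalizer (cjS (h : G) W : Set G) with hNk
      have hNkL : Nk ≤ L := inf_le_left
      have hNkW : Nk ≤ Subgroup.normalizer (W : Set G) := fun x hx => by
        have h1 := Subgroup.mem_iInf.1 (Subgroup.mem_inf.1 hx).2 (1 : L)
        rwa [OneMemClass.coe_one, cjS_one] at h1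
      have hNkn : (Nk.subgroupOf L).Normal := ⟨fun n hn x => by
        rw [Subgroup.mem_subgroupOf] at hn ⊢
        refine Subgroup.mem_inf.2 ⟨(x * n * x⁻¹).2, Subgroup.mem_iInf.2 fun h => ?_⟩
        have h1 := mem_normalizer_iff_cjS.1 (Subgroup.mem_iInf.1 (Subgroup.mem_inf.1 hn).2 (x⁻¹ * h))
        rw [mem_normalizer_iff_cjS]
        have h2 := congrArg (cjS (x : G)) h1
        simp only [Subgroup.coe_mul, Subgroup.coe_inv, ← cjS_mul, ← mul_assoc, mul_inv_cancel,
          one_mul] at h2 ⊢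
        exact h2⟩
      haveI := hNkn
      have hvNk : v ∈ Nk := Subgroup.mem_inf.2 ⟨hWL hv, Subgroup.mem_iInf.2 fun h => hno h h.2⟩
      set X := (W.subgroupOf L).subgroupOf (Nk.subgroupOf L) with hX
      have hXn : X.Normal := ⟨fun w hw x => by
        rw [hX, Subgroup.mem_subgroupOf, Subgroup.mem_subgroupOf] at hw ⊢
        exact (Subgroup.mem_normalizer_iff.1 (hNkW x.2) _).1 hw⟩
      have hX2 : IsPGroup 2 X :=
        (hW2.comap_of_injective L.subtype L.subtype_injective).comap_of_injective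
          (Nk.subgroupOf L).subtype (Nk.subgroupOf L).subtype_injective
      have h1 := (Subgroup.map_mono (f := (Nk.subgroupOf L).subtype) (PBasic.le_pCore hXn hX2)).trans
        (PBasic.map_pCore_le_of_normal (p := 2) (Nk.subgroupOf L))
      have h2 : (⟨v, hWL hv⟩ : L) ∈ Cfsg.pCore 2 L := h1 ⟨⟨⟨v, hWL hv⟩, hvNk⟩, hv, rfl⟩
      exact hv0 ⟨hv, ⟨_, h2, rfl⟩⟩
    set W'' := cjS h W with hW''
    have hW''L : W'' ≤ L := hcjL hh
    have hW''ne : W'' ≠ W := fun e => hvh (by
      rw [e]; exact Subgroup.le_normalizer hv)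
    set W0'' := W'' ⊓ R with hW0''
    have hnW : W0'' ≤ Subgroup.normalizer (W0 : Set G) := fun e he =>
      Subgroup.mem_normalizer_fintype fun x hx =>
        ⟨(Subgroup.mem_normalizer_iff.1 (hRW he.2) x).1 hx.1, R.mul_mem (R.mul_mem he.2 hx.2) (R.inv_mem he.2)⟩
    have hV : L ≤ Subgroup.normalizer ((W0 ⊔ W0'' : Subgroup G) : Set G) := by
      have hside : ∀ A : Subgroup G, A ≤ L → (∀ u ∈ A, ∀ v ∈ A, u * v = v * u) →
          R ≤ Subgroup.normalizer (A : Set G) → ∀ B : Subgroup G, B ≤ R → ∀ x ∈ A, ∀ e ∈ B,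
          x * e * x⁻¹ * e⁻¹ ∈ A ⊓ R := fun A hAL _ hRA B hB x hx e he => by
        refine ⟨?_, ?_⟩
        · have := A.mul_mem hx ((Subgroup.mem_normalizer_iff.1 (hRA (hB he)) _).1 (A.inv_mem hx))
          simpa [mul_assoc] using this
        · exact R.mul_mem ((Subgroup.mem_normalizer_iff.1 (hRn (hAL hx)) e).1 (hB he))
            (R.inv_mem (hB he))
      have hW''c : ∀ u ∈ W'', ∀ v ∈ W'', u * v = v * u := by
        rintro _ ⟨u, hu, rfl⟩ _ ⟨v, hv, rfl⟩
        rw [← map_mul, wOf_comm hu hv, map_mul]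
      rw [← hgen h hh hW''ne]
      refine sup_le (fun x hx => Subgroup.mem_normalizer_fintype fun z hz => ?_)
        fun x hx => Subgroup.mem_normalizer_fintype fun z hz => ?_
      · obtain ⟨a, ha, b, hb, rfl⟩ := (SolvBasic.mem_sup_iff_of_le_normalizer hnW).1 hz
        have h1 := hside W hWL (fun u hu v hv => wOf_comm hu hv) hRW W0'' inf_le_right x hx b hb
        rw [show x * (a * b) * x⁻¹ = (x * a * x⁻¹) * ((x * b * x⁻¹ * b⁻¹) * b) by group,
          show x * a * x⁻¹ = a by rw [wOf_comm hx ha.1]; group]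
        exact mul_mem (Subgroup.mem_sup_left ha)
          (mul_mem (Subgroup.mem_sup_left (show x * b * x⁻¹ * b⁻¹ ∈ W0 from h1))
            (Subgroup.mem_sup_right hb))
      · obtain ⟨a, ha, b, hb, rfl⟩ := (SolvBasic.mem_sup_iff_of_le_normalizer hnW).1 hz
        have h1 := hside W'' hW''L hW''c (hRN h hh) W0 inf_le_right x hx a ha
        rw [show x * (a * b) * x⁻¹ = ((x * a * x⁻¹ * a⁻¹) * a) * (x * b * x⁻¹) by group,
          show x * b * x⁻¹ = b by rw [hW''c x hx b hb.1]; group]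
        exact mul_mem (mul_mem (Subgroup.mem_sup_right (show x * a * x⁻¹ * a⁻¹ ∈ W0'' from h1))
          (Subgroup.mem_sup_left ha)) (Subgroup.mem_sup_right hb)
    have hdV : d ∈ W0 ⊔ W0'' := by
      have h1 : cjS l W0 ≤ W0 ⊔ W0'' :=
        (cjS_mono l le_sup_left).trans (mem_normalizer_iff_cjS.1 (hV hl)).le
      rw [hlW0] at h1
      exact h1 hd
    obtain ⟨a, ha, b, hb, rfl⟩ := (SolvBasic.mem_sup_iff_of_le_normalizer hnW).1 hdV
    -- `b` centralizes the pair modulo `T`
    set c := a * b * v * (a * b)⁻¹ * v with hc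
    have hvi : v⁻¹ = v := inv_eq_of_mul_eq_one_right hv2
    have hbv : b * v * b⁻¹ * v⁻¹ = c := by
      have h1 : a * c = c * a := (Subgroup.mem_centralizer_iff.1 (hTc (hWL ha.1)) c hm).symm
      have h2 : a * v = v * a := wOf_comm ha.1 hv
      calc b * v * b⁻¹ * v⁻¹ = a⁻¹ * (a * b * v * (a * b)⁻¹ * v) * (v⁻¹ * a * v⁻¹) := by group
        _ = a⁻¹ * c * a := by
          rw [← hc, hvi, ← h2, mul_assoc a v v, hv2, mul_one]
        _ = c := by rw [mul_assoc, ← h1, inv_mul_cancel_left]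
    have hW''b : ∀ x ∈ W'', b * x * b⁻¹ * x⁻¹ = 1 := fun x hx => by
      obtain ⟨u, hu, hu'⟩ := hb.1
      obtain ⟨w, hw, hw'⟩ := hx
      rw [← hu', ← hw', ← map_inv, ← map_inv, ← map_mul, ← map_mul, ← map_mul, wOf_comm hu hw,
        mul_inv_cancel_right, mul_inv_cancel, map_one]
    have hLb : L ≤ modSub T b := by
      have h1 : W'' ≤ modSub T b := fun x hx => ⟨hTc (hW''L hx), by
        rw [hW''b x hx]; exact one_mem _⟩
      have h2 : v ∈ modSub T b := ⟨hTc (hWL hv), by rw [hbv]; exact hm⟩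
      have h3 : cjS v W'' ≤ modSub T b := fun x hx => by
        have h4 := mul_mem (mul_mem h2 (h1 (mem_cjS.1 hx))) (inv_mem h2)
        rwa [show v * (v⁻¹ * x * v) * v⁻¹ = x by group] at h4
      have h4 := hgen (h⁻¹ * v * h) (L.mul_mem (L.mul_mem (L.inv_mem hh) (hWL hv)) hh) fun e => by
        refine hvh (mem_normalizer_iff_cjS.2 ?_)
        rw [hW'', ← cjS_mul]
        have e' := congrArg (cjS h) e
        rwa [← cjS_mul, show h * (h⁻¹ * v * h) = v * h by group] at e'
      have h5 : cjS h (W ⊔ cjS (h⁻¹ * v * h) W) = L := by rw [h4, cjS_self_of_mem hh]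
      rw [cjS_sup, ← cjS_mul, show h * (h⁻¹ * v * h) = v * h by group, cjS_mul] at h5
      rw [← h5]
      exact sup_le h1 h3
    refine Subgroup.mem_centralizer_iff.2 fun w hw => ?_
    have haw : w * a = a * w := wOf_comm hw ha.1
    suffices hbw : b * w = w * b by
      rw [← mul_assoc, haw, mul_assoc, ← hbw, ← mul_assoc]
    obtain ⟨-, hth⟩ := hLb hh
    set t := b * h * b⁻¹ * h⁻¹ with ht
    have hw'' : h * w * h⁻¹ ∈ W'' := conj_mem_cjS hw
    have hb1 : b * (h * w * h⁻¹) * b⁻¹ = h * w * h⁻¹ := mul_inv_eq_one.1 (hW''b _ hw'')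
    have htw : t * (h * w * h⁻¹) = (h * w * h⁻¹) * t :=
      Subgroup.mem_centralizer_iff.1 (hTc (hW''L hw'')) t hth
    refine mul_inv_eq_iff_eq_mul.1 ?_
    calc b * w * b⁻¹ = (b * h * b⁻¹)⁻¹ * (b * (h * w * h⁻¹) * b⁻¹) * (b * h * b⁻¹) := by group
      _ = (t * h)⁻¹ * (h * w * h⁻¹) * (t * h) := by
        rw [hb1, show b * h * b⁻¹ = t * h by rw [ht]; group]
      _ = h⁻¹ * t⁻¹ * ((h * w * h⁻¹) * t) * h := by group
      _ = w := by rw [← htw]; group
  -- the configuration
  have hcfg : CfgG W W0' W0 T := by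
    have hTd : W0' ≤ Subgroup.centralizer (T : Set G) := fun d hd => hTc (hW'L hd.1)
    refine ⟨fun d hd => ?_, hmoves, inf_le_left, fun e => hg2 ?_, le_inf inf_le_left hTR,
      fun t ht => Subgroup.mem_centralizer_iff.2 fun d hd =>
        (Subgroup.mem_centralizer_iff.1 (hTd hd) t ht).symm,
      fun d hd v hv => ⟨comm_mem_of_normalizer (hRW hd.2) hv,
        comm_mem_of_normalizer' (hRn (hWL hv)) hd.2 (hinvo v hv)⟩,
      fun d hd v hv => ⟨comm_mem_of_normalizer (hRW hd.2) hv.1,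
        comm_mem_of_normalizer' (hRW' hv.2) hd.1 (hinvo v hv.1)⟩, hinj, ?_⟩
    · obtain ⟨w, hw, he⟩ := hd.1
      rw [← he, ← map_mul, hinvo w hw, map_one]
      exact one_mem _
    · have hWR : W ≤ R := fun w hw => (e.ge hw : w ∈ W0).2
      exact hR2.to_le (sup_le hWR (hlW ▸ (cjS_mono l hWR).trans (mem_normalizer_iff_cjS.1 (hRn hl)).le))
    · have h1 : W0' ⊓ Subgroup.centralizer (W : Set G) = T := le_antisymm (fun d hd => hdT d hd.1.1 hd.2)
        fun t ht => ⟨⟨ht.2, hTR ht⟩, Subgroup.mem_centralizer_iff.2 fun w hw => wOf_comm hw ht.1⟩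
      rw [h1, ← hlW0, card_cjS, mul_comm]
  exact ((NoBad2.of_normalizer hSW (noBad2_wOf (S : Subgroup G)) (hR2.to_le inf_le_right)
    (inf_le_right.trans hRW)) W0' le_rfl).2 _ _ hcfg

/-- The inductive step. -/
theorem wOf_normal_step {n : ℕ} (hn : NormalBelow.{u} n) (hG : Nat.card G ≤ n)
    (h4 : ¬ Involves (Equiv.Perm (Fin 4)) G) (hC : Functors.PConstr 2 G) (S : Sylow 2 G) :
    (wOf (S : Subgroup G)).Normal := by
  classical
  haveI : Fact (Nat.Prime 2) := ⟨Nat.prime_two⟩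
  set W := wOf (S : Subgroup G) with hW
  have hWQ : W ≤ Cfsg.pCore 2 G := wOf_le_pCore hn hG h4 hC S
  haveI hQn : (Cfsg.pCore 2 G).Normal := Cfsg.pCore_normal 2 G
  have hQS : Cfsg.pCore 2 G ≤ (S : Subgroup G) := PBasic.pCore_le_sylow S
  have hWS : W ≤ (S : Subgroup G) := wOf_le _
  have hSW : (S : Subgroup G) ≤ Subgroup.normalizer (W : Set G) :=
    Subgroup.le_normalizer.trans (wOf_normalizer _)
  have hP := noBad2_wOf (S : Subgroup G)
  rw [← hW] at hP
  -- conjugates commute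
  have hcom : ∀ g, cjS g W ≤ Subgroup.centralizer (W : Set G) := by
    intro g
    by_contra hne
    have hle : ∀ g, cjS g W ≤ (S : Subgroup G) := fun g => by
      rintro _ ⟨w, hw, rfl⟩
      exact hQS (hQn.conj_mem w (hWQ hw) g)
    have hsq : ∀ g, ∀ d ∈ cjS g W, d * d ∈ Subgroup.centralizer (W : Set G) := fun g => by
      rintro _ ⟨w, hw, rfl⟩
      rw [← map_mul, (wOf_elem hw).1, map_one]
      exact one_mem _
    have h1 := (hP _ (hle g)).1 (hsq g) hne
    have hne' : ¬ cjS g⁻¹ W ≤ Subgroup.centralizer (W : Set G) := fun h => hne (by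
      have h' := (map_le_centralizer_map (f := (MulAut.conj g).toMonoidHom) (MulAut.conj g).injective).2 h
      change cjS g (cjS g⁻¹ W) ≤ Subgroup.centralizer (cjS g W : Set G) at h'
      rw [← cjS_mul, mul_inv_cancel, cjS_one] at h'
      exact Subgroup.le_centralizer_iff.1 h')
    have h2 := (hP _ (hle g⁻¹)).1 (hsq g⁻¹) hne'
    have hc1 := card_inf_centralizer_map (f := (MulAut.conj g).toMonoidHom) (MulAut.conj g).injective
      W (cjS g⁻¹ W)
    have hc2 := card_inf_centralizer_map (f := (MulAut.conj g).toMonoidHom) (MulAut.conj g).injective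
      (cjS g⁻¹ W) W
    change Nat.card ↥(cjS g W ⊓ Subgroup.centralizer (cjS g (cjS g⁻¹ W) : Set G)) = _ at hc1
    change Nat.card ↥(cjS g (cjS g⁻¹ W) ⊓ Subgroup.centralizer (cjS g W : Set G)) = _ at hc2
    rw [← cjS_mul, mul_inv_cancel, cjS_one] at hc1 hc2
    rw [← hc1, ← hc2, show Nat.card (cjS g⁻¹ W) = Nat.card W from
      Subgroup.card_map_of_injective (MulAut.conj g⁻¹).injective] at h2
    rw [show Nat.card (cjS g W) = Nat.card W from
      Subgroup.card_map_of_injective (MulAut.conj g).injective] at h1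
    have h1' := Nat.lt_of_mul_lt_mul_left (a := Nat.card W) (h1.trans_le (Nat.mul_comm _ _).le)
    have h2' := Nat.lt_of_mul_lt_mul_left (a := Nat.card W) (h2.trans_le (Nat.mul_comm _ _).le)
    omega
  set U := Subgroup.normalClosure (W : Set G) with hU
  have hconj : ∀ x ∈ Group.conjugatesOfSet (W : Set G), ∃ g, x ∈ cjS g W := by
    intro x hx
    obtain ⟨w, hw, hwx⟩ := Group.mem_conjugatesOfSet_iff.1 hx
    obtain ⟨g, rfl⟩ := isConj_iff.1 hwx
    exact ⟨g, w, hw, rfl⟩
  have hUQ : U ≤ Cfsg.pCore 2 G := Subgroup.normalClosure_le_normal hWQ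
  have hgenc : ∀ x ∈ Group.conjugatesOfSet (W : Set G), ∀ y ∈ Group.conjugatesOfSet (W : Set G),
      Commute x y := by
    intro x hx y hy
    obtain ⟨g, hg⟩ := hconj x hx
    obtain ⟨h, hh⟩ := hconj y hy
    have h1 := (map_le_centralizer_map (f := (MulAut.conj h).toMonoidHom) (MulAut.conj h).injective).2
      (hcom (h⁻¹ * g))
    change cjS h (cjS (h⁻¹ * g) W) ≤ Subgroup.centralizer (cjS h W : Set G) at h1
    rw [← cjS_mul, mul_inv_cancel_left] at h1
    exact (Subgroup.mem_centralizer_iff.1 (h1 hg) y hh).symm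
  have hUc : ∀ x ∈ U, ∀ y ∈ U, Commute x y := by
    intro x hx y hy
    induction hx using Subgroup.closure_induction with
    | mem x hx =>
      induction hy using Subgroup.closure_induction with
      | mem y hy => exact hgenc x hx y hy
      | one => exact Commute.one_right x
      | mul a b _ _ ha hb => exact ha.mul_right hb
      | inv a _ ha => exact ha.inv_right
    | one => exact Commute.one_left y
    | mul a b _ _ ha hb => exact ha.mul_left hb
    | inv a _ ha => exact ha.inv_left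
  have hUsq : ∀ x ∈ U, x * x = 1 := by
    intro x hx
    induction hx using Subgroup.closure_induction with
    | mem x hx =>
      obtain ⟨g, w, hw, rfl⟩ := hconj x hx
      rw [← map_mul, (wOf_elem hw).1, map_one]
    | one => exact one_mul 1
    | mul a b ha' hb' ha hb =>
      rw [show a * b * (a * b) = a * (b * a) * b by group, (hUc b hb' a ha').eq,
        show a * (a * b) * b = (a * a) * (b * b) by group, ha, hb, one_mul]
    | inv a _ ha => rw [← mul_inv_rev, ha, inv_one]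
  haveI hUn : U.Normal := Subgroup.normalClosure_normal
  have hPU := gstep2 h4 (S := S) (W := W) (V := U) (fun x hx y hy => (hUc x hx y hy).eq) hUsq
    Subgroup.le_normalClosure (fun N hN hle => by haveI := hN; exact Subgroup.normalClosure_le_normal hle)
    hSW hP
  -- the Thompson subgroup centralizes `U`
  set CU := Subgroup.centralizer (U : Set G) with hCU
  have hJ : Cfsg.thompsonSubgroupOf 2 (S : Subgroup G) ≤ CU := by
    rw [Thompson.thompsonSubgroupOf_eq]
    refine sSup_le fun A hA => ?_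
    obtain ⟨hAS, hAe, hmax⟩ := hA
    by_contra hne
    have hA2 : ∀ a ∈ A, a * a = 1 := fun a ha => by rw [← pow_two]; exact hAe.2 a ha
    have hAc : ∀ a ∈ A, ∀ b ∈ A, Commute a b := fun a ha b hb =>
      Thompson.commute_of_isElementaryAbelian hAe ha hb
    have h1 := (hPU A hAS).1 (fun a ha => by rw [hA2 a ha]; exact one_mem _) hne
    set A₀ := A ⊓ CU with hA₀
    set B := A₀ ⊔ U with hB
    have hmem : ∀ x ∈ B, ∃ v ∈ U, ∃ a ∈ A₀, x = v * a := by
      intro x hx
      rw [hB, sup_comm] at hx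
      exact (SolvBasic.mem_sup_iff_of_le_normalizer
        (le_top.trans_eq (Subgroup.normalizer_eq_top (H := U)).symm)).1 hx
    have hva : ∀ v ∈ U, ∀ a ∈ A₀, Commute v a := fun v hv a ha =>
      Subgroup.mem_centralizer_iff.1 ha.2 v hv
    have hBe : Cfsg.IsElementaryAbelian 2 B := by
      refine ⟨.of_setLike_mul_comm fun x hx y hy => ?_, fun x hx => ?_⟩
      · obtain ⟨v, hv, a, ha, rfl⟩ := hmem x hx
        obtain ⟨w, hw, c, hc, rfl⟩ := hmem y hy
        exact (((hUc v hv w hw).mul_right (hva v hv c hc)).mul_left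
          ((hva w hw a ha).symm.mul_right (hAc a ha.1 c hc.1))).eq
      · obtain ⟨v, hv, a, ha, rfl⟩ := hmem x hx
        rw [(hva v hv a ha).mul_pow, pow_two, pow_two, hUsq v hv, hA2 a ha.1, one_mul]
    have h2 := hmax B (sup_le (inf_le_left.trans hAS) (hUQ.trans hQS)) hBe
    have h3 := SolvBasic.card_sup_mul_card_inf (N := U) (H := A₀)
      (le_top.trans_eq (Subgroup.normalizer_eq_top (H := U)).symm)
    rw [sup_comm, ← hB] at h3
    have h4' : Nat.card ↥(U ⊓ A₀) ≤ Nat.card ↥(U ⊓ Subgroup.centralizer (A : Set G)) :=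
      Subgroup.card_le_of_le fun x hx => ⟨hx.1,
        Subgroup.mem_centralizer_iff.2 fun a ha => (hAc a ha x hx.2.1).eq⟩
    have h5 := Nat.mul_le_mul h2 h4'
    rw [h3] at h5
    linarith
  -- factorization
  haveI : CU.Normal := inferInstance
  obtain ⟨P, hPe⟩ := PBasic.exists_sylow_subgroupOf S CU
  set T := (S : Subgroup G) ⊓ CU with hT
  have hPmap : (P : Subgroup ↥CU).map CU.subtype = T := by
    rw [hPe, Subgroup.subgroupOf_map_subtype]
  have hfr := Sylow.normalizer_sup_eq_top P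
  rw [hPmap] at hfr
  have hJT : Cfsg.thompsonSubgroupOf 2 T = Cfsg.thompsonSubgroupOf 2 (S : Subgroup G) :=
    Thompson.thompsonSubgroupOf_eq_of_le (le_inf (Thompson.thompsonSubgroupOf_le 2 _) hJ) inf_le_left
  set N := Subgroup.normalizer (Cfsg.thompsonSubgroupOf 2 (S : Subgroup G) : Set G) with hN
  have hTN : Subgroup.normalizer (T : Set G) ≤ N := by
    have := Thompson.normalizer_le_normalizer_thompsonSubgroupOf 2 T
    rwa [hJT] at this
  have hSN : (S : Subgroup G) ≤ N :=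
    Subgroup.le_normalizer.trans (Thompson.normalizer_le_normalizer_thompsonSubgroupOf 2 _)
  -- `W` is normal in `N`
  have hNW : N ≤ Subgroup.normalizer (W : Set G) := by
    set τ := Subgroup.inclusion hSN with hτ
    have hr : τ.range = (S : Subgroup G).subgroupOf N := Subgroup.inclusion_range hSN
    have hcl : GenClass τ := by
      refine ⟨inferInstance,
        fun h => h4 (SFourFree.involves_mono N.subtype N.subtype_injective h),
        Subgroup.inclusion_injective hSN, ⟨S.subtype hSN, by rw [hr]; rfl⟩, ?_⟩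
      have h1 : Cfsg.thompsonSubgroupOf 2 τ.range =
          (Cfsg.thompsonSubgroupOf 2 (S : Subgroup G)).subgroupOf N := by
        refine Subgroup.map_injective N.subtype_injective ?_
        rw [← Thompson.thompsonSubgroupOf_map_of_injective _ _ N.subtype_injective,
          Subgroup.subgroupOf_map_subtype, inf_eq_left.2 (Subgroup.le_normalizer), hr,
          Subgroup.subgroupOf_map_subtype, inf_eq_left.2 hSN]
      rw [h1, hN]
      exact Subgroup.normal_subgroupOf_of_le_normalizer le_rfl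
    have hn := wGen_map_normal hcl
    have he : ((wGen (S : Subgroup G)).map τ).map N.subtype = W := by
      rw [Subgroup.map_map, hW, wOf]; rfl
    intro n hn'
    refine Subgroup.mem_normalizer_fintype fun w hw => ?_
    rw [← he] at hw
    obtain ⟨z, hz, rfl⟩ := hw
    rw [← he]
    exact ⟨⟨n, hn'⟩ * z * ⟨n, hn'⟩⁻¹, hn.conj_mem z hz _, rfl⟩
  refine Subgroup.normalizer_eq_top_iff.1 (top_le_iff.1 (hfr.ge.trans (sup_le (hTN.trans hNW) ?_)))
  exact fun c hc => Subgroup.centralizer_le_normalizer _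
    (Subgroup.centralizer_le (Subgroup.le_normalClosure) hc)

theorem normalBelow : ∀ n, NormalBelow.{u} n := by
  intro n
  induction n with
  | zero => intro Y _ _ h; exact absurd h (Nat.not_lt_zero _)
  | succ n ih => intro Y _ _ hlt h4 hC T; exact wOf_normal_step ih (Nat.lt_succ_iff.1 hlt) h4 hC T

/-- **The subgroup is normal** in `S₄`-free groups of characteristic two. -/
theorem wOf_normal (h4 : ¬ Involves (Equiv.Perm (Fin 4)) G)
    (hC : Subgroup.centralizer (Cfsg.pCore 2 G : Set G) ≤ Cfsg.pCore 2 G) (S : Sylow 2 G) :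
    (wOf (S : Subgroup G)).Normal :=
  normalBelow (Nat.card G + 1) G (Nat.lt_succ_self _) h4 hC S

end Cfsg.Agent.SFW

namespace Cfsg.Agent.SFW

open Cfsg Cfsg.Agent.S3Free

universe v

theorem wOf_range {Q G : Type v} [Group Q] [Group G] (τ : Q →* G) (hτ : Function.Injective τ) :
    wOf τ.range = (wGen Q).map τ := by
  rw [MonoidHom.range_eq_map, wOf_map τ hτ, wOf]
  congr 1
  exact wGen_map Subgroup.topEquiv

end Cfsg.Agent.SFW
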